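import Cfsg.Agent.H19.Co1M24.Twist

/-!
For one of the two families of maximal totally singular spaces the centraliser is abelian.
-/

set_option autoImplicit false
set_option linter.unusedSectionVars false

namespace H19.C1M

open H43 H79.Co1T
open H69 (LXFam)
open H69.LXFam (Sing)
open H69.Pair (half mem_half)

variable {G : Type*} [Group G] [Finite G]
variable {F : G → Subgroup G} {z p : G} {π : G → V8} {ρ : G → orthGroup q8} {e f : Fin 4 → G}

namespace Chart

/-- The centraliser of the totally singular part is abelian. -/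
def Good (_ : Chart F z p π ρ e f) : Prop := ∀ x ∈ Cen p e, ∀ y ∈ Cen p e, Commute x y

/-- An element centralising both totally singular spaces commutes with one of the two lifts. -/
theorem not_both (C : Chart F z p π ρ e f) {d a a' : G}
    (hd : d ∈ Cen p e) (hdd : d * d = 1) (hM : C.M d 2 3 = 1) (hM3 : C.M d 3 2 = 1)
    (hM2 : ∀ k, k ≠ 3 → C.M d 2 k = 0) (hM3' : ∀ k, k ≠ 2 → C.M d 3 k = 0)
    (ha : a ∈ half F (e 0) p) (haβ : (C.frame 0).β a = π (e 1))
    (ha' : a' ∈ half F (e 0) p) (ha'β : (C.frame 0).β a' = π (f 1))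
    (h : d * a * d⁻¹ * a⁻¹ = p) (h' : d * a' * d⁻¹ * a'⁻¹ = p) : False := by
  set Fr := C.frame 0
  obtain ⟨dp, de⟩ := mem_Cen.mp hd
  have du : Commute d (e 0) := de 0
  obtain ⟨πu, ρu, Pu⟩ := C.W.pt (e 0) Fr.su
  have hFu : ∀ {b}, b ∈ half F (e 0) p → b ∈ F (e 0) := fun hb => (mem_half.mp hb).1
  have hres : ∀ {g}, g ∈ F (e 0) → πu (d * g * d⁻¹ * g⁻¹) ∈ resid (ρu d) := fun {g} hg => by
    rw [Pu.map_mul _ (Pu.norm d du g hg) _ (inv_mem hg), Pu.act d du g hg, Pu.πinv hg]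
    exact mem_resid _ _
  have di : d⁻¹ = d := inv_eq_of_mul_eq_one_right hdd
  -- two further residual vectors
  have hk : ∀ i l : Fin 4, i ≠ 0 → C.M d i l = 1 → (∀ k, k ≠ l → C.M d i k = 0) → l ≠ 0 →
      ∃ k ∈ half F (e 0) p, Fr.β k = π (e l) ∧ πu k ∈ resid (ρu d) := by
    intro i l hi hil hrest hl
    have hw : InW (π (e 0)) (π (f 0)) (π (f i)) :=
      ⟨by rw [C.fe, if_neg (Ne.symm hi)], C.ff _ _⟩
    obtain ⟨b, hb, hbv⟩ := Fr.β_surj hw
    obtain ⟨hm, hβ⟩ := Fr.conj_halfB dp du hb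
    refine ⟨d * b * d⁻¹ * b⁻¹, mul_mem hm (inv_mem hb), ?_, hres (hFu hb)⟩
    have hinv : Fr.β b⁻¹ = π (f i) := by
      have e0 := Fr.β_mul hb (inv_mem hb)
      rw [mul_inv_cancel, Fr.β_mem (one_mem _), hbv] at e0
      exact (eq_of_vadd_eq_zero e0.symm).symm
    rw [Fr.β_mul hm (inv_mem hb), hβ, hinv, hbv, C.image_f hd,
      Finset.sum_eq_single l (fun k _ hk => by rw [hrest k hk, zero_smul])
        (fun h0 => absurd (Finset.mem_univ l) h0), hil, one_smul, map_add,
      hw.proj_eq, InW.proj_eq ⟨C.ee l 0, by rw [C.ef, if_neg hl]⟩]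
    rw [add_comm (π (f i)), add_assoc, vadd_self, add_zero]
  obtain ⟨k2, hk2, hk2β, hk2r⟩ := hk 2 3 (by decide) hM hM2 (by decide)
  obtain ⟨k3, hk3, hk3β, hk3r⟩ := hk 3 2 (by decide) hM3 hM3' (by decide)
  have hpr : πu p ∈ resid (ρu d) := by have := hres (hFu ha); rwa [h] at this
  have hpu : p ∈ F (e 0) := Fr.pair.vu
  have hli : LinearIndependent (ZMod 2) ![πu p, πu k2, πu k3] := by
    rw [Fintype.linearIndependent_iff]
    intro g hg
    simp only [Fin.sum_univ_three, Matrix.cons_val_zero, Matrix.cons_val_one, Matrix.cons_val] at hg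
    have key : ∀ {x : G} (c : ZMod 2), x ∈ F (e 0) → πu (bp x c) = c • πu x := fun c _ => by
      rcases z2c c with rfl | rfl
      · rw [bp_zero, Pu.one, zero_smul]
      · rw [bp_one, one_smul]
    have hp' : p ∈ half F (e 0) p := Fr.pair.symm.inf_le_half ⟨hpu, C.P.mem⟩
    have hb23 : bp k2 (g 1) * bp k3 (g 2) ∈ half F (e 0) p := mul_mem (bp_mem hk2 _) (bp_mem hk3 _)
    have hmem := mul_mem (bp_mem hp' (g 0)) hb23
    have hsum : πu (bp p (g 0) * (bp k2 (g 1) * bp k3 (g 2))) = 0 := by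
      rw [Pu.map_mul _ (bp_mem hpu _) _ (hFu hb23),
        Pu.map_mul _ (bp_mem (hFu hk2) _) _ (bp_mem (hFu hk3) _), key _ hpu, key _ (hFu hk2),
        key _ (hFu hk3), ← add_assoc]
      exact hg
    have hβ0 : Fr.β (bp p (g 0) * (bp k2 (g 1) * bp k3 (g 2))) = 0 := by
      rcases Pu.ker _ (hFu hmem) hsum with e0 | e0 <;> rw [e0]
      · exact Fr.β_mem (one_mem _)
      · exact Fr.β_mem Fr.hu
    have hbp : ∀ {x : G} (c : ZMod 2), x ∈ half F (e 0) p → Fr.β (bp x c) = c • Fr.β x := fun c _ => by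
      rcases z2c c with rfl | rfl
      · rw [bp_zero, Fr.β_mem (one_mem _), zero_smul]
      · rw [bp_one, one_smul]
    rw [Fr.β_mul (bp_mem hp' _) hb23, Fr.β_mul (bp_mem hk2 _) (bp_mem hk3 _), hbp _ hk2, hbp _ hk3,
      hk2β, hk3β, Fr.β_mem (bp_mem C.P.mem _), zero_add] at hβ0
    have g1 : g 1 = 0 := by
      have := congrArg (fun w => B8 w (π (f 3))) hβ0
      simpa [C.ef] using this
    have g2 : g 2 = 0 := by
      have := congrArg (fun w => B8 w (π (f 2))) hβ0
      simpa [C.ef] using this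
    rw [g1, g2, zero_smul, zero_smul, add_zero, add_zero, smul_eq_zero] at hg
    have g0 : g 0 = 0 := hg.resolve_right fun h0 => by
      rcases Pu.ker p hpu h0 with e0 | e0
      exacts [C.P.pne e0, Fr.ne e0.symm]
    intro i
    fin_cases i
    exacts [g0, g1, g2]
  have h3 : 3 ≤ Module.finrank (ZMod 2) (resid (ρu d)) := by
    have hle : Submodule.span (ZMod 2) (Set.range ![πu p, πu k2, πu k3]) ≤ resid (ρu d) := by
      rw [Submodule.span_le]
      rintro _ ⟨i, rfl⟩
      fin_cases i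
      exacts [hpr, hk2r, hk3r]
    have := Submodule.finrank_mono hle
    rwa [finrank_span_eq_card hli, Fintype.card_fin] at this
  have hg2 : ρu d * ρu d = 1 := by rw [← Pu.ρ_mul du du, hdd, Pu.ρ_one]
  have h4 := H44.finrank_resid_le nd8 hg2
  rw [dim8] at h4
  obtain ⟨m, hm⟩ := even_resid (Pu.even d du)
  have hsum := finrank_fixed_add (ρu d)
  have hle : resid (ρu d) ≤ LinearMap.ker (resMap (ρu d)) := by
    rintro _ ⟨w, rfl⟩
    exact LinearMap.mem_ker.mpr (H44.resMap_resMap hg2 w)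
  have heq := Submodule.eq_of_le_of_finrank_le hle (by omega)
  -- the commuting element is an involution
  set b := a * a' with hbdef
  have hb : b ∈ half F (e 0) p := mul_mem ha ha'
  have hdb : d * b * d⁻¹ = b := by
    have e1 : d * a * d⁻¹ = p * a := mul_inv_eq_iff_eq_mul.mp h
    have e2 : d * a' * d⁻¹ = p * a' := mul_inv_eq_iff_eq_mul.mp h'
    have hap : Commute a p := (Fr.bcomm ha).1
    calc d * (a * a') * d⁻¹ = d * a * d⁻¹ * (d * a' * d⁻¹) := by group
      _ = p * (a * p) * a' := by rw [e1, e2]; group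
      _ = (p * p) * (a * a') := by rw [hap.eq]; group
      _ = _ := by rw [C.P.pp, one_mul]
  have hfix : πu b ∈ resid (ρu d) := by
    rw [heq, mem_fixed, ← Pu.act d du b (hFu hb), hdb]
  obtain ⟨w, hw⟩ := hfix
  rw [resMap_eq_add] at hw
  obtain ⟨g, hg, rfl⟩ := Pu.surj w
  set k := d * g * d⁻¹ * g⁻¹ with hk'
  have hkF : k ∈ F (e 0) := mul_mem (Pu.norm d du g hg) (inv_mem hg)
  have hπk : πu k = πu b := by
    rw [hk', Pu.map_mul _ (Pu.norm d du g hg) _ (inv_mem hg), Pu.act d du g hg, Pu.πinv hg, hw]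
  have hconj : d * k * d⁻¹ = k⁻¹ := by
    rw [hk']
    calc d * (d * g * d⁻¹ * g⁻¹) * d⁻¹ = (d * d) * g * d⁻¹ * g⁻¹ * d⁻¹ := by group
      _ = _ := by rw [hdd, one_mul, di]; simp [di, mul_assoc]
  have hb2 : b * b = 1 := by
    rcases Pu.eq_cases hkF (hFu hb) hπk with e0 | e0
    · rw [e0] at hdb ⊢
      rw [hconj] at hdb
      nth_rewrite 1 [← hdb]
      exact inv_mul_cancel k
    · have : d * k * d⁻¹ = k := by
        rw [e0, show d * (k * e 0) * d⁻¹ = d * k * d⁻¹ * (d * e 0 * d⁻¹) by group,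
          show d * e 0 * d⁻¹ = e 0 by rw [du.eq, mul_inv_cancel_right]] at hdb
        exact mul_right_cancel hdb
      rw [hconj] at this
      have hkk : k * k = 1 := by
        nth_rewrite 1 [← this]
        exact inv_mul_cancel k
      rw [e0, show k * e 0 * (k * e 0) = k * (e 0 * k) * e 0 by group, ← (Pu.comm k hkF).eq,
        show k * (k * e 0) * e 0 = k * k * (e 0 * e 0) by group, hkk, C.e_sq, mul_one]
  have hq : q8 (Fr.β b) = 1 := by
    rw [hbdef, Fr.β_mul ha ha', haβ, ha'β, q_add, C.qe, C.qf,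
      show polB q8 (π (e 1)) (π (f 1)) = 1 from (C.ef 1 1).trans (by simp)]
    decide
  rw [Fr.sq_b hb, hq, bp_one] at hb2
  exact Fr.upne hb2

theorem std_transport (C : Chart F z p π ρ e f) (hs : Std π e f) (τ : Equiv.Perm (Fin 4))
    (σ : Equiv.Perm (Fin 4)) (he : ∀ i, (eI i ∘ both τ) ∘ both τ = eI (σ i))
    (hf : ∀ i, (fI i ∘ both τ) ∘ both τ = fI (σ i)) {x y x' y' : G} {j l j' l' : Fin 4}
    (hx : x ∈ Cen p e) (hy : y ∈ Cen p e) (hx' : x' ∈ Cen p e) (hy' : y' ∈ Cen p e)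
    (mx : ∀ i k, C.M x i k = pairM j l i k) (my : ∀ i k, C.M y i k = pairM j' l' i k)
    (mx' : ∀ i k, C.M x' i k = pairM (σ j) (σ l) i k)
    (my' : ∀ i k, C.M y' i k = pairM (σ j') (σ l') i k) (h : Commute x y) : Commute x' y' := by
  have key : ∀ a b i k : Fin 4, pairM a b i k = pairM (σ a) (σ b) (σ i) (σ k) := by
    intro a b i k; simp [pairM]
  refine C.commute_transport (C.reindex σ) (g := permOrth (both τ) (qs_both τ) *
    permOrth (both τ) (qs_both τ)) (dick_sq _) (fun i => ?_) (fun i => ?_) hx hy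
    (by rwa [Cen_reindex]) (by rwa [Cen_reindex]) (fun i k => ?_) (fun i k => ?_) h
  · rw [orth_mul_apply, permOrth_apply, permOrth_apply, hs.1, Function.comp_apply, hs.1]
    exact he i
  · rw [orth_mul_apply, permOrth_apply, permOrth_apply, hs.2, Function.comp_apply, hs.2]
    exact hf i
  · rw [mx, key]; exact (mx' (σ i) (σ k)).symm
  · rw [my, key]; exact (my' (σ i) (σ k)).symm

theorem good_of_commute (C : Chart F z p π ρ e f) (hs : Std π e f) {x y : G} (hx : x ∈ Cen p e)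
    (hy : y ∈ Cen p e) (mx : ∀ i k, C.M x i k = pairM 0 1 i k)
    (my : ∀ i k, C.M y i k = pairM 2 3 i k) (h : Commute x y) : C.Good := by
  classical
  have hg : ∀ j l : Fin 4, ∃ b, b ∈ Cen p e ∧ (j ≠ l → b ∈ half F (e j) p ∧
      (C.frame j).β b = π (e l) ∧ ∀ i k, C.M b i k = pairM j l i k) := fun j l => by
    by_cases hjl : j = l
    · exact ⟨1, one_mem _, fun h => absurd hjl h⟩
    · obtain ⟨b, h1, h2, -, h4, h5⟩ := C.exists_gen hjl
      exact ⟨b, h2, fun _ => ⟨h1, h4, h5⟩⟩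
  choose b hbC hb using hg
  have hbM : ∀ {j l}, j ≠ l → ∀ i k, C.M (b j l) i k = pairM j l i k := fun h => (hb _ _ h).2.2
  have hswap : ∀ {j l}, j ≠ l → ∀ i k, C.M (b j l) i k = C.M (b l j) i k := fun {j l} h i k => by
    rw [hbM h, hbM (Ne.symm h), pairM, pairM, add_comm]
  have hstar : ∀ {j l m}, j ≠ l → j ≠ m → Commute (b j l) (b j m) := fun {j l m} h1 h2 =>
    C.gen_commute (hb _ _ h1).1 (hb _ _ h2).1 (by rw [(hb _ _ h1).2.1, (hb _ _ h2).2.1]; exact C.ee _ _)
  have hd0 : Commute (b 0 1) (b 2 3) :=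
    C.commute_congr₂ hx (hbC _ _) hy (hbC _ _) (fun i k => by rw [mx, hbM (by decide)])
      (fun i k => by rw [my, hbM (by decide)]) h
  have htr : ∀ (τ σ : Equiv.Perm (Fin 4)) (_ : ∀ i, (eI i ∘ both τ) ∘ both τ = eI (σ i))
      (_ : ∀ i, (fI i ∘ both τ) ∘ both τ = fI (σ i)),
      Commute (b (σ 0) (σ 1)) (b (σ 2) (σ 3)) := fun τ σ h1 h2 =>
    C.std_transport hs τ σ h1 h2 (hbC _ _) (hbC _ _) (hbC _ _) (hbC _ _) (hbM (by decide))
      (hbM (by decide)) (hbM (σ.injective.ne (by decide))) (hbM (σ.injective.ne (by decide))) hd0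
  let c : Equiv.Perm (Fin 4) := Equiv.swap 1 2 * Equiv.swap 2 3
  have hd1 : Commute (b (c 0) (c 1)) (b (c 2) (c 3)) := htr c c (by decide +kernel) (by decide +kernel)
  have hd2 : Commute (b (c⁻¹ 0) (c⁻¹ 1)) (b (c⁻¹ 2) (c⁻¹ 3)) :=
    htr c⁻¹ c⁻¹ (by decide +kernel) (by decide +kernel)
  have hd1' : Commute (b 0 2) (b 1 3) := by
    have e0 : Commute (b 0 2) (b 3 1) := by
      simpa [c, Equiv.swap_apply_def] using hd1
    exact C.commute_congr (hbC _ _) (hbC _ _) (hbC _ _) (hswap (by decide)) e0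
  have hd2' : Commute (b 0 3) (b 1 2) := by
    simpa [c, Equiv.swap_apply_def, Equiv.Perm.inv_def] using hd2
  let S : List G := [b 0 1, b 0 2, b 0 3, b 1 2, b 1 3, b 2 3]
  have s1 : ∀ {j l m}, j ≠ l → j ≠ m → Commute (b l j) (b j m) := fun {j l m} h1 h2 =>
    (C.commute_congr (hbC _ _) (hbC _ _) (hbC _ _) (hswap h1) (hstar h2 h1)).symm
  have s2 : ∀ {j l m}, j ≠ l → j ≠ m → Commute (b l j) (b m j) := fun {j l m} h1 h2 =>
    C.commute_congr (hbC _ _) (hbC _ _) (hbC _ _) (hswap h2) (s1 h1 h2)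
  have hS : ∀ u ∈ S, ∀ w ∈ S, Commute u w := by
    intro u hu w hw
    simp only [S, List.mem_cons, List.not_mem_nil, or_false] at hu hw
    rcases hu with rfl | rfl | rfl | rfl | rfl | rfl <;>
      rcases hw with rfl | rfl | rfl | rfl | rfl | rfl <;>
      first
        | exact Commute.refl _
        | exact hd0
        | exact hd0.symm
        | exact hd1'
        | exact hd1'.symm
        | exact hd2'
        | exact hd2'.symm
        | exact hstar (by decide) (by decide)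
        | exact s1 (by decide) (by decide)
        | exact (s1 (by decide) (by decide)).symm
        | exact s2 (by decide) (by decide)
  let K : Subgroup G := Subgroup.closure ({u | u ∈ S} ∪ {u | u ∈ ebase p e})
  have hKC : K ≤ Cen p e := by
    rw [Subgroup.closure_le]
    rintro u (hu | hu)
    · simp only [S, List.mem_cons, List.not_mem_nil, or_false, Set.mem_setOf_eq] at hu
      rcases hu with rfl | rfl | rfl | rfl | rfl | rfl <;> exact hbC _ _
    · exact C.ebase_mem_Cen u hu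
  have hKab : ∀ u ∈ ({u | u ∈ S} ∪ {u | u ∈ ebase p e} : Set G),
      ∀ w ∈ ({u | u ∈ S} ∪ {u | u ∈ ebase p e} : Set G), Commute u w := by
    have hmem : ∀ u ∈ ({u | u ∈ S} ∪ {u | u ∈ ebase p e} : Set G), u ∈ Cen p e :=
      fun u hu => hKC (Subgroup.subset_closure hu)
    rintro u (hu | hu) w (hw | hw)
    · exact hS u hu w hw
    · obtain ⟨h1, h2⟩ := mem_Cen.mp (hmem u (Or.inl hu))
      simp only [ebase, List.mem_cons, List.not_mem_nil, or_false, Set.mem_setOf_eq] at hw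
      rcases hw with rfl | rfl | rfl | rfl | rfl
      exacts [h1, h2 _, h2 _, h2 _, h2 _]
    · obtain ⟨h1, h2⟩ := mem_Cen.mp (hmem w (Or.inl hw))
      simp only [ebase, List.mem_cons, List.not_mem_nil, or_false, Set.mem_setOf_eq] at hu
      rcases hu with rfl | rfl | rfl | rfl | rfl
      exacts [h1.symm, (h2 _).symm, (h2 _).symm, (h2 _).symm, (h2 _).symm]
    · exact C.ebase_ok.2 u hu w hw
  have hK : Cen p e ≤ K := by
    intro u hu
    let w := bp (b 0 1) (C.M u 0 1) * bp (b 0 2) (C.M u 0 2) * bp (b 0 3) (C.M u 0 3) *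
      bp (b 1 2) (C.M u 1 2) * bp (b 1 3) (C.M u 1 3) * bp (b 2 3) (C.M u 2 3)
    have hbK : ∀ {x : G}, x ∈ S → ∀ t, bp x t ∈ K := fun hx t =>
      bp_mem (H := K) (Subgroup.subset_closure (Or.inl hx)) t
    have hwK : w ∈ K :=
      mul_mem (mul_mem (mul_mem (mul_mem (mul_mem (hbK (by simp [S]) _) (hbK (by simp [S]) _))
        (hbK (by simp [S]) _)) (hbK (by simp [S]) _)) (hbK (by simp [S]) _)) (hbK (by simp [S]) _)
    have hbp : ∀ {x : G} (t : ZMod 2) (i k : Fin 4), x ∈ Cen p e →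
        C.M (bp x t) i k = t * C.M x i k := fun t i k _ => by
      rcases z2c t with rfl | rfl
      · rw [bp_zero, C.M_mem (one_mem _), zero_mul]
      · rw [bp_one, one_mul]
    have hwM : ∀ i k, C.M w i k = C.M u i k := by
      intro i k
      have m : ∀ (j l : Fin 4) (t : ZMod 2), bp (b j l) t ∈ Cen p e := fun j l t => bp_mem (hbC j l) t
      rw [C.M_mul (mul_mem (mul_mem (mul_mem (mul_mem (m _ _ _) (m _ _ _)) (m _ _ _)) (m _ _ _))
          (m _ _ _)) (m _ _ _),
        C.M_mul (mul_mem (mul_mem (mul_mem (m _ _ _) (m _ _ _)) (m _ _ _)) (m _ _ _)) (m _ _ _),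
        C.M_mul (mul_mem (mul_mem (m _ _ _) (m _ _ _)) (m _ _ _)) (m _ _ _),
        C.M_mul (mul_mem (m _ _ _) (m _ _ _)) (m _ _ _), C.M_mul (m _ _ _) (m _ _ _)]
      simp only [hbp _ _ _ (hbC _ _), hbM (show (0 : Fin 4) ≠ 1 by decide),
        hbM (show (0 : Fin 4) ≠ 2 by decide), hbM (show (0 : Fin 4) ≠ 3 by decide),
        hbM (show (1 : Fin 4) ≠ 2 by decide), hbM (show (1 : Fin 4) ≠ 3 by decide),
        hbM (show (2 : Fin 4) ≠ 3 by decide)]
      fin_cases i <;> fin_cases k <;>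
        simp [pairM, C.M_diag hu, C.M_symm hu 1 0, C.M_symm hu 2 0, C.M_symm hu 3 0, C.M_symm hu 2 1,
          C.M_symm hu 3 1, C.M_symm hu 3 2]
    obtain ⟨n, -, hn⟩ := C.eq_mul_sel (hKC hwK) hu hwM
    rw [hn]
    exact mul_mem hwK (sel_mem (fun g hg => Subgroup.subset_closure (Or.inr hg)) n)
  have := Subgroup.isMulCommutative_closure hKab
  intro u hu w hw
  exact congrArg Subtype.val (mul_comm' (⟨u, hK hu⟩ : K) ⟨w, hK hw⟩)

end Chart

open Chart in
/-- A standard chart with abelian centraliser exists. -/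
theorem exists_good (W : World F z) :
    ∃ (π : G → V8) (ρ : G → orthGroup q8) (e f : Fin 4 → G) (C : Chart F z z π ρ e f),
      Std π e f ∧ C.Good := by
  obtain ⟨π, ρ, e, f, C, hs⟩ := exists_chart W
  obtain ⟨a, ha, haC, -, haβ, haM⟩ := C.exists_gen (show (0 : Fin 4) ≠ 1 by decide)
  obtain ⟨d, hdh, hdC, hdd, hdβ, hdM⟩ := C.exists_gen (show (2 : Fin 4) ≠ 3 by decide)
  by_cases h : Commute a d
  · exact ⟨π, ρ, e, f, C, hs, C.good_of_commute hs haC hdC haM hdM h⟩
  have C1 := C.flipPair 1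
  obtain ⟨a', ha', ha'C, -, ha'β, ha'M⟩ := C1.exists_gen (show (0 : Fin 4) ≠ 1 by decide)
  have hdf : Commute d (f 1) := by
    have hf1 : f 1 ∈ half F z (e 2) := (C.frame 2).memA.mpr ⟨C.hf 1, by rw [C.fe]; simp⟩
    have e0 := (C.frame 2).comm_ab hf1 hdh
    have hα : (C.frame 2).α (f 1) = π (f 1) := InW.proj_eq ⟨by rw [C.fe]; simp, C.ff _ _⟩
    rw [hα, hdβ, show B8 (π (f 1)) (π (e 3)) = 0 by rw [C.fe]; simp, (C.frame 2).ep_zero] at e0
    exact (mul_inv_eq_iff_eq_mul.mp (mul_inv_eq_one.mp e0)).symm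
  have hdC1 : d ∈ Cen z (Function.update e 1 (f 1)) := by
    obtain ⟨h1, h2⟩ := mem_Cen.mp hdC
    refine mem_Cen.mpr ⟨h1, fun i => ?_⟩
    rw [Function.update_apply]
    split
    exacts [hdf, h2 i]
  have hdρ : ρ d = eichler q8 (π (e 2)) (π (e 3)) := by rw [(C.frame 2).β_spec hdh, hdβ]
  have hdM1 : ∀ i k, C1.M d i k = pairM 2 3 i k := C1.M_eichler hdρ
  by_cases h1 : Commute a' d
  · have C2 : Chart F z z (fun x => (permOrth (flip1 1) (qs_flip1 1)).1 (π x))
        (fun x => permOrth (flip1 1) (qs_flip1 1) * ρ x * (permOrth (flip1 1) (qs_flip1 1))⁻¹)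
        (Function.update e 1 (f 1)) (Function.update f 1 (e 1)) :=
      ⟨C1.W, pt_twist C.P _, C1.sp, C1.he, C1.hf,
        fun i j => by simp only [B8, orth_polB_map]; exact C1.ee i j,
        fun i j => by simp only [B8, orth_polB_map]; exact C1.ff i j,
        fun i j => by simp only [B8, orth_polB_map]; exact C1.ef i j,
        fun i => by rw [orth_qmap]; exact C1.qe i, fun i => by rw [orth_qmap]; exact C1.qf i⟩
    have hM : ∀ y i k, C2.M y i k = C1.M y i k := fun y i k => by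
      simp only [Chart.M, B8, orth_mul_apply, orth_inv_apply_self, orth_polB_map]
    have hs2 : Std (fun x => (permOrth (flip1 1) (qs_flip1 1)).1 (π x))
        (Function.update e 1 (f 1)) (Function.update f 1 (e 1)) := by
      refine ⟨fun i => ?_, fun i => ?_⟩ <;> simp only [permOrth_apply] <;> fin_cases i <;>
        simp [hs.1, hs.2, Function.update] <;> decide +kernel
    exact ⟨_, _, _, _, C2, hs2, C2.good_of_commute hs2 ha'C hdC1
      (fun i k => by rw [hM]; exact ha'M i k) (fun i k => by rw [hM]; exact hdM1 i k) h1⟩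
  exfalso
  have e1 : d * a * d⁻¹ * a⁻¹ = z := (C.comm_cases hdC haC).resolve_left fun e0 =>
    h (mul_inv_eq_iff_eq_mul.mp (mul_inv_eq_one.mp e0)).symm
  have e2 : d * a' * d⁻¹ * a'⁻¹ = z := (C1.comm_cases hdC1 ha'C).resolve_left fun e0 =>
    h1 (mul_inv_eq_iff_eq_mul.mp (mul_inv_eq_one.mp e0)).symm
  exact C.not_both hdC hdd (by rw [hdM]; decide) (by rw [hdM]; decide)
    (fun k hk => by rw [hdM]; revert k; decide) (fun k hk => by rw [hdM]; revert k; decide)
    ha haβ ha' ha'β e1 e2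

end H19.C1M
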