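import Cfsg.Agent.H19.Co1M24.Crit
import Cfsg.Agent.H19.Co1M24.Family

/-!
A basis of the abelian centraliser with exact actions of the complementary lifts.
-/

set_option autoImplicit false
set_option linter.unusedSectionVars false

namespace H19.C1M

open H43 H79.Co1T
open H69 (LXFam)
open H69.LXFam (Sing)

variable {G : Type*} [Group G] [Finite G]
variable {F : G → Subgroup G} {z p : G} {π : G → V8} {ρ : G → orthGroup q8} {e f : Fin 4 → G}

theorem sel_append_lt : ∀ (gs hs : List G) (n : ℕ), n < 2 ^ gs.length → sel (gs ++ hs) n = sel gs n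
  | [], hs, n, h => by
    simp only [List.length_nil, pow_zero, Nat.lt_one_iff] at h
    simp [h, sel_zero]
  | g :: gs, hs, n, h => by
    rw [List.cons_append, sel_cons, sel_cons,
      sel_append_lt gs hs _ (by rw [List.length_cons, pow_succ] at h; omega)]

/-- The first index of a pair. -/
def pj : Fin 6 → Fin 4 := ![0, 0, 0, 1, 1, 2]

/-- The second index of a pair. -/
def pl : Fin 6 → Fin 4 := ![1, 2, 3, 2, 3, 3]

theorem pj_ne_pl : ∀ n : Fin 6, pj n ≠ pl n := by decide

/-- The images of the basis under the lift `m`. -/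
def imgZ (m : Fin 4) : List ℕ :=
  [1] ++ List.ofFn (fun j : Fin 4 => 2 ^ (j.val + 1) ^^^ (if j = m then 1 else 0)) ++
    List.ofFn (fun n : Fin 6 => 2 ^ (n.val + 5) ^^^ (if pj n = m then 2 ^ ((pl n).val + 1) else 0) ^^^
      (if pl n = m then 2 ^ ((pj n).val + 1) else 0))

/-- The action of a lift on indices. -/
def TZ (m : Fin 4) (n : ℕ) : ℕ := H90.xorSel (imgZ m) n

theorem TZ_descent : ∀ n : Fin 2048, n.val = 0 ∨ n.val = 1 ∨
    ∃ m, TZ m n.val ^^^ n.val ≠ 0 ∧ TZ m n.val ^^^ n.val < n.val := by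
  decide +kernel

namespace Chart

theorem conj_bv (C : Chart F z p π ρ e f) (m : Fin 4) (c : Fin 4 → ZMod 2) :
    f m * bv e c * (f m)⁻¹ = bp p (c m) * bv e c := by
  have h : ∀ i, f m * bp (e i) (c i) * (f m)⁻¹ = bp p (if i = m then c i else 0) * bp (e i) (c i) := by
    intro i
    rcases z2c (c i) with h0 | h0 <;> rw [h0]
    · simp [bp_zero]
    · rw [bp_one, C.conj_fe]
      split <;> simp [bp_zero, bp_one]
  have hp : ∀ i x, Commute (e i) (bp p x) := fun i x => bp_comm (C.P.comm _ (C.he i)) x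
  have hpp : ∀ i x d, Commute (bp (e i) d) (bp p x) := fun i x d => (bp_comm (hp i x).symm d).symm
  rw [bv, show f m * (bp (e 0) (c 0) * bp (e 1) (c 1) * bp (e 2) (c 2) * bp (e 3) (c 3)) * (f m)⁻¹ =
      f m * bp (e 0) (c 0) * (f m)⁻¹ * (f m * bp (e 1) (c 1) * (f m)⁻¹) *
      (f m * bp (e 2) (c 2) * (f m)⁻¹) * (f m * bp (e 3) (c 3) * (f m)⁻¹) by group, h, h, h, h]
  fin_cases m <;> simp [bp_zero, (hpp _ _ _).eq, (hpp _ _ _).left_comm, mul_assoc]

/-- Normalising the central part of the actions. -/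
theorem exists_normal (C : Chart F z p π ρ e f) (hG : C.Good) {y : G} (hy : y ∈ Cen p e)
    (h2 : y * y = 1) : ∃ y' ∈ Cen p e, y' * y' = 1 ∧ (∀ i k, C.M y' i k = C.M y i k) ∧
      ∀ m, f m * y' * (f m)⁻¹ = y' * bv e (C.M y m) := by
  have hyp := (mem_Cen.mp hy).1
  have hs : ∀ m, ∃ c, f m * y * (f m)⁻¹ = bp p c * (bv e (C.M y m) * y) := by
    intro m
    have hm : f m * (y * (f m)⁻¹ * y⁻¹) ∈ F p :=
      mul_mem (C.hf m) (C.P.norm y hyp _ (inv_mem (C.hf m)))
    have hπ : π (f m * (y * (f m)⁻¹ * y⁻¹)) = π (bv e (C.M y m)) := by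
      rw [C.P.map_mul _ (C.hf m) _ (C.P.norm y hyp _ (inv_mem (C.hf m))),
        C.P.act y hyp _ (inv_mem (C.hf m)), C.P.πinv (C.hf m), C.image_f hy, C.π_bv C.he,
        ← add_assoc, vadd_self, zero_add]
    rcases C.P.eq_cases (bv_mem C.he _) hm hπ.symm with h | h
    · exact ⟨0, by rw [← h, bp_zero]; group⟩
    · refine ⟨1, ?_⟩
      have e1 : bp p 1 * (bv e (C.M y m) * y) = bv e (C.M y m) * p * y := by
        rw [bp_one, ← mul_assoc, (C.P.comm _ (bv_mem C.he _)).eq]
      rw [e1, ← h]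
      group
  choose c hc using hs
  have hE : ∀ d, bv e d ∈ Cen p e := fun d => bv_mem (fun i => C.ebase_mem_Cen _ (by
    fin_cases i <;> simp [ebase])) d
  refine ⟨y * bv e c, mul_mem hy (hE c), ?_, fun i k => ?_, fun m => ?_⟩
  · have hcm : Commute y (bv e c) := hG _ hy _ (hE c)
    have hEE : bv e c * bv e c = 1 := by
      rw [C.P.sq _ (bv_mem C.he c), C.π_bv C.he, C.q_comb]; simp
    rw [show y * bv e c * (y * bv e c) = y * (bv e c * y) * bv e c by group, ← hcm.eq,
      show y * (y * bv e c) * bv e c = (y * y) * (bv e c * bv e c) by group, h2, hEE, one_mul]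
  · rw [C.M_mul hy (hE c), C.M_mem (bv_mem C.he c), add_zero]
  · have hP : ∀ {x}, x ∈ Cen p e → Commute (bp p (c m)) x := fun hx =>
      (bp_comm (mem_Cen.mp hx).1 _).symm
    rw [show f m * (y * bv e c) * (f m)⁻¹ = f m * y * (f m)⁻¹ * (f m * bv e c * (f m)⁻¹) by group,
      hc, C.conj_bv]
    have cP := hP (mul_mem (hE (C.M y m)) hy)
    have hR := hG _ (hE (C.M y m)) _ (mul_mem hy (hE c))
    set P := bp p (c m) with hPdef
    set R := bv e (C.M y m)
    have hPP : P * P = 1 := by rw [hPdef, bp_add C.P.pp, ZModModule.add_self, bp_zero]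
    calc P * (R * y) * (P * bv e c) = P * ((R * y) * P) * bv e c := by group
      _ = P * P * (R * y * bv e c) := by rw [← cP.eq]; group
      _ = _ := by rw [hPP, one_mul, mul_assoc, hR.eq]

end Chart

/-- A chart at the central involution with a normalised basis of its centraliser. -/
structure Basis (F : G → Subgroup G) (z : G) (π : G → V8) (ρ : G → orthGroup q8)
    (e f : Fin 4 → G) (a : Fin 6 → G) : Prop where
  C : Chart F z z π ρ e f
  std : Std π e f
  good : C.Good
  ha : ∀ n, a n ∈ Chart.Cen z e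
  asq : ∀ n, a n * a n = 1
  aM : ∀ n i k, C.M (a n) i k = Chart.pairM (pj n) (pl n) i k
  aconj : ∀ n m, f m * a n * (f m)⁻¹ = a n * Chart.bv e (Chart.pairM (pj n) (pl n) m)

/-- The ordered basis. -/
def base (z : G) (e : Fin 4 → G) (a : Fin 6 → G) : List G :=
  [z, e 0, e 1, e 2, e 3, a 0, a 1, a 2, a 3, a 4, a 5]

theorem exists_basis (W : World F z) :
    ∃ (π : G → V8) (ρ : G → orthGroup q8) (e f : Fin 4 → G) (a : Fin 6 → G),
      Basis F z π ρ e f a := by
  obtain ⟨π, ρ, e, f, C, hs, hG⟩ := exists_good W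
  have h : ∀ n : Fin 6, ∃ y' ∈ Chart.Cen z e, y' * y' = 1 ∧
      (∀ i k, C.M y' i k = Chart.pairM (pj n) (pl n) i k) ∧
      ∀ m, f m * y' * (f m)⁻¹ = y' * Chart.bv e (Chart.pairM (pj n) (pl n) m) := fun n => by
    obtain ⟨b, -, hb, hbb, -, hM⟩ := C.exists_gen (pj_ne_pl n)
    obtain ⟨y', h1, h2, h3, h4⟩ := C.exists_normal hG hb hbb
    exact ⟨y', h1, h2, fun i k => by rw [h3, hM],
      fun m => by rw [h4, show C.M b m = Chart.pairM (pj n) (pl n) m from funext (hM m)]⟩
  choose a h1 h2 h3 h4 using h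
  exact ⟨π, ρ, e, f, a, C, hs, hG, h1, h2, h3, h4⟩

namespace Basis

variable {a : Fin 6 → G}

theorem base_mem (B : Basis F z π ρ e f a) : ∀ g ∈ base z e a, g ∈ Chart.Cen z e ∧ g * g = 1 := by
  intro g hg
  have hzero : ∀ x ∈ Chart.ebase z e, x ∈ Chart.Cen z e ∧ x * x = 1 := fun x hx =>
    ⟨B.C.ebase_mem_Cen x hx, B.C.ebase_ok.1 x hx⟩
  simp only [base, List.mem_cons, List.not_mem_nil, or_false] at hg
  rcases hg with rfl | rfl | rfl | rfl | rfl | rfl | rfl | rfl | rfl | rfl | rfl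
  iterate 5 exact hzero _ (by simp [Chart.ebase])
  all_goals exact ⟨B.ha _, B.asq _⟩

theorem base_sq (B : Basis F z π ρ e f a) : ∀ g ∈ base z e a, g * g = 1 :=
  fun g hg => (B.base_mem g hg).2

theorem base_comm (B : Basis F z π ρ e f a) : ∀ g ∈ base z e a, ∀ h ∈ base z e a, Commute g h :=
  fun g hg h hh => B.good g (B.base_mem g hg).1 h (B.base_mem h hh).1

theorem el_mem (B : Basis F z π ρ e f a) (n : ℕ) : sel (base z e a) n ∈ Chart.Cen z e :=
  sel_mem (fun g hg => (B.base_mem g hg).1) n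

theorem el_xor (B : Basis F z π ρ e f a) (m n : ℕ) :
    sel (base z e a) (m ^^^ n) = sel (base z e a) m * sel (base z e a) n :=
  sel_xor B.base_sq B.base_comm m n

theorem el_sq (B : Basis F z π ρ e f a) (n : ℕ) :
    sel (base z e a) n * sel (base z e a) n = 1 := by
  rw [← B.el_xor, Nat.xor_self, sel_zero]

theorem el_low (B : Basis F z π ρ e f a) {n : ℕ} (h : n < 32) :
    sel (base z e a) n = sel (Chart.ebase z e) n :=
  sel_append_lt (Chart.ebase z e) [a 0, a 1, a 2, a 3, a 4, a 5] n (by simpa [Chart.ebase] using h)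

theorem conj_f (B : Basis F z π ρ e f a) (m : Fin 4) (n : ℕ) :
    f m * sel (base z e a) n * (f m)⁻¹ = sel (base z e a) (TZ m n) := by
  refine conj_sel B.base_sq B.base_comm (f m) _ _ ?_ n
  have hz : f m * z * (f m)⁻¹ = sel (base z e a) 1 := by
    rw [(B.C.P.comm _ (B.C.hf m)).eq, mul_inv_cancel_right]; simp [base, sel_cons, sel_nil]
  have he : ∀ j : Fin 4, f m * e j * (f m)⁻¹ =
      sel (base z e a) (2 ^ (j.val + 1) ^^^ (if j = m then 1 else 0)) := by
    intro j
    rw [B.C.conj_fe, B.el_xor]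
    have h1 : sel (base z e a) (2 ^ (j.val + 1)) = e j := by
      rw [sel_single _ _ (by simp [base]; omega)]; fin_cases j <;> rfl
    rw [h1]
    split
    · rw [show sel (base z e a) 1 = z by simp [base, sel_cons, sel_nil], (B.C.P.comm _ (B.C.he j)).eq]
    · rw [sel_zero, mul_one]
  have ha : ∀ n : Fin 6, f m * a n * (f m)⁻¹ = sel (base z e a)
      (2 ^ (n.val + 5) ^^^ (if pj n = m then 2 ^ ((pl n).val + 1) else 0) ^^^
        (if pl n = m then 2 ^ ((pj n).val + 1) else 0)) := by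
    intro n
    rw [B.aconj, B.el_xor, B.el_xor]
    have h1 : sel (base z e a) (2 ^ (n.val + 5)) = a n := by
      rw [sel_single _ _ (by simp [base]; omega)]; fin_cases n <;> rfl
    have h2 : ∀ j : Fin 4, sel (base z e a) (2 ^ (j.val + 1)) = e j := by
      intro j
      rw [sel_single _ _ (by simp [base]; omega)]; fin_cases j <;> rfl
    rw [h1, mul_assoc]
    congr 1
    fin_cases n <;> fin_cases m <;>
      simp [pj, pl, Chart.pairM, Chart.bv, sel_zero, bp_zero, bp_one, ← h2]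
  simp only [imgZ, base, List.ofFn_succ, List.ofFn_zero, List.cons_append, List.nil_append]
  repeat' constructor
  all_goals first | exact hz | exact he _ | exact ha _

theorem el_eq_one (B : Basis F z π ρ e f a) :
    ∀ {n : ℕ}, n < 2048 → sel (base z e a) n = 1 → n = 0 := by
  intro n
  induction n using Nat.strong_induction_on with
  | _ n ih =>
    intro hn h1
    rcases TZ_descent ⟨n, hn⟩ with h | h | ⟨m, hne, hlt⟩
    · exact h
    · simp only at h; subst h
      exact absurd (by simpa [base, sel_cons, sel_nil] using h1) B.C.P.pne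
    · refine absurd (ih _ hlt (lt_trans hlt hn) ?_) hne
      show sel (base z e a) (TZ m n ^^^ n) = 1
      rw [B.el_xor, ← B.conj_f, h1]; simp

theorem el_inj (B : Basis F z π ρ e f a) {m n : ℕ} (hm : m < 2048) (hn : n < 2048)
    (h : sel (base z e a) m = sel (base z e a) n) : m = n :=
  Nat.xor_eq_zero_iff.mp (B.el_eq_one (Nat.xor_lt_two_pow (n := 11) hm hn)
    (by rw [B.el_xor, h, B.el_sq]))

theorem el_surj (B : Basis F z π ρ e f a) {y : G} (hy : y ∈ Chart.Cen z e) :
    ∃ n < 2048, y = sel (base z e a) n := by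
  classical
  let t : Fin 6 → ℕ := fun n => if B.C.M y (pj n) (pl n) = 1 then 2 ^ (n.val + 5) else 0
  let N := t 0 ^^^ t 1 ^^^ t 2 ^^^ t 3 ^^^ t 4 ^^^ t 5
  have ht : ∀ n, t n < 2 ^ 11 := fun n => by
    show (if _ then _ else _) < _
    split
    · exact Nat.pow_lt_pow_right (by norm_num) (by omega)
    · norm_num
  have hN : N < 2 ^ 11 :=
    Nat.xor_lt_two_pow (Nat.xor_lt_two_pow (Nat.xor_lt_two_pow (Nat.xor_lt_two_pow
      (Nat.xor_lt_two_pow (ht 0) (ht 1)) (ht 2)) (ht 3)) (ht 4)) (ht 5)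
  have hM : ∀ n i k, B.C.M (sel (base z e a) (t n)) i k =
      B.C.M y (pj n) (pl n) * Chart.pairM (pj n) (pl n) i k := by
    intro n i k
    rcases z2c (B.C.M y (pj n) (pl n)) with h | h
    · rw [h, zero_mul, show t n = 0 from if_neg (by rw [h]; decide), sel_zero,
        B.C.M_mem (one_mem _)]
    · rw [h, one_mul, show t n = 2 ^ (n.val + 5) from if_pos h,
        sel_single _ _ (by simp [base]; omega), ← B.aM n i k]
      fin_cases n <;> rfl
  obtain ⟨m, hm, he'⟩ := B.C.eq_mul_sel (B.el_mem N) hy (fun i k => by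
    simp only [N, B.el_xor]
    rw [B.C.M_mul (mul_mem (mul_mem (mul_mem (mul_mem (B.el_mem _) (B.el_mem _)) (B.el_mem _))
        (B.el_mem _)) (B.el_mem _)) (B.el_mem _),
      B.C.M_mul (mul_mem (mul_mem (mul_mem (B.el_mem _) (B.el_mem _)) (B.el_mem _)) (B.el_mem _))
        (B.el_mem _),
      B.C.M_mul (mul_mem (mul_mem (B.el_mem _) (B.el_mem _)) (B.el_mem _)) (B.el_mem _),
      B.C.M_mul (mul_mem (B.el_mem _) (B.el_mem _)) (B.el_mem _),
      B.C.M_mul (B.el_mem _) (B.el_mem _), hM, hM, hM, hM, hM, hM, ← B.C.altM_eq hy i k]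
    rfl)
  refine ⟨N ^^^ m, Nat.xor_lt_two_pow (n := 11) hN (lt_trans hm (by norm_num)), ?_⟩
  rw [he', B.el_xor N m, B.el_low hm]

theorem el_range (B : Basis F z π ρ e f a) {y : G} :
    y ∈ Chart.Cen z e ↔ ∃ n < 2048, y = sel (base z e a) n :=
  ⟨B.el_surj, fun ⟨n, _, h⟩ => h ▸ B.el_mem n⟩

theorem card_Cen (B : Basis F z π ρ e f a) : Nat.card (Chart.Cen z e) = 2048 := by
  rw [← Nat.card_congr (Equiv.ofBijective (fun n : Fin 2048 =>
    (⟨sel (base z e a) n, B.el_mem n⟩ : Chart.Cen z e)) ⟨fun m n h => Fin.ext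
      (B.el_inj m.2 n.2 (congrArg Subtype.val h)), fun y => ?_⟩)]
  · simp
  · obtain ⟨n, hn, h⟩ := B.el_surj y.2
    exact ⟨⟨n, hn⟩, Subtype.ext h.symm⟩

end Basis

end H19.C1M
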