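import Mathlib
import Cfsg.Agent.H90.Code

/-!
Products of commuting involutions selected by the bits of a number.
-/

set_option autoImplicit false

namespace H19.C1M

variable {G : Type*} [Group G]

/-- The product of the entries selected by the bits of `n`. -/
def sel : List G → ℕ → G
  | [], _ => 1
  | g :: gs, n => (if n % 2 = 1 then g else 1) * sel gs (n / 2)

theorem sel_nil (n : ℕ) : sel ([] : List G) n = 1 := rfl

theorem sel_cons (g : G) (gs : List G) (n : ℕ) :
    sel (g :: gs) n = (if n % 2 = 1 then g else 1) * sel gs (n / 2) := rfl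

theorem sel_zero : ∀ gs : List G, sel gs 0 = 1
  | [] => rfl
  | g :: gs => by simp [sel_cons, sel_zero gs]

theorem sel_mem {H : Subgroup G} : ∀ {gs : List G}, (∀ g ∈ gs, g ∈ H) → ∀ n, sel gs n ∈ H
  | [], _, n => by simp [sel_nil, one_mem]
  | g :: gs, h, n => by
    rw [sel_cons]
    refine mul_mem ?_ (sel_mem (fun x hx => h x (List.mem_cons_of_mem _ hx)) _)
    split
    · exact h g List.mem_cons_self
    · exact one_mem H

theorem commute_sel {x : G} : ∀ {gs : List G}, (∀ g ∈ gs, Commute x g) → ∀ n, Commute x (sel gs n) :=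
  fun {gs} h n => by
    have := sel_mem (H := Subgroup.centralizer ({x} : Set G)) (gs := gs)
      (fun g hg => Subgroup.mem_centralizer_singleton_iff.mpr (h g hg).symm.eq) n
    exact (show Commute (sel gs n) x from Subgroup.mem_centralizer_singleton_iff.mp this).symm

theorem sel_xor : ∀ {gs : List G}, (∀ g ∈ gs, g * g = 1) → (∀ g ∈ gs, ∀ h ∈ gs, Commute g h) →
    ∀ a b : ℕ, sel gs (a ^^^ b) = sel gs a * sel gs b
  | [], _, _, a, b => by simp [sel_nil]
  | g :: gs, h2, hc, a, b => by
    have hgs := sel_xor (gs := gs) (fun x hx => h2 x (List.mem_cons_of_mem _ hx))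
      (fun x hx y hy => hc x (List.mem_cons_of_mem _ hx) y (List.mem_cons_of_mem _ hy))
    have hg : ∀ n, Commute g (sel gs n) := fun n =>
      commute_sel (fun x hx => hc g List.mem_cons_self x (List.mem_cons_of_mem _ hx)) n
    have hmod : (a ^^^ b) % 2 = (a % 2 + b % 2) % 2 := by
      rw [← pow_one 2, Nat.xor_mod_two_pow]
      rcases Nat.mod_two_eq_zero_or_one a with e | e <;>
        rcases Nat.mod_two_eq_zero_or_one b with e' | e' <;> rw [pow_one, e, e'] <;> rfl
    rw [sel_cons, sel_cons, sel_cons, Nat.xor_div_two, hgs, hmod]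
    rcases Nat.mod_two_eq_zero_or_one a with e | e <;>
      rcases Nat.mod_two_eq_zero_or_one b with e' | e' <;>
        rw [e, e'] <;> simp only [zero_ne_one, ↓reduceIte, Nat.zero_add, Nat.add_zero, Nat.one_mod,
          Nat.zero_mod, one_mul, show (1 + 1) % 2 = 0 from rfl]
    · rw [(hg _).left_comm]
    · rw [mul_assoc]
    · rw [mul_assoc, (hg _).symm.left_comm, ← mul_assoc g g, h2 g List.mem_cons_self, one_mul]

theorem sel_single : ∀ (gs : List G) (i : ℕ) (h : i < gs.length), sel gs (2 ^ i) = gs[i]
  | g :: gs, 0, _ => by simp [sel_cons, sel_zero]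
  | g :: gs, i + 1, h => by
    rw [sel_cons, Nat.pow_succ, Nat.mul_mod_left, Nat.mul_div_cancel _ (by norm_num : 0 < 2),
      sel_single gs i (by simpa using h)]
    simp

/-- A conjugation known on the generators is known on all products. -/
theorem conj_sel {base : List G} (h2 : ∀ g ∈ base, g * g = 1)
    (hc : ∀ g ∈ base, ∀ h ∈ base, Commute g h) (f : G) :
    ∀ (gs : List G) (imgs : List ℕ), List.Forall₂ (fun g m => f * g * f⁻¹ = sel base m) gs imgs →
      ∀ n, f * sel gs n * f⁻¹ = sel base (H90.xorSel imgs n)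
  | [], [], _, n => by simp [sel_nil, H90.xorSel, sel_zero]
  | g :: gs, m :: ms, h, n => by
    obtain ⟨h1, h'⟩ := List.forall₂_cons.mp h
    rw [sel_cons, show H90.xorSel (m :: ms) n = (if n % 2 = 1 then m else 0) ^^^ H90.xorSel ms (n / 2)
      from rfl, sel_xor h2 hc, ← conj_sel h2 hc f gs ms h' (n / 2)]
    split <;> simp [← h1, sel_zero, mul_assoc]

end H19.C1M
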