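import Cfsg.Agent.H19.Co1M24.Bits
import Cfsg.Agent.H79.Co1T.Main

/-!
Charts: lifts of a hyperbolic basis at a point of a group of Conway type.
-/

set_option autoImplicit false
set_option linter.unusedSectionVars false

namespace H19.C1M

open H43 H79.Co1T
open H69 (LXFam)
open H69.LXFam (Sing)
open H69.Pair (half mem_half)

variable {G : Type*} [Group G] [Finite G]

/-- Lifts of a hyperbolic basis at the point `p`. -/
structure Chart (F : G → Subgroup G) (z p : G) (π : G → V8) (ρ : G → orthGroup q8)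
    (e f : Fin 4 → G) : Prop where
  W : World F z
  P : Pt (F p) p π ρ
  sp : Sing z p
  he : ∀ i, e i ∈ F p
  hf : ∀ i, f i ∈ F p
  ee : ∀ i j, B8 (π (e i)) (π (e j)) = 0
  ff : ∀ i j, B8 (π (f i)) (π (f j)) = 0
  ef : ∀ i j, B8 (π (e i)) (π (f j)) = if i = j then 1 else 0
  qe : ∀ i, q8 (π (e i)) = 0
  qf : ∀ i, q8 (π (f i)) = 0

namespace Chart

variable {F : G → Subgroup G} {z p : G} {π : G → V8} {ρ : G → orthGroup q8} {e f : Fin 4 → G}

theorem e_sq (C : Chart F z p π ρ e f) (i : Fin 4) : e i * e i = 1 := by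
  rw [C.P.sq _ (C.he i), C.qe]; simp

theorem f_sq (C : Chart F z p π ρ e f) (i : Fin 4) : f i * f i = 1 := by
  rw [C.P.sq _ (C.hf i), C.qf]; simp

theorem e_comm (C : Chart F z p π ρ e f) (i j : Fin 4) : Commute (e i) (e j) :=
  (C.P.commute_iff (C.he i) (C.he j)).mpr (C.ee i j)

theorem f_comm (C : Chart F z p π ρ e f) (i j : Fin 4) : Commute (f i) (f j) :=
  (C.P.commute_iff (C.hf i) (C.hf j)).mpr (C.ff i j)

theorem fe (C : Chart F z p π ρ e f) (i j : Fin 4) :
    B8 (π (f j)) (π (e i)) = if i = j then 1 else 0 := by rw [polB_comm]; exact C.ef i j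

theorem conj_fe (C : Chart F z p π ρ e f) (j i : Fin 4) :
    f j * e i * (f j)⁻¹ = if i = j then p * e i else e i := by
  rw [C.P.commutator (C.hf j) (C.he i), C.fe]
  split <;> simp [bp_zero, bp_one]

/-- A vector orthogonal to the basis vanishes. -/
theorem sep (C : Chart F z p π ρ e f) {v : V8} (h1 : ∀ i, B8 v (π (e i)) = 0)
    (h2 : ∀ i, B8 v (π (f i)) = 0) : v = 0 := by
  let L : V8 →ₗ[ZMod 2] (Fin 4 ⊕ Fin 4 → ZMod 2) :=
    LinearMap.pi fun k => (B8).flip (Sum.elim (fun i => π (f i)) (fun i => π (e i)) k)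
  have hsurj : Function.Surjective L := by
    intro w
    refine ⟨∑ i, w (.inl i) • π (e i) + ∑ i, w (.inr i) • π (f i), funext fun k => ?_⟩
    rcases k with k | k <;>
      simp [L, C.ee, C.ff, C.ef, C.fe, Finset.sum_ite_eq, Finset.sum_ite_eq']
  have hinj : Function.Injective L :=
    (LinearMap.injective_iff_surjective_of_finrank_eq_finrank (by simp)).mpr hsurj
  refine hinj (funext fun k => ?_)
  rcases k with k | k <;> simp [L, h1, h2]

theorem ext_vec (C : Chart F z p π ρ e f) {v w : V8} (h1 : ∀ i, B8 v (π (e i)) = B8 w (π (e i)))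
    (h2 : ∀ i, B8 v (π (f i)) = B8 w (π (f i))) : v = w := by
  refine eq_of_vadd_eq_zero (C.sep (fun i => ?_) (fun i => ?_)) <;>
    rw [map_add, LinearMap.add_apply]
  · rw [h1, ZModModule.add_self]
  · rw [h2, ZModModule.add_self]

theorem ext_orth (C : Chart F z p π ρ e f) {g g' : orthGroup q8}
    (h1 : ∀ i, g.1 (π (e i)) = g'.1 (π (e i))) (h2 : ∀ i, g.1 (π (f i)) = g'.1 (π (f i))) :
    g = g' := by
  refine orth_ext fun v => ?_
  refine eq_of_vadd_eq_zero ?_
  have hd : ∀ w, g.1 w = g'.1 w → B8 (g.1 v + g'.1 v) (g.1 w) = 0 := fun w hw => by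
    rw [map_add, LinearMap.add_apply, orth_polB_map]
    rw [hw, orth_polB_map, ZModModule.add_self]
  have hv : (g⁻¹).1 (g.1 v + g'.1 v) = 0 := C.sep
    (fun i => by
      rw [← orth_polB_map g, orth_apply_inv_self]
      exact hd _ (h1 i))
    (fun i => by
      rw [← orth_polB_map g, orth_apply_inv_self]
      exact hd _ (h2 i))
  rw [← orth_apply_inv_self g (g.1 v + g'.1 v), hv, map_zero]

/-- The base of the totally singular part. -/
def ebase (p : G) (e : Fin 4 → G) : List G := [p, e 0, e 1, e 2, e 3]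

theorem ebase_ok (C : Chart F z p π ρ e f) :
    (∀ g ∈ ebase p e, g * g = 1) ∧ ∀ g ∈ ebase p e, ∀ h ∈ ebase p e, Commute g h := by
  have hm : ∀ g ∈ ebase p e, g = p ∨ ∃ i, g = e i := by
    intro g hg
    simp only [ebase, List.mem_cons, List.not_mem_nil, or_false] at hg
    rcases hg with h | h | h | h | h
    exacts [Or.inl h, Or.inr ⟨_, h⟩, Or.inr ⟨_, h⟩, Or.inr ⟨_, h⟩, Or.inr ⟨_, h⟩]
  refine ⟨fun g hg => ?_, fun g hg h hh => ?_⟩
  · rcases hm g hg with rfl | ⟨i, rfl⟩
    exacts [C.P.pp, C.e_sq i]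
  · rcases hm g hg with rfl | ⟨i, rfl⟩ <;> rcases hm h hh with rfl | ⟨j, rfl⟩
    exacts [Commute.refl _, (C.P.comm _ (C.he j)).symm, C.P.comm _ (C.he i), C.e_comm i j]

/-- The centraliser of the totally singular part. -/
def Cen (p : G) (e : Fin 4 → G) : Subgroup G :=
  Subgroup.centralizer (insert p (Set.range e))

theorem mem_Cen {y : G} : y ∈ Cen p e ↔ Commute y p ∧ ∀ i, Commute y (e i) := by
  rw [Cen, Subgroup.mem_centralizer_iff]
  simp only [Set.mem_insert_iff, Set.mem_range, forall_eq_or_imp, forall_exists_index,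
    forall_apply_eq_imp_iff]
  exact ⟨fun h => ⟨h.1.symm, fun i => (h.2 i).symm⟩, fun h => ⟨h.1.symm, fun i => (h.2 i).symm⟩⟩

theorem ebase_mem_Cen (C : Chart F z p π ρ e f) : ∀ g ∈ ebase p e, g ∈ Cen p e := by
  intro g hg
  have h := C.ebase_ok.2 g hg
  exact mem_Cen.mpr ⟨h p (by simp [ebase]), fun i => h (e i) (by fin_cases i <;> simp [ebase])⟩

/-- The elements of the attached subgroup centralising the totally singular part. -/
theorem exists_sel (C : Chart F z p π ρ e f) {y : G} (hy : y ∈ F p) (hyC : y ∈ Cen p e) :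
    ∃ n < 32, y = sel (ebase p e) n := by
  have hc := (mem_Cen.mp hyC).2
  set a : Fin 4 → ℕ := fun i => (B8 (π y) (π (f i))).val with ha
  have hlt : ∀ i, a i < 2 := fun i => ZMod.val_lt _
  let n := 2 * (a 0 + 2 * (a 1 + 2 * (a 2 + 2 * a 3)))
  let E := sel (ebase p e) n
  have hEF : E ∈ F p := sel_mem (H := F p) (fun g hg => by
    simp only [ebase, List.mem_cons, List.not_mem_nil, or_false] at hg
    rcases hg with rfl | rfl | rfl | rfl | rfl
    exacts [C.P.mem, C.he _, C.he _, C.he _, C.he _]) n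
  have hE : E = bp (e 0) (B8 (π y) (π (f 0))) * (bp (e 1) (B8 (π y) (π (f 1))) *
      (bp (e 2) (B8 (π y) (π (f 2))) * bp (e 3) (B8 (π y) (π (f 3))))) := by
    show sel (ebase p e) (2 * (a 0 + 2 * (a 1 + 2 * (a 2 + 2 * a 3)))) = _
    simp only [ebase, ha]
    rcases z2c (B8 (π y) (π (f 0))) with h0 | h0 <;> rcases z2c (B8 (π y) (π (f 1))) with h1 | h1 <;>
      rcases z2c (B8 (π y) (π (f 2))) with h2 | h2 <;> rcases z2c (B8 (π y) (π (f 3))) with h3 | h3 <;>
        simp [h0, h1, h2, h3, sel_cons, sel_nil, bp_zero, bp_one, ZMod.val_one]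
  have hbp : ∀ i c, π (bp (e i) c) = c • π (e i) := fun i c => by
    rcases z2c c with rfl | rfl
    · rw [bp_zero, C.P.one, zero_smul]
    · rw [bp_one, one_smul]
  have hπ : π E = ∑ i, B8 (π y) (π (f i)) • π (e i) := by
    have hm : ∀ i c, bp (e i) c ∈ F p := fun i c => bp_mem (C.he i) c
    rw [hE, C.P.map_mul _ (hm _ _) _ (mul_mem (hm _ _) (mul_mem (hm _ _) (hm _ _))),
      C.P.map_mul _ (hm _ _) _ (mul_mem (hm _ _) (hm _ _)), C.P.map_mul _ (hm _ _) _ (hm _ _),
      hbp, hbp, hbp, hbp, Fin.sum_univ_four]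
    abel
  have heq : π y = π E := C.ext_vec
    (fun i => by
      rw [(C.P.commute_iff hy (C.he i)).mp (hc i), hπ]
      simp [C.ee])
    (fun i => by rw [hπ]; simp [C.ef, Finset.sum_ite_eq'])
  rcases C.P.eq_cases hEF hy heq.symm with h | h
  · exact ⟨n, by have := hlt 0; have := hlt 1; have := hlt 2; have := hlt 3; omega, h⟩
  · refine ⟨n + 1, by have := hlt 0; have := hlt 1; have := hlt 2; have := hlt 3; omega, ?_⟩
    rw [h]
    have e1 : n + 1 = n ^^^ 1 := by
      refine (Nat.xor_one_of_even ⟨a 0 + 2 * (a 1 + 2 * (a 2 + 2 * a 3)), ?_⟩).symm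
      show 2 * _ = _
      omega
    rw [e1, sel_xor C.ebase_ok.1 C.ebase_ok.2, show sel (ebase p e) 1 = p by
      simp [ebase, sel_cons, sel_nil]]

end Chart

end H19.C1M
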