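import Cfsg.Agent.H19.Co1M24.Basis

/-!
The abelian centraliser seen from a second point.
-/

set_option autoImplicit false
set_option linter.unusedSectionVars false

namespace H19.C1M

open H43 H79.Co1T
open H69 (LXFam)
open H69.LXFam (Sing)
open H69.Pair (half mem_half)

variable {G : Type*} [Group G] [Finite G]
variable {F : G → Subgroup G} {z p : G} {π : G → V8} {ρ : G → orthGroup q8} {e f : Fin 4 → G}

namespace Chart

theorem exists_row (C : Chart F z p π ρ e f) {y : G} (hy : y ∈ Cen p e) (m : Fin 4) :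
    ∃ c, f m * y * (f m)⁻¹ = bp p c * (bv e (C.M y m) * y) := by
  have hyp := (mem_Cen.mp hy).1
  have hm : f m * (y * (f m)⁻¹ * y⁻¹) ∈ F p :=
    mul_mem (C.hf m) (C.P.norm y hyp _ (inv_mem (C.hf m)))
  have hπ : π (f m * (y * (f m)⁻¹ * y⁻¹)) = π (bv e (C.M y m)) := by
    rw [C.P.map_mul _ (C.hf m) _ (C.P.norm y hyp _ (inv_mem (C.hf m))),
      C.P.act y hyp _ (inv_mem (C.hf m)), C.P.πinv (C.hf m), C.image_f hy, C.π_bv C.he,
      ← add_assoc, vadd_self, zero_add]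
  rcases C.P.eq_cases (bv_mem C.he _) hm hπ.symm with h | h
  · exact ⟨0, by rw [← h, bp_zero]; group⟩
  · refine ⟨1, ?_⟩
    rw [show bp p 1 * (bv e (C.M y m) * y) = bv e (C.M y m) * p * y by
      rw [bp_one, ← mul_assoc, (C.P.comm _ (bv_mem C.he _)).eq], ← h]
    group

theorem card_Cen_le (C : Chart F z p π ρ e f) : Nat.card (Cen p e) ≤ 2048 := by
  classical
  have h : ∀ n : Fin 6, ∃ b ∈ Cen p e, ∀ i k, C.M b i k = pairM (pj n) (pl n) i k := fun n => by
    obtain ⟨b, -, hb, -, -, hM⟩ := C.exists_gen (pj_ne_pl n)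
    exact ⟨b, hb, hM⟩
  choose b hb hM using h
  let w : (Fin 6 → ZMod 2) → G := fun c => bp (b 0) (c 0) * bp (b 1) (c 1) * bp (b 2) (c 2) *
    bp (b 3) (c 3) * bp (b 4) (c 4) * bp (b 5) (c 5)
  have m : ∀ n t, bp (b n) t ∈ Cen p e := fun n t => bp_mem (hb n) t
  have hw : ∀ c, w c ∈ Cen p e := fun c =>
    mul_mem (mul_mem (mul_mem (mul_mem (mul_mem (m _ _) (m _ _)) (m _ _)) (m _ _)) (m _ _)) (m _ _)
  have hwM : ∀ c i k, C.M (w c) i k = altM c i k := by
    intro c i k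
    have hbp : ∀ n t, C.M (bp (b n) t) i k = t * C.M (b n) i k := fun n t => by
      rcases z2c t with rfl | rfl
      · rw [bp_zero, C.M_mem (one_mem _), zero_mul]
      · rw [bp_one, one_mul]
    rw [C.M_mul (mul_mem (mul_mem (mul_mem (mul_mem (m _ _) (m _ _)) (m _ _)) (m _ _)) (m _ _)) (m _ _),
      C.M_mul (mul_mem (mul_mem (mul_mem (m _ _) (m _ _)) (m _ _)) (m _ _)) (m _ _),
      C.M_mul (mul_mem (mul_mem (m _ _) (m _ _)) (m _ _)) (m _ _),
      C.M_mul (mul_mem (m _ _) (m _ _)) (m _ _), C.M_mul (m _ _) (m _ _),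
      hbp, hbp, hbp, hbp, hbp, hbp, hM, hM, hM, hM, hM, hM]
    rfl
  let φ : (Fin 6 → ZMod 2) × Fin 32 → Cen p e :=
    fun x => ⟨w x.1 * sel (ebase p e) x.2, mul_mem (hw _) (C.sel_mem_Cen _)⟩
  have hφ : Function.Surjective φ := by
    rintro ⟨y, hy⟩
    let c : Fin 6 → ZMod 2 :=
      ![C.M y 0 1, C.M y 0 2, C.M y 0 3, C.M y 1 2, C.M y 1 3, C.M y 2 3]
    obtain ⟨n, hn, h⟩ := C.eq_mul_sel (hw c) hy (fun i k => (hwM c i k).trans (C.altM_eq hy i k))
    exact ⟨(c, ⟨n, hn⟩), Subtype.ext h.symm⟩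
  refine (Nat.card_le_card_of_surjective φ hφ).trans_eq ?_
  simp

end Chart

/-! ### Tables -/

/-- The indices of the second generators. -/
def bidx : Fin 3 → ℕ := ![36, 72, 144]

/-- First index of a high pair. -/
def qj : Fin 3 → Fin 3 := ![0, 0, 1]

/-- Second index of a high pair. -/
def ql : Fin 3 → Fin 3 := ![1, 2, 2]

/-- The index of a row. -/
def ridx (r : Fin 4 → ZMod 2) : ℕ :=
  (if r 0 = 1 then 1 else 0) ^^^ (if r 1 = 1 then 36 else 0) ^^^ (if r 2 = 1 then 72 else 0) ^^^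
    (if r 3 = 1 then 144 else 0)

/-- The images of the first eight generators. -/
def lowE : Fin 4 → List ℕ :=
  ![[3, 2, 32, 64, 128, 4, 8, 16], [1, 2, 7, 8, 16, 33, 64, 128], [1, 2, 4, 11, 16, 32, 65, 128],
    [1, 2, 4, 8, 19, 32, 64, 129]]

/-- The displacement of the last three generators. -/
def xE (l : Fin 3 → Fin 3 → Bool) (m : Fin 4) (q : Fin 3) : ℕ :=
  Fin.cases ((if l q 0 then 36 else 0) ^^^ (if l q 1 then 72 else 0) ^^^ (if l q 2 then 144 else 0))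
    (fun k => (if qj q = k then bidx (ql q) else 0) ^^^ (if ql q = k then bidx (qj q) else 0) ^^^
      (if l q k then 1 else 0)) m

/-- The images at the second point. -/
def imgE (l : Fin 3 → Fin 3 → Bool) (m : Fin 4) : List ℕ :=
  lowE m ++ [256 ^^^ xE l m 0, 512 ^^^ xE l m 1, 1024 ^^^ xE l m 2]

/-- The action at the second point. -/
def TE (l : Fin 3 → Fin 3 → Bool) (m : Fin 4) (n : ℕ) : ℕ := H90.xorSel (imgE l m) n

/-- The provisional images of the mover. -/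
def lowC (c : Fin 3 → Bool) : List ℕ :=
  [3, 2, 32 ^^^ (if c 0 then 2 else 0), 64 ^^^ (if c 1 then 2 else 0), 128 ^^^ (if c 2 then 2 else 0),
    4 ^^^ (if c 0 then 2 else 0), 8 ^^^ (if c 1 then 2 else 0), 16 ^^^ (if c 2 then 2 else 0)]

theorem TZ_lt : ∀ (m : Fin 4) (n : Fin 2048), TZ m n.val < 2048 := by decide +kernel

theorem TZ_lt' : ∀ (m : Fin 4) (n : Fin 256), TZ m n.val < 256 := by decide +kernel

theorem lowC_lt : ∀ (c : Fin 3 → Bool) (n : Fin 256), H90.xorSel (lowC c) n.val < 256 := by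
  decide +kernel

theorem find_b : ∀ (k : Fin 3) (n : Fin 2048),
    (∀ m : Fin 4, m ≠ 0 → TZ m n.val ^^^ n.val = if m = k.succ then 3 else 0) →
    (TZ 0 n.val ^^^ n.val = 2 ^ (k.val + 2) ∨ TZ 0 n.val ^^^ n.val = 2 ^ (k.val + 2) ^^^ 1) →
    n.val ^^^ bidx k < 4 := by
  decide +kernel

theorem find_high : ∀ (k q : Fin 3) (n : Fin 2048),
    (∀ m : Fin 3, TZ m.succ n.val ^^^ n.val =
      (if qj q = m then 2 ^ ((ql q).val + 2) else 0) ^^^ (if ql q = m then 2 ^ ((qj q).val + 2) else 0) ^^^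
        (if qj q = m ∧ ql q = k ∨ ql q = m ∧ qj q = k then 3 else 0)) →
    TZ 0 n.val = TZ k.succ n.val →
    ∃ b : Bool, n.val = 2 ^ (q.val + 8) ^^^ ((if qj q = k then bidx (ql q) else 0) ^^^
      (if ql q = k then bidx (qj q) else 0) ^^^ (if b then 1 else 0)) := by
  decide +kernel

/-- The composite lift. -/
def Xc (c : Fin 3 → Bool) (n : ℕ) : ℕ :=
  (if c 0 then TZ 1 else id) ((if c 1 then TZ 2 else id) ((if c 2 then TZ 3 else id) n))

/-- The cube of the product of the two movers. -/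
def Hc (c : Fin 3 → Bool) (n : ℕ) : ℕ :=
  let s := fun i => TZ 0 (H90.xorSel (lowC c) i)
  s (s (s (Xc c n)))

theorem Hc_fix : ∀ c, Hc c 1 = 1 ∧ ∀ j : Fin 4, Hc c (2 ^ (j.val + 1)) = 2 ^ (j.val + 1) := by
  decide +kernel

theorem Hc_zero : ∀ c, (∀ k, Hc c (bidx k) = bidx k) → ∀ k, c k = false := by
  decide +kernel

theorem parity_row : ∀ (c : Bool) (r : Fin 4 → ZMod 2),
    ((if c then 2 else 0) ^^^ ridx r) % 2 = (r 0).val ∧ ridx r < 256 := by
  decide +kernel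

theorem row_zero : ∀ l : Fin 3 → Bool, ridx ![0, if l 0 then 1 else 0, if l 1 then 1 else 0,
    if l 2 then 1 else 0] = (if l 0 then 36 else 0) ^^^ (if l 1 then 72 else 0) ^^^
      (if l 2 then 144 else 0) := by
  decide +kernel

theorem xE_lt : ∀ (l : Fin 3 → Fin 3 → Bool) (m : Fin 4) (q : Fin 3), xE l m q < 256 := by
  decide +kernel

/-! ### The second chart -/

/-- The totally singular part at the second point. -/
def e2 (z : G) (e : Fin 4 → G) (a : Fin 6 → G) : Fin 4 → G :=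
  ![z, sel (base z e a) 36, sel (base z e a) 72, sel (base z e a) 144]

/-- The model seen from both points. -/
structure Second (F : G → Subgroup G) (z : G) (π : G → V8) (ρ : G → orthGroup q8)
    (e f : Fin 4 → G) (a : Fin 6 → G) (l : Fin 3 → Fin 3 → Bool) (π' : G → V8)
    (ρ' : G → orthGroup q8) (f' : Fin 4 → G) : Prop where
  B : Basis F z π ρ e f a
  C : Chart F z (e 0) π' ρ' (e2 z e a) f'
  cen : Chart.Cen (e 0) (e2 z e a) = Chart.Cen z e
  conj : ∀ m n, f' m * sel (base z e a) n * (f' m)⁻¹ = sel (base z e a) (TE l m n)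

namespace Basis

variable {a : Fin 6 → G}

theorem el_e (B : Basis F z π ρ e f a) (j : Fin 4) : sel (base z e a) (2 ^ (j.val + 1)) = e j := by
  rw [sel_single _ _ (by simp [base]; omega)]; fin_cases j <;> rfl

theorem el_a (B : Basis F z π ρ e f a) (n : Fin 6) : sel (base z e a) (2 ^ (n.val + 5)) = a n := by
  rw [sel_single _ _ (by simp [base]; omega)]; fin_cases n <;> rfl

theorem el_z (B : Basis F z π ρ e f a) : sel (base z e a) 1 = z := by
  simp [base, sel_cons, sel_nil]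

theorem el_ep (B : Basis F z π ρ e f a) (x : ZMod 2) :
    sel (base z e a) (if x = 1 then 3 else 0) = Frame.ep z (e 0) x x := by
  rcases z2c x with rfl | rfl
  · simp [Frame.ep, bp_zero, sel_zero]
  · rw [if_pos rfl]
    conv_lhs => rw [show (3 : ℕ) = 1 ^^^ 2 ^ ((0 : Fin 4).val + 1) from rfl]
    rw [B.el_xor, B.el_z, B.el_e, Frame.ep, bp_one, bp_one]

theorem el_ite (B : Basis F z π ρ e f a) (x : ZMod 2) (n : ℕ) :
    sel (base z e a) (if x = 1 then n else 0) = bp (sel (base z e a) n) x := by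
  rcases z2c x with rfl | rfl <;> simp [bp_zero, bp_one, sel_zero]

theorem el_ridx (B : Basis F z π ρ e f a) (r : Fin 4 → ZMod 2) :
    sel (base z e a) (ridx r) = Chart.bv (e2 z e a) r := by
  rw [ridx, B.el_xor, B.el_xor, B.el_xor, B.el_ite, B.el_ite, B.el_ite, B.el_ite, B.el_z]
  rfl

theorem el_low8 (B : Basis F z π ρ e f a) {n : ℕ} (h : n < 256) :
    sel (base z e a) n = sel [z, e 0, e 1, e 2, e 3, a 0, a 1, a 2] n :=
  sel_append_lt [z, e 0, e 1, e 2, e 3, a 0, a 1, a 2] [a 3, a 4, a 5] n (by simpa using h)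

theorem el_eq (B : Basis F z π ρ e f a) {N : ℕ} (hN : N < 2048) {m : Fin 4} {x : ℕ}
    (hx : x < 2048)
    (h : f m * sel (base z e a) N * (f m)⁻¹ = sel (base z e a) x * sel (base z e a) N) :
    TZ m N ^^^ N = x := by
  rw [B.conj_f, ← B.el_xor] at h
  rw [B.el_inj (TZ_lt m ⟨N, hN⟩) (Nat.xor_lt_two_pow (n := 11) hx hN) h, Nat.xor_assoc,
    Nat.xor_self, Nat.xor_zero]

theorem b_mem (B : Basis F z π ρ e f a) (k : Fin 3) :
    sel (base z e a) (bidx k) ∈ half F (e 0) z ∧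
      (B.C.frame 0).β (sel (base z e a) (bidx k)) = π (e k.succ) := by
  obtain ⟨b, hb, hbC, -, hβ, hM⟩ := B.C.exists_gen (show (0 : Fin 4) ≠ k.succ from
    (Fin.succ_ne_zero k).symm)
  obtain ⟨N, hN, rfl⟩ := B.el_surj hbC
  set Fr := B.C.frame 0
  have h1 : ∀ m : Fin 4, m ≠ 0 → TZ m N ^^^ N = if m = k.succ then 3 else 0 := by
    intro m hm
    refine B.el_eq hN (by split <;> norm_num) ?_
    have hfm : f m ∈ half F z (e 0) :=
      Fr.memA.mpr ⟨B.C.hf m, by rw [B.C.fe, if_neg (Ne.symm hm)]⟩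
    have hα : Fr.α (f m) = π (f m) :=
      InW.proj_eq ⟨by rw [B.C.fe, if_neg (Ne.symm hm)], B.C.ff _ _⟩
    have h := Fr.comm_ab hfm hb
    rw [hα, hβ, B.C.fe, ← B.el_ep] at h
    rw [mul_inv_eq_iff_eq_mul.mp h]
    congr 2
    simp [eq_comm]
  have h2 : TZ 0 N ^^^ N = 2 ^ (k.val + 2) ∨ TZ 0 N ^^^ N = 2 ^ (k.val + 2) ^^^ 1 := by
    obtain ⟨c, hc⟩ := B.C.exists_row hbC 0
    have hrow : Chart.bv e (B.C.M (sel (base z e a) N) 0) =
        sel (base z e a) (2 ^ (k.val + 2)) := by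
      rw [show 2 ^ (k.val + 2) = 2 ^ (k.succ.val + 1) by simp, B.el_e]
      fin_cases k <;> simp [Chart.bv, hM, Chart.pairM, bp_zero, bp_one]
    have hk : 2 ^ (k.val + 2) < 2 ^ 11 := Nat.pow_lt_pow_right (by norm_num) (by omega)
    rw [hrow] at hc
    rcases z2c c with rfl | rfl
    · exact Or.inl (B.el_eq hN hk (by rw [hc, bp_zero, one_mul]))
    · refine Or.inr (B.el_eq hN (Nat.xor_lt_two_pow hk (by norm_num)) ?_)
      rw [hc, bp_one, Nat.xor_comm, B.el_xor, B.el_z, mul_assoc]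
  have h4 := find_b k ⟨N, hN⟩ h1 h2
  have e1 : sel (base z e a) (bidx k) =
      sel (base z e a) N * sel (base z e a) (N ^^^ bidx k) := by
    rw [← B.el_xor, ← Nat.xor_assoc, Nat.xor_self, Nat.zero_xor]
  have hr : sel (base z e a) (N ^^^ bidx k) ∈ F z ⊓ F (e 0) := by
    revert h4
    generalize N ^^^ bidx k = r
    intro hr4
    have h : r < 2 ^ [z, e 0].length := by simpa using hr4
    rw [show base z e a = [z, e 0] ++ [e 1, e 2, e 3, a 0, a 1, a 2, a 3, a 4, a 5] from rfl,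
      sel_append_lt _ _ _ h]
    refine sel_mem (fun g hg => ?_) r
    simp only [List.mem_cons, List.not_mem_nil, or_false] at hg
    rcases hg with rfl | rfl
    exacts [⟨B.C.P.mem, Fr.pair.vu⟩, Fr.pair.v_mem_inf]
  have hrh : sel (base z e a) (N ^^^ bidx k) ∈ half F (e 0) z :=
    Fr.pair.symm.inf_le_half ⟨hr.2, hr.1⟩
  rw [e1]
  exact ⟨mul_mem hb hrh, by rw [Fr.β_mul hb hrh, hβ, Fr.β_mem hr.1, add_zero]⟩

theorem exists_lift (B : Basis F z π ρ e f a) (k : Fin 3) :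
    ∃ d ∈ half F (e 0) z, (B.C.frame 0).β d = π (f k.succ) ∧ d * d = 1 ∧
      f 0 * d * (f 0)⁻¹ = f k.succ * d := by
  set Fr := B.C.frame 0
  have hw : InW (π (e 0)) (π (f 0)) (π (f k.succ)) :=
    ⟨by rw [B.C.fe, if_neg (Fin.succ_ne_zero k).symm], B.C.ff _ _⟩
  obtain ⟨d, hd, hdβ⟩ := Fr.β_surj hw
  have hdd : d * d = 1 := by rw [Fr.sq_b hd, hdβ, B.C.qf, bp_zero]
  obtain ⟨x, hx, -, hmx⟩ := Fr.mover_conj (B.C.hf 0) rfl hd
  have hdp := (Fr.bcomm hd).1
  have hxF : f 0 * (d * (f 0)⁻¹ * d⁻¹) ∈ F z :=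
    mul_mem (B.C.hf 0) (B.C.P.norm d hdp _ (inv_mem (B.C.hf 0)))
  have hxe : x = f 0 * (d * (f 0)⁻¹ * d⁻¹) := by
    rw [eq_mul_inv_of_mul_eq hmx.symm]; group
  have hπx : π (f k.succ) = π x := by
    rw [hxe, B.C.P.map_mul _ (B.C.hf 0) _ (B.C.P.norm d hdp _ (inv_mem (B.C.hf 0))),
      B.C.P.act d hdp _ (inv_mem (B.C.hf 0)), B.C.P.πinv (B.C.hf 0), Fr.β_spec hd, hdβ,
      Fr.H.eichler_x hw, B.C.qf, zero_smul, add_zero, ← add_assoc, vadd_self, zero_add]
  rcases B.C.P.eq_cases (B.C.hf k.succ) (mem_half.mp hx).1 hπx with h | h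
  · exact ⟨d, hd, hdβ, hdd, by rw [hmx, h]⟩
  · have huh : e 0 ∈ half F (e 0) z :=
      Fr.pair.symm.inf_le_half ⟨Fr.pair.v_mem_inf.2, Fr.hu⟩
    refine ⟨d * e 0, mul_mem hd huh, ?_, ?_, ?_⟩
    · rw [Fr.β_mul hd huh, hdβ, Fr.β_mem Fr.hu, add_zero]
    · rw [show d * e 0 * (d * e 0) = d * (e 0 * d) * e 0 by group, ← (Fr.bcomm hd).2.eq,
        show d * (d * e 0) * e 0 = d * d * (e 0 * e 0) by group, hdd, B.C.e_sq, one_mul]
    · rw [show f 0 * (d * e 0) * (f 0)⁻¹ = f 0 * d * (f 0)⁻¹ * (f 0 * e 0 * (f 0)⁻¹) by group,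
        hmx, h, B.C.conj_fe, if_pos rfl, show f k.succ * z * d * (z * e 0) =
          f k.succ * (z * d) * z * e 0 by group, ← hdp.eq,
        show f k.succ * (d * z) * z * e 0 = f k.succ * d * (z * z) * e 0 by group, B.C.P.pp,
        mul_one, mul_assoc]

end Basis

end H19.C1M
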