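import Cfsg.Agent.H19.Co1M24.Finite
import Cfsg.Agent.H19.Co1M24.Second

/-!
Soundness of the computed criterion.
-/

set_option autoImplicit false
set_option linter.unusedSectionVars false

namespace H19.C1M

open H43 H79.Co1T
open H69 (LXFam)
open H69.LXFam (Sing)
open H90 (xorSel)

variable {G : Type*} [Group G] [Finite G]
variable {F : G → Subgroup G} {z : G} {π : G → V8} {ρ : G → orthGroup q8} {e f : Fin 4 → G}

/-- The coefficient vector of a number below sixteen. -/
def xv (v : ℕ) : Fin 4 → ZMod 2 :=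
  ![if v % 2 = 1 then 1 else 0, if v / 2 % 2 = 1 then 1 else 0, if v / 4 % 2 = 1 then 1 else 0,
    if v / 8 % 2 = 1 then 1 else 0]

theorem xv_bij : Function.Bijective (fun v : Fin 16 => xv v.val) := by decide +kernel

theorem xorSel4 (d0 d1 d2 d3 v : ℕ) : xorSel [d0, d1, d2, d3] v =
    (if xv v 0 = 1 then d0 else 0) ^^^ ((if xv v 1 = 1 then d1 else 0) ^^^
      ((if xv v 2 = 1 then d2 else 0) ^^^ (if xv v 3 = 1 then d3 else 0))) := by
  simp [xorSel, xv, Nat.div_div_eq_div_mul]

theorem length_filter_xv (p : (Fin 4 → ZMod 2) → Prop) [DecidablePred p] (q : ℕ → Bool)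
    (h : ∀ v < 16, q v = true ↔ p (xv v)) :
    ((List.range 16).filter q).length = (Finset.univ.filter p).card := by
  classical
  rw [← List.toFinset_card_of_nodup (List.nodup_range.filter q)]
  refine Finset.card_bij (fun v _ => xv v) ?_ ?_ ?_
  · intro v hv
    simp only [List.mem_toFinset, List.mem_filter, List.mem_range] at hv
    exact Finset.mem_filter.mpr ⟨Finset.mem_univ _, (h v hv.1).mp hv.2⟩
  · intro v hv w hw e0
    simp only [List.mem_toFinset, List.mem_filter, List.mem_range] at hv hw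
    exact congrArg Fin.val (xv_bij.1 (a₁ := ⟨v, hv.1⟩) (a₂ := ⟨w, hw.1⟩) e0)
  · intro x hx
    obtain ⟨v, rfl⟩ := xv_bij.2 x
    refine ⟨v.val, ?_, rfl⟩
    simp only [List.mem_toFinset, List.mem_filter, List.mem_range]
    exact ⟨v.2, (h _ v.2).mpr (Finset.mem_filter.mp hx).2⟩

variable {a : Fin 6 → G} {p : G} {π' : G → V8} {ρ' : G → orthGroup q8} {e' f' : Fin 4 → G}

theorem combT_sound (B : Basis F z π ρ e f a) (T : List (List ℕ))
    (hconj : ∀ (m : Fin 4) n, f' m * sel (base z e a) n * (f' m)⁻¹ =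
      sel (base z e a) (applyT T m.val n)) (v n : ℕ) :
    Chart.bv f' (xv v) * sel (base z e a) n * (Chart.bv f' (xv v))⁻¹ =
      sel (base z e a) (combT T v n) := by
  have h : ∀ (m : Fin 4) (c : Prop) [Decidable c] k,
      bp (f' m) (if c then 1 else 0) * sel (base z e a) k * (bp (f' m) (if c then 1 else 0))⁻¹ =
        sel (base z e a) (if c then applyT T m.val k else k) := by
    intro m c _ k
    split
    · rw [bp_one, hconj]
    · simp [bp_zero]
  simp only [combT, Chart.bv, xv, Matrix.cons_val_zero, Matrix.cons_val_one, Matrix.cons_val]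
  rw [show ∀ x0 x1 x2 x3 y : G, x0 * x1 * x2 * x3 * y * (x0 * x1 * x2 * x3)⁻¹ =
    x0 * (x1 * (x2 * (x3 * y * x3⁻¹) * x2⁻¹) * x1⁻¹) * x0⁻¹ from fun _ _ _ _ _ => by group,
    h, h, h, h]
  rfl

theorem crit_sound (B : Basis F z π ρ e f a) (C : Chart F z p π' ρ' e' f')
    (hcen : Chart.Cen p e' = Chart.Cen z e) (T : List (List ℕ))
    (hconj : ∀ (m : Fin 4) n, f' m * sel (base z e a) n * (f' m)⁻¹ =
      sel (base z e a) (applyT T m.val n))
    (hT : ∀ (m : Fin 4) n, n < 2048 → applyT T m.val n < 2048)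
    {P : ℕ} (hP : sel (base z e a) P = p) (hPlt : P < 2048) {n : ℕ} (hn : n < 2048) (hn0 : n ≠ 0)
    {b : Bool} (h : crit T P n = some b) : Sing z (sel (base z e a) n) ↔ b = true := by
  classical
  set y := sel (base z e a) n with hy
  have hyC : y ∈ Chart.Cen p e' := by rw [hcen]; exact B.el_mem n
  have hy2 : y * y = 1 := B.el_sq n
  have hy1 : y ≠ 1 := fun e0 => hn0 (B.el_eq_one hn e0)
  let d : Fin 4 → ℕ := fun m => applyT T m.val n ^^^ n
  have hd : ∀ m, d m < 2048 := fun m => Nat.xor_lt_two_pow (n := 11) (hT m n hn) hn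
  have hdF : ∀ m, sel (base z e a) (d m) ∈ F p ∧
      π' (sel (base z e a) (d m)) = ∑ k, C.M y m k • π' (e' k) := by
    intro m
    obtain ⟨c, hc⟩ := C.exists_row hyC m
    have e0 : sel (base z e a) (d m) = bp p c * Chart.bv e' (C.M y m) := by
      show sel (base z e a) (applyT T m.val n ^^^ n) = _
      rw [B.el_xor, ← hconj, hc, mul_assoc, mul_assoc, hy2, mul_one]
    have hb : bp p c ∈ F p := bp_mem C.P.mem c
    rw [e0]
    exact ⟨mul_mem hb (Chart.bv_mem C.he _), by
      rw [C.P.map_mul _ hb _ (Chart.bv_mem C.he _), C.P.πbp, zero_add, C.π_bv C.he]⟩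
  have hker : ∀ v, xorSel (dispT T n) v = 0 ∨ xorSel (dispT T n) v = P ↔ KerM (C.M y) (xv v) := by
    intro v
    set X := xorSel (dispT T n) v with hX
    have hX' : X = (if xv v 0 = 1 then d 0 else 0) ^^^ ((if xv v 1 = 1 then d 1 else 0) ^^^
      ((if xv v 2 = 1 then d 2 else 0) ^^^ (if xv v 3 = 1 then d 3 else 0))) := xorSel4 ..
    have hl : ∀ i, (if xv v i = 1 then d i else 0) < 2 ^ 11 := fun i => by
      split
      · exact hd i
      · norm_num
    have hXlt : X < 2048 := hX' ▸ Nat.xor_lt_two_pow (n := 11) (hl 0)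
      (Nat.xor_lt_two_pow (hl 1) (Nat.xor_lt_two_pow (hl 2) (hl 3)))
    have hel : sel (base z e a) X = bp (sel (base z e a) (d 0)) (xv v 0) *
        (bp (sel (base z e a) (d 1)) (xv v 1) * (bp (sel (base z e a) (d 2)) (xv v 2) *
          bp (sel (base z e a) (d 3)) (xv v 3))) := by
      rw [hX', B.el_xor, B.el_xor, B.el_xor, B.el_ite, B.el_ite, B.el_ite, B.el_ite]
    have hm : ∀ i, bp (sel (base z e a) (d i)) (xv v i) ∈ F p := fun i => bp_mem (hdF i).1 _
    have hπb : ∀ i, π' (bp (sel (base z e a) (d i)) (xv v i)) =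
        xv v i • ∑ k, C.M y i k • π' (e' k) := fun i => by
      rcases z2c (xv v i) with h0 | h0 <;> rw [h0]
      · rw [bp_zero, C.P.one, zero_smul]
      · rw [bp_one, one_smul, (hdF i).2]
    have hXF : sel (base z e a) X ∈ F p :=
      hel ▸ mul_mem (hm 0) (mul_mem (hm 1) (mul_mem (hm 2) (hm 3)))
    have hπ : π' (sel (base z e a) X) = ∑ k, (∑ i, xv v i * C.M y i k) • π' (e' k) := by
      rw [hel, C.P.map_mul _ (hm 0) _ (mul_mem (hm 1) (mul_mem (hm 2) (hm 3))),
        C.P.map_mul _ (hm 1) _ (mul_mem (hm 2) (hm 3)), C.P.map_mul _ (hm 2) _ (hm 3),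
        hπb, hπb, hπb, hπb]
      simp only [Fin.sum_univ_four, smul_add, smul_smul, add_smul]
      abel
    constructor
    · intro h0 k
      have h1 : π' (sel (base z e a) X) = 0 := by
        rcases h0 with h0 | h0 <;> rw [h0]
        · rw [sel_zero, C.P.one]
        · rw [hP, C.P.πp]
      rw [hπ] at h1
      have := congrArg (fun w => B8 w (π' (f' k))) h1
      simpa [C.ef, Finset.sum_ite_eq'] using this
    · intro h0
      have h1 : π' (sel (base z e a) X) = 0 := by
        rw [hπ]; exact Finset.sum_eq_zero fun k _ => by rw [h0 k, zero_smul]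
      rcases C.P.ker _ hXF h1 with e0 | e0
      · exact Or.inl (B.el_eq_one hXlt e0)
      · exact Or.inr (B.el_inj hXlt hPlt (e0.trans hP.symm))
  have hcomb : ∀ v, combT T v n < 2048 := fun v => by
    have hs : ∀ (c : Prop) [Decidable c] (m : Fin 4) k, k < 2048 →
        (if c then applyT T m.val k else k) < 2048 := fun c _ m k hk => by
      split
      · exact hT m k hk
      · exact hk
    exact hs _ 0 _ (hs _ 1 _ (hs _ 2 _ (hs _ 3 _ hn)))
  have hlen := length_filter_xv (KerM (C.M y))
    (fun v => Nat.beq (xorSel (dispT T n) v) 0 || Nat.beq (xorSel (dispT T n) v) P)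
    (fun v _ => by rw [← hker v]; simp [Nat.beq_eq])
  unfold crit at h
  by_cases h16 : (kerT (dispT T n) P).length = 16
  · simp only [Nat.beq_eq, h16, beq_self_eq_true, ↓reduceIte, Option.some.injEq] at h
    subst h
    simp only [iff_true]
    refine C.sing_of_M_zero hyC hy2 hy1 fun i j => ?_
    have hall : (Finset.univ.filter (KerM (C.M y))) = Finset.univ :=
      Finset.eq_univ_of_card _ (by rw [← hlen]; exact h16.trans (by simp))
    have hx : KerM (C.M y) (Pi.single i 1) :=
      (Finset.mem_filter.mp (hall ▸ Finset.mem_univ (Pi.single i (1 : ZMod 2)))).2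
    simpa [Pi.single_apply] using hx j
  · by_cases h4 : (kerT (dispT T n) P).length = 4
    · simp only [Nat.beq_eq, h4] at h
      simp at h
      subst h
      rw [C.sing_iff hyC hy2 (by rw [← hlen]; exact h4)]
      simp only [List.all_eq_true, kerT, List.mem_filter, List.mem_range, Bool.or_eq_true,
        Nat.beq_eq, and_imp]
      constructor
      · intro hc v _ hv
        have hcv := hc (xv v) ((hker v).mp (by simpa using hv))
        have e1 := combT_sound B T hconj v n
        rw [show Chart.bv f' (xv v) * sel (base z e a) n * (Chart.bv f' (xv v))⁻¹ = y by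
          rw [← hy, hcv.symm.eq, mul_inv_cancel_right]] at e1
        simpa using (B.el_inj hn (hcomb v) e1).symm
      · intro hc x hx
        obtain ⟨⟨v, hv⟩, rfl⟩ := xv_bij.2 x
        have := hc v hv (by simpa using (hker v).mpr hx)
        have e1 := combT_sound B T hconj v n
        rw [show combT T v n = n by simpa using this, ← hy] at e1
        exact (show Commute (Chart.bv f' (xv v)) y from mul_inv_eq_iff_eq_mul.mp e1).symm
    · simp [Nat.beq_eq, h16, h4] at h

end H19.C1M
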