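import Cfsg.Agent.H19.Co1M24.Second2
import Cfsg.Agent.H19.Co1M24.Sound

/-!
Code coordinates on the abelian centraliser in which singular elements are the octad classes.
-/

set_option autoImplicit false
set_option linter.unusedSectionVars false

namespace H19.C1M

open H43 H79.Co1T
open H69 (LXFam)
open H69.LXFam (Sing)
open H90 (xorSel)

/-- The table at the second point. -/
def tabE (l : Fin 3 → Fin 3 → Bool) : List (List ℕ) := [imgE l 0, imgE l 1, imgE l 2, imgE l 3]

theorem tabE_get (l : Fin 3 → Fin 3 → Bool) (m : Fin 4) : (tabE l).getD m.val [] = imgE l m := by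
  fin_cases m <;> rfl

theorem zTab_get : ∀ m : Fin 4, zTab.getD m.val [] = imgZ m := by decide +kernel

theorem imgE_lt : ∀ (l : Fin 3 → Fin 3 → Bool) (m : Fin 4), (imgE l m).all (fun r => Nat.blt r 2048) := by
  decide +kernel

/-- Two points disagree. -/
def clash (l : Fin 3 → Fin 3 → Bool) (y : ℕ) : Bool :=
  match crit zTab 1 y, crit (tabE l) 2 y with
  | some a, some b => a != b
  | _, _ => false

/-- Vectors on which inconsistent parameters are detected. -/
def witnesses : List ℕ := [257, 256, 513, 512, 769, 768, 1025, 1024, 1281, 1280, 1537, 1536]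

theorem clash_or_good : ∀ l, (witnesses.any (clash l) ||
    goodData.any (fun d => d.2.1 == tabE l)) = true := by
  decide +kernel

theorem xorSel_lt : ∀ (rs : List ℕ), (∀ r ∈ rs, r < 2048) → ∀ n, xorSel rs n < 2048
  | [], _, n => by simp [xorSel]
  | r :: rs, h, n => by
    rw [xorSel]
    refine Nat.xor_lt_two_pow (n := 11) ?_
      (xorSel_lt rs (fun x hx => h x (List.mem_cons_of_mem _ hx)) _)
    split
    · exact h r List.mem_cons_self
    · norm_num

variable {G : Type*} [Group G] [Finite G]
variable {F : G → Subgroup G} {z : G} {π : G → V8} {ρ : G → orthGroup q8} {e f : Fin 4 → G}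
variable {a : Fin 6 → G} {l : Fin 3 → Fin 3 → Bool} {π' : G → V8} {ρ' : G → orthGroup q8}
  {f' : Fin 4 → G}

namespace Second

theorem crit_z (S : Second F z π ρ e f a l π' ρ' f') {n : ℕ} (hn : n < 2048) (hn0 : n ≠ 0) {b : Bool}
    (h : crit zTab 1 n = some b) : Sing z (sel (base z e a) n) ↔ b = true :=
  crit_sound S.B S.B.C rfl zTab (fun m k => by rw [S.B.conj_f, applyT, zTab_get]; rfl)
    (fun m k hk => by rw [applyT, zTab_get]; exact TZ_lt m ⟨k, hk⟩) S.B.el_z (by norm_num) hn hn0 h

theorem crit_e (S : Second F z π ρ e f a l π' ρ' f') {n : ℕ} (hn : n < 2048) (hn0 : n ≠ 0) {b : Bool}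
    (h : crit (tabE l) 2 n = some b) : Sing z (sel (base z e a) n) ↔ b = true :=
  crit_sound S.B S.C S.cen (tabE l) (fun m k => by rw [S.conj, applyT, tabE_get]; rfl)
    (fun m k _ => by
      rw [applyT, tabE_get]
      exact xorSel_lt _ (fun r hr =>
        Nat.le_of_ble_eq_true (List.all_eq_true.mp (imgE_lt l m) r hr)) k)
    (S.B.el_e 0) (by norm_num) hn hn0 h

theorem exists_coords (S : Second F z π ρ e f a l π' ρ' f') :
    ∃ ψ : List ℕ, (∀ n < 2048, xorSel ψ n < 2048 ∧ (xorSel ψ n = 0 → n = 0)) ∧
      ∀ n < 2048, n ≠ 0 → (Sing z (sel (base z e a) n) ↔ octc (xorSel ψ n) = true) := by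
  rcases (Bool.or_eq_true _ _).mp (clash_or_good l) with h | h
  · exfalso
    obtain ⟨y, hy, hc⟩ := List.any_eq_true.mp h
    have hy' : y < 2048 ∧ y ≠ 0 := by
      revert hy; simp only [witnesses, List.mem_cons, List.not_mem_nil, or_false]; omega
    unfold clash at hc
    split at hc
    · rename_i b c e1 e2
      have := (S.crit_z hy'.1 hy'.2 e1).symm.trans (S.crit_e hy'.1 hy'.2 e2)
      revert hc this
      cases b <;> cases c <;> decide
    · exact Bool.false_ne_true hc
  · obtain ⟨d, hd, he⟩ := List.any_eq_true.mp h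
    have he' : d.2.1 = tabE l := by simpa using he
    refine ⟨d.2.2, fun n hn => ?_, fun n hn hn0 => ?_⟩
    · have := List.all_eq_true.mp (List.all_eq_true.mp goodData_inj d hd) n (List.mem_range.mpr hn)
      simp only [Bool.and_eq_true, Bool.or_eq_true, Bool.not_eq_true'] at this
      refine ⟨Nat.le_of_ble_eq_true this.1, fun h0 => ?_⟩
      rcases this.2 with h1 | h1
      · exact Nat.eq_of_beq_eq_true h1
      · simp [h0] at h1
    · have := List.all_eq_true.mp (List.all_eq_true.mp goodData_ok d hd) n (List.mem_range.mpr hn)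
      simp only [Nat.zero_add, Bool.or_eq_true] at this
      rcases this with h1 | h1
      · exact absurd (Nat.eq_of_beq_eq_true h1) hn0
      simp only [okAt, he'] at h1
      split at h1
      · rename_i b e1
        rw [S.crit_z hn hn0 e1]
        simp at h1; rw [h1]
      · obtain ⟨v, -, hv⟩ := List.any_eq_true.mp h1
        have hv' : crit (tabE l) 2 (combT zTab v n) = some (octc (xorSel d.2.2 n)) := by simpa using hv
        have hcs := combT_sound S.B (f' := f) zTab
          (fun m k => by rw [S.B.conj_f, applyT, zTab_get]; rfl) v n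
        have hlt : combT zTab v n < 2048 := by
          have hs : ∀ (c : Prop) [Decidable c] (m : Fin 4) k, k < 2048 →
              (if c then applyT zTab m.val k else k) < 2048 := fun c _ m k hk => by
            split
            · rw [applyT, zTab_get]; exact TZ_lt m ⟨k, hk⟩
            · exact hk
          exact hs _ 0 _ (hs _ 1 _ (hs _ 2 _ (hs _ 3 _ hn)))
        have hne : combT zTab v n ≠ 0 := fun h0 => hn0 (S.B.el_eq_one hn (by
          rw [h0, sel_zero] at hcs
          exact conj_eq_one_iff.mp hcs))
        rw [← S.crit_e hlt hne hv', ← hcs]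
        refine ⟨fun hs => World.sing_conj hs _, fun hs => ?_⟩
        have := World.sing_conj hs (Chart.bv f (xv v))⁻¹
        simpa [mul_assoc] using this

end Second

end H19.C1M
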