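import Cfsg.Agent.H19.Co1M24.Unip

/-!
Recognising singular involutions in the centraliser of the totally singular part.
-/

set_option autoImplicit false
set_option linter.unusedSectionVars false

namespace H19.C1M

open H43 H79.Co1T
open H69 (LXFam)
open H69.LXFam (Sing)
open H69.Pair (half mem_half)

variable {G : Type*} [Group G] [Finite G]

/-- An alternating matrix from its six entries. -/
def altM (c : Fin 6 → ZMod 2) (i k : Fin 4) : ZMod 2 :=
  c 0 * Chart.pairM 0 1 i k + c 1 * Chart.pairM 0 2 i k + c 2 * Chart.pairM 0 3 i k +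
  c 3 * Chart.pairM 1 2 i k + c 4 * Chart.pairM 1 3 i k + c 5 * Chart.pairM 2 3 i k

/-- The kernel of a matrix. -/
def KerM (M : Fin 4 → Fin 4 → ZMod 2) (x : Fin 4 → ZMod 2) : Prop := ∀ k, ∑ i, x i * M i k = 0

instance decKerM (M : Fin 4 → Fin 4 → ZMod 2) : DecidablePred (KerM M) :=
  fun x => by unfold KerM; infer_instance

/-- A matrix whose kernel has order four. -/
theorem rank_two : ∀ c : Fin 6 → ZMod 2, (Finset.univ.filter (KerM (altM c))).card = 4 →
    ∃ i₀, (∃ k, altM c i₀ k ≠ 0) ∧ ∀ x : Fin 4 → ZMod 2, ∑ k, x k * altM c i₀ k = 0 →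
      (∀ k, ∑ i, x i * altM c i k = 0) ∨ ∀ k, ∑ i, x i * altM c i k = altM c i₀ k := by
  decide +kernel

namespace Chart

variable {F : G → Subgroup G} {z p : G} {π : G → V8} {ρ : G → orthGroup q8} {e f : Fin 4 → G}

/-- A product of lifts. -/
def bv (f : Fin 4 → G) (x : Fin 4 → ZMod 2) : G :=
  bp (f 0) (x 0) * bp (f 1) (x 1) * bp (f 2) (x 2) * bp (f 3) (x 3)

theorem bv_mem {H : Subgroup G} (h : ∀ i, f i ∈ H) (x : Fin 4 → ZMod 2) : bv f x ∈ H :=
  mul_mem (mul_mem (mul_mem (bp_mem (h 0) _) (bp_mem (h 1) _)) (bp_mem (h 2) _)) (bp_mem (h 3) _)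

theorem π_bv (C : Chart F z p π ρ e f) {g : Fin 4 → G} (hg : ∀ i, g i ∈ F p) (x : Fin 4 → ZMod 2) :
    π (bv g x) = ∑ i, x i • π (g i) := by
  have hb : ∀ i c, π (bp (g i) c) = c • π (g i) := fun i c => by
    rcases z2c c with rfl | rfl
    · rw [bp_zero, C.P.one, zero_smul]
    · rw [bp_one, one_smul]
  have hm : ∀ i c, bp (g i) c ∈ F p := fun i c => bp_mem (hg i) c
  rw [bv, C.P.map_mul _ (mul_mem (mul_mem (hm _ _) (hm _ _)) (hm _ _)) _ (hm _ _),
    C.P.map_mul _ (mul_mem (hm _ _) (hm _ _)) _ (hm _ _), C.P.map_mul _ (hm _ _) _ (hm _ _),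
    hb, hb, hb, hb, Fin.sum_univ_four]

theorem decompose (C : Chart F z p π ρ e f) (w : V8) :
    w = ∑ k, B8 w (π (f k)) • π (e k) + ∑ k, B8 w (π (e k)) • π (f k) := by
  refine C.ext_vec (fun i => ?_) (fun i => ?_) <;>
    simp [C.ee, C.ff, C.ef, C.fe, Finset.sum_ite_eq, Finset.sum_ite_eq']

theorem altM_eq (C : Chart F z p π ρ e f) {y : G} (hy : y ∈ Cen p e) :
    ∀ i k, altM ![C.M y 0 1, C.M y 0 2, C.M y 0 3, C.M y 1 2, C.M y 1 3, C.M y 2 3] i k = C.M y i k := by
  intro i k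
  fin_cases i <;> fin_cases k <;>
    simp [altM, pairM, C.M_diag hy, C.M_symm hy 1 0, C.M_symm hy 2 0, C.M_symm hy 3 0,
      C.M_symm hy 2 1, C.M_symm hy 3 1, C.M_symm hy 3 2]

theorem image_eq (C : Chart F z p π ρ e f) {y : G} (hy : y ∈ Cen p e) (w : V8) :
    (ρ y).1 w = w + ∑ k, (∑ i, B8 w (π (e i)) * C.M y i k) • π (e k) := by
  conv_lhs => rw [C.decompose w]
  rw [map_add, map_sum, map_sum]
  simp only [map_smul, C.fix_e hy, C.image_f hy]
  conv_rhs => enter [1]; rw [C.decompose w]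
  simp only [smul_add, Finset.smul_sum, Finset.sum_add_distrib, smul_smul, Finset.sum_smul]
  rw [Finset.sum_comm (γ := Fin 4) (f := fun i k => (B8 w (π (e i)) * C.M y i k) • π (e k))]
  abel

theorem fixed_iff (C : Chart F z p π ρ e f) {y : G} (hy : y ∈ Cen p e) (x : Fin 4 → ZMod 2) :
    (ρ y).1 (π (bv f x)) = π (bv f x) ↔ KerM (C.M y) x := by
  have hx : ∀ i, B8 (π (bv f x)) (π (e i)) = x i := fun i => by
    rw [C.π_bv C.hf]; simp [C.fe, Finset.sum_ite_eq]
  rw [C.image_eq hy, add_eq_left]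
  simp only [hx]
  refine ⟨fun h k => ?_, fun h => Finset.sum_eq_zero fun k _ => by rw [h k, zero_smul]⟩
  have := congrArg (fun v => B8 v (π (f k))) h
  simpa [C.ef, Finset.sum_ite_eq'] using this

/-- Trivial matrix: singular. -/
theorem sing_of_M_zero (C : Chart F z p π ρ e f) {y : G} (hy : y ∈ Cen p e) (h2 : y * y = 1)
    (h1 : y ≠ 1) (h : ∀ i j, C.M y i j = 0) : Sing z y :=
  C.W.sing_mem C.sp (C.mem_of_M hy h) h2 h1

/-- Kernel of order four: singular iff the kernel lifts are centralised. -/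
theorem sing_iff (C : Chart F z p π ρ e f) {y : G} (hy : y ∈ Cen p e) (h2 : y * y = 1)
    (hK : (Finset.univ.filter (KerM (C.M y))).card = 4) :
    Sing z y ↔ ∀ x, KerM (C.M y) x → Commute y (bv f x) := by
  obtain ⟨hyp, hye⟩ := mem_Cen.mp hy
  have hM := funext fun i => funext fun k => C.altM_eq hy i k
  obtain ⟨i₀, ⟨k₀, hk₀⟩, hrow⟩ := rank_two
    ![C.M y 0 1, C.M y 0 2, C.M y 0 3, C.M y 1 2, C.M y 1 3, C.M y 2 3]
    (by simp only [hM]; exact hK)
  rw [hM] at hk₀ hrow
  set r : Fin 4 → ZMod 2 := C.M y i₀ with hr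
  set u : G := bv e r with hu
  have huF : u ∈ F p := bv_mem C.he r
  have hπu : π u = ∑ k, r k • π (e k) := C.π_bv C.he r
  have hue : ∀ k, B8 (π u) (π (e k)) = 0 := fun k => by simp [hπu, C.ee]
  have huf : ∀ k, B8 (π u) (π (f k)) = r k := fun k => by simp [hπu, C.ef, Finset.sum_ite_eq']
  have hu0 : π u ≠ 0 := fun h0 => hk₀ (by rw [← huf, h0]; simp)
  have hqu : q8 (π u) = 0 := by rw [hπu]; exact C.q_comb r
  have huu : u * u = 1 := by rw [C.P.sq u huF, hqu]; simp
  have hu1 : u ≠ 1 := fun h0 => hu0 (by rw [h0, C.P.one])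
  have hyu : Commute y u := by
    have := bv_mem (H := Subgroup.centralizer ({y} : Set G))
      (fun i => Subgroup.mem_centralizer_singleton_iff.mpr (hye i).eq.symm) r
    exact (show Commute (bv e r) y from Subgroup.mem_centralizer_singleton_iff.mp this).symm
  obtain ⟨x', H⟩ := exists_hyp hqu hu0
  have Fr : Frame F z p u π ρ x' :=
    ⟨C.W, C.P, C.sp, huF, C.W.sing_mem C.sp huF huu hu1, fun h0 => hu0 (by rw [h0, C.P.πp]), H.qx,
      H.cx⟩
  have hperp : ∀ w, B8 w (π u) = 0 → proj (π u) x' ((ρ y).1 w) = proj (π u) x' w := by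
    intro w hw
    rw [C.image_eq hy, map_add]
    have hx : ∑ k, B8 w (π (e k)) * r k = 0 := by
      rw [hπu] at hw; simpa [mul_comm] using hw
    have key : ∑ k, (∑ i, B8 w (π (e i)) * C.M y i k) • π (e k) = 0 ∨
        ∑ k, (∑ i, B8 w (π (e i)) * C.M y i k) • π (e k) = π u := by
      rcases hrow (fun i => B8 w (π (e i))) hx with e0 | e0
      · exact Or.inl (Finset.sum_eq_zero fun k _ => by rw [e0 k, zero_smul])
      · exact Or.inr (by rw [hπu]; exact Finset.sum_congr rfl fun k _ => by rw [e0 k])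
    rcases key with e0 | e0 <;> rw [e0]
    · rw [map_zero, add_zero]
    · rw [Fr.H.proj_c, add_zero]
  obtain ⟨w₁, w₂, h⟩ := Fr.exists_pair (Fr.mem_radR_of hyp hyu fun w hw => by
    rw [Frame.gW, hperp w hw.1, hw.proj_eq])
  have hw2 : w₂ ≠ 0 := by
    intro h0
    refine hk₀ ?_
    have e0 := C.image_f hy i₀
    rw [h.rho, h0, eichler2 Fr.H.qc (map_zero _)] at e0
    have := congrArg (fun v => B8 v (π (f k₀))) e0
    simpa [C.ff, C.ef, Finset.sum_ite_eq'] using this.symm
  have hcommA : ∀ a ∈ half F p u, Commute a y ↔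
      B8 (Fr.α a) w₂ = 0 ∧ B8 (Fr.α a) w₁ = 0 := by
    intro a ha
    have e0 := (Fr.pair_A ha).commutator h
    simp only [map_zero, LinearMap.zero_apply, add_zero, zero_add] at e0
    constructor
    · intro hc
      rw [hc.eq, mul_inv_cancel_right, mul_inv_cancel, ← Fr.ep_zero] at e0
      obtain ⟨e1, e2⟩ := Fr.ep_inj e0.symm
      rw [e2, add_zero] at e1
      exact ⟨e2, e1⟩
    · rintro ⟨e1, e2⟩
      rw [e1, e2, add_zero, Fr.ep_zero] at e0
      exact mul_inv_eq_iff_eq_mul.mp (mul_inv_eq_one.mp e0)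
  constructor
  · intro hs x hx
    have hnd : ¬ Ind w₁ w₂ := fun hi => Fr.not_sing h hi h2 hs
    have hfix := (C.fixed_iff hy x).mpr hx
    have hperp' : B8 (π (bv f x)) (π u) = 0 := by
      have hh : ∀ k, B8 (π (bv f x)) (π (e k)) = x k := fun k => by
        rw [C.π_bv C.hf]; simp [C.fe, Finset.sum_ite_eq]
      rw [hπu]
      simp only [map_sum, map_smul, smul_eq_mul, hh, hr]
      rw [show (∑ k, C.M y i₀ k * x k) = ∑ k, x k * C.M y k i₀ from
        Finset.sum_congr rfl fun k _ => by rw [C.M_symm hy i₀ k, mul_comm]]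
      exact hx i₀
    have ha : bv f x ∈ half F p u := Fr.memA.mpr ⟨bv_mem C.hf x, hperp'⟩
    refine ((hcommA _ ha).mpr ?_).symm
    have hαB : B8 (Fr.α (bv f x)) w₂ = B8 (π (bv f x)) w₂ := by
      conv_lhs => rw [← h.inW.2.proj_eq]
      exact Fr.H.B_proj hperp' h.inW.2.1
    have hB2 : B8 (π (bv f x)) w₂ = 0 := by
      rw [h.rho, eichler2 Fr.H.qc h.inW.2.mono.1,
        show polB q8 (π (bv f x)) (π u) = 0 from hperp', zero_smul, mul_zero, zero_smul, add_zero,
        add_zero] at hfix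
      rcases z2c (B8 (π (bv f x)) w₂) with e0 | e0
      · exact e0
      · exfalso
        rw [show polB q8 (π (bv f x)) w₂ = 1 from e0, one_smul, add_eq_left] at hfix
        exact hu0 hfix
    refine ⟨hαB.trans hB2, ?_⟩
    simp only [Ind, not_and_or, not_not] at hnd
    rcases hnd with e0 | e0 | e0
    · rw [e0, map_zero]
    · exact absurd e0 hw2
    · rw [e0]; exact hαB.trans hB2
  · intro hall
    by_cases hi : Ind w₁ w₂
    · exfalso
      obtain ⟨α, hα, a1', a2'⟩ := Fr.H.exists_two h.inW.1 h.inW.2 hi 1 0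
      obtain ⟨a, ha, hαa, hπa⟩ := Fr.α_surj hα
      let x : Fin 4 → ZMod 2 := fun k => B8 α (π (e k))
      have hx : KerM (C.M y) x := by
        intro k
        have hfixα : (ρ y).1 α = α := by
          rw [h.rho, eichler2 Fr.H.qc h.inW.2.mono.1, show polB q8 α (π u) = 0 from hα.1,
            show polB q8 α w₂ = 0 from a2']
          simp
        rw [C.image_eq hy, add_eq_left] at hfixα
        have := congrArg (fun v => B8 v (π (f k))) hfixα
        simpa [C.ef, Finset.sum_ite_eq', x] using this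
      have hyx : Commute y (bv f x) := hall x hx
      have haF : a ∈ F p := (mem_half.mp ha).1
      have hm : a * (bv f x)⁻¹ ∈ Cen p e := by
        have hmF : a * (bv f x)⁻¹ ∈ F p := mul_mem haF (inv_mem (bv_mem C.hf x))
        refine mem_Cen.mpr ⟨C.P.comm _ hmF, fun k => (C.P.commute_iff hmF (C.he k)).mpr ?_⟩
        rw [C.P.map_mul a haF _ (inv_mem (bv_mem C.hf x)), C.P.πinv (bv_mem C.hf x), C.π_bv C.hf, hπa]
        simp [x, C.fe, Finset.sum_ite_eq, ZModModule.add_self]
      obtain ⟨n, -, hn⟩ := C.exists_sel (mul_mem haF (inv_mem (bv_mem C.hf x))) hm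
      have hay : Commute a y := by
        rw [show a = sel (ebase p e) n * bv f x by rw [← hn]; group]
        exact (C.sel_central hy n).symm.mul_left hyx.symm
      have := ((hcommA a ha).mp hay).2
      rw [hαa, a1'] at this
      exact one_ne_zero this
    · exact h.sing_of_dep hi h2 fun e0 => hk₀ (by
        show C.M y i₀ k₀ = 0
        rw [e0, C.M_mem (one_mem _)])

end Chart

end H19.C1M
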