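import Cfsg.Agent.H90.Code

/-!
Finite computation: recognising singular vectors from the two points, and the code coordinates.
-/

set_option autoImplicit false

namespace H19.C1M

open H90 (xorSel popc encode)

/-- A generator applied to an index. -/
def applyT (T : List (List ℕ)) (m n : ℕ) : ℕ := xorSel (T.getD m []) n

/-- A product of generators applied to an index. -/
def combT (T : List (List ℕ)) (v n : ℕ) : ℕ :=
  let a := if v / 8 % 2 = 1 then applyT T 3 n else n
  let b := if v / 4 % 2 = 1 then applyT T 2 a else a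
  let c := if v / 2 % 2 = 1 then applyT T 1 b else b
  if v % 2 = 1 then applyT T 0 c else c

/-- The displacements of the generators. -/
def dispT (T : List (List ℕ)) (n : ℕ) : List ℕ :=
  [applyT T 0 n ^^^ n, applyT T 1 n ^^^ n, applyT T 2 n ^^^ n, applyT T 3 n ^^^ n]

/-- The kernel of the displacements. -/
def kerT (D : List ℕ) (P : ℕ) : List ℕ :=
  (List.range 16).filter fun v => Nat.beq (xorSel D v) 0 || Nat.beq (xorSel D v) P

/-- The criterion at a point. -/
def crit (T : List (List ℕ)) (P n : ℕ) : Option Bool :=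
  let K := kerT (dispT T n) P
  if Nat.beq K.length 16 then some true
  else if Nat.beq K.length 4 then some (K.all fun v => Nat.beq (combT T v n) n) else none

/-- The table at the first point. -/
def zTab : List (List ℕ) :=
  [[1, 3, 4, 8, 16, 36, 72, 144, 256, 512, 1024], [1, 2, 5, 8, 16, 34, 64, 128, 264, 528, 1024],
    [1, 2, 4, 9, 16, 32, 66, 128, 260, 512, 1040], [1, 2, 4, 8, 17, 32, 64, 130, 256, 516, 1032]]

/-- Keys, tables at the second point and coordinates in the code, of the consistent parameters. -/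
def goodData : List (ℕ × List (List ℕ) × List ℕ) := [
  (95, [[3, 2, 32, 64, 128, 4, 8, 16, 508, 620, 1060], [1, 2, 7, 8, 16, 33, 64, 128, 329, 657, 1025], [1, 2, 4, 11, 16, 32, 65, 128, 293, 513, 1168], [1, 2, 4, 8, 19, 32, 64, 129, 257, 548, 1096]], [1, 150, 372, 568, 1134, 20, 17, 7, 48, 101, 41]),
  (125, [[3, 2, 32, 64, 128, 4, 8, 16, 436, 764, 1060], [1, 2, 7, 8, 16, 33, 64, 128, 329, 657, 1025], [1, 2, 4, 11, 16, 32, 65, 128, 292, 513, 1168], [1, 2, 4, 8, 19, 32, 64, 129, 257, 549, 1096]], [1, 150, 372, 568, 1134, 21, 17, 7, 49, 100, 40]),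
  (215, [[3, 2, 32, 64, 128, 4, 8, 16, 508, 584, 1132], [1, 2, 7, 8, 16, 33, 64, 128, 329, 656, 1025], [1, 2, 4, 11, 16, 32, 65, 128, 293, 513, 1169], [1, 2, 4, 8, 19, 32, 64, 129, 257, 548, 1096]], [1, 150, 372, 568, 1134, 20, 17, 6, 49, 101, 41]),
  (245, [[3, 2, 32, 64, 128, 4, 8, 16, 436, 728, 1132], [1, 2, 7, 8, 16, 33, 64, 128, 329, 656, 1025], [1, 2, 4, 11, 16, 32, 65, 128, 292, 513, 1169], [1, 2, 4, 8, 19, 32, 64, 129, 257, 549, 1096]], [1, 150, 372, 568, 1134, 21, 17, 6, 48, 101, 40]),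
  (350, [[3, 2, 32, 64, 128, 4, 8, 16, 472, 620, 1204], [1, 2, 7, 8, 16, 33, 64, 128, 328, 657, 1025], [1, 2, 4, 11, 16, 32, 65, 128, 293, 513, 1168], [1, 2, 4, 8, 19, 32, 64, 129, 257, 548, 1097]], [1, 150, 372, 568, 1134, 20, 16, 7, 49, 100, 41]),
  (380, [[3, 2, 32, 64, 128, 4, 8, 16, 400, 764, 1204], [1, 2, 7, 8, 16, 33, 64, 128, 328, 657, 1025], [1, 2, 4, 11, 16, 32, 65, 128, 292, 513, 1168], [1, 2, 4, 8, 19, 32, 64, 129, 257, 549, 1097]], [1, 150, 372, 568, 1134, 21, 16, 7, 49, 101, 40]),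
  (470, [[3, 2, 32, 64, 128, 4, 8, 16, 472, 584, 1276], [1, 2, 7, 8, 16, 33, 64, 128, 328, 656, 1025], [1, 2, 4, 11, 16, 32, 65, 128, 293, 513, 1169], [1, 2, 4, 8, 19, 32, 64, 129, 257, 548, 1097]], [1, 150, 372, 568, 1134, 20, 16, 6, 48, 100, 40]),
  (500, [[3, 2, 32, 64, 128, 4, 8, 16, 400, 728, 1276], [1, 2, 7, 8, 16, 33, 64, 128, 328, 656, 1025], [1, 2, 4, 11, 16, 32, 65, 128, 292, 513, 1169], [1, 2, 4, 8, 19, 32, 64, 129, 257, 549, 1097]], [1, 150, 372, 568, 1134, 21, 16, 6, 48, 100, 41])]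

/-- The octad classes. -/
def octc (n : ℕ) : Bool := Nat.beq (popc (encode n)) 8 || Nat.beq (popc (encode n)) 16

/-- Coordinates are correct at one vector. -/
def okAt (T : List (List ℕ)) (ψ : List ℕ) (n : ℕ) : Bool :=
  let o := octc (xorSel ψ n)
  match crit zTab 1 n with
  | some b => b == o
  | none => (List.range 16).any fun v => crit T 2 (combT zTab v n) == some o

/-- Coordinates are correct. -/
def okAll (d : ℕ × List (List ℕ) × List ℕ) (lo k : ℕ) : Bool :=
  (List.range k).all fun i => Nat.beq (lo + i) 0 || okAt d.2.1 d.2.2 (lo + i)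

theorem goodData_ok : goodData.all (fun d => okAll d 0 2048) = true := by
  decide +kernel

theorem goodData_inj : goodData.all (fun d => (List.range 2048).all fun n =>
    Nat.blt (xorSel d.2.2 n) 2048 && (Nat.beq n 0 || !Nat.beq (xorSel d.2.2 n) 0)) = true := by
  decide +kernel

theorem octad_classes : ((List.range 2048).filter fun n => octc n).length = 759 := by
  decide +kernel

end H19.C1M
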