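import Cfsg.Agent.H19.Co1M24.Basis
import Cfsg.Agent.H44.BlockDiag

/-!
A lower bound for the stabiliser of the central involution in the normaliser.
-/

set_option autoImplicit false
set_option linter.unusedSectionVars false

namespace H19.C1M

open H43 H79.Co1T
open H69 (LXFam)
open H69.LXFam (Sing)

variable {G : Type*} [Group G] [Finite G]
variable {F : G → Subgroup G} {z : G} {π : G → V8} {ρ : G → orthGroup q8} {e f : Fin 4 → G}
variable {a : Fin 6 → G}

theorem mem_normalizer_of_conj_mem {H : Subgroup G} {c : G} (h : ∀ y ∈ H, c * y * c⁻¹ ∈ H) :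
    c ∈ Subgroup.normalizer (H : Set G) := by
  rw [Subgroup.mem_normalizer_iff]
  have hinj : Function.Injective (fun y : H => (⟨c * y * c⁻¹, h y y.2⟩ : H)) := fun x y e0 =>
    Subtype.ext (mul_left_cancel (mul_right_cancel (congrArg Subtype.val e0)))
  have hs := Finite.injective_iff_surjective.mp hinj
  intro y
  refine ⟨h y, fun hy => ?_⟩
  obtain ⟨⟨x, hx⟩, e0⟩ := hs ⟨c * y * c⁻¹, hy⟩
  have : x = y := mul_left_cancel (mul_right_cancel (congrArg Subtype.val e0))
  exact this ▸ hx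

namespace Basis

theorem normalises (B : Basis F z π ρ e f a) {c : G} (hc : Commute c z)
    (h : ∀ i, ∃ x : Fin 4 → ZMod 2, (ρ c).1 (π (e i)) = ∑ k, x k • π (e k)) :
    c ∈ Subgroup.normalizer (Chart.Cen z e : Set G) := by
  suffices h' : c⁻¹ ∈ Subgroup.normalizer (Chart.Cen z e : Set G) by simpa using inv_mem h'
  refine mem_normalizer_of_conj_mem fun y hy => ?_
  rw [inv_inv]
  obtain ⟨hyz, -⟩ := Chart.mem_Cen.mp hy
  refine Chart.mem_Cen.mpr ⟨(hc.inv_left.mul_left hyz).mul_left hc, fun i => ?_⟩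
  obtain ⟨x, hx⟩ := h i
  have hm := B.C.P.norm c hc _ (B.C.he i)
  have hbA : Chart.bv e x ∈ Chart.Cen z e :=
    Chart.bv_mem (fun j => B.C.ebase_mem_Cen _ (by fin_cases j <;> simp [Chart.ebase])) x
  have hyc : Commute y (c * e i * c⁻¹) := by
    rcases B.C.P.eq_cases (Chart.bv_mem B.C.he x) hm
      (by rw [B.C.π_bv B.C.he, B.C.P.act c hc _ (B.C.he i), hx]) with e0 | e0 <;> rw [e0]
    · exact B.good y hy _ hbA
    · exact (B.good y hy _ hbA).mul_right hyz
  show c⁻¹ * y * c * e i = e i * (c⁻¹ * y * c)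
  calc c⁻¹ * y * c * e i = c⁻¹ * (y * (c * e i * c⁻¹)) * c := by group
    _ = _ := by rw [hyc.eq]; group

theorem card_lower (B : Basis F z π ρ e f a) :
    20160 * 16 * 2048 ≤ Nat.card
      ↥(Subgroup.normalizer (Chart.Cen z e : Set G) ⊓ Subgroup.centralizer ({z} : Set G)) := by
  classical
  have hL : ∀ A : GL (Fin 4) (ZMod 2), ∃ c, Commute c z ∧
      ∀ i, (ρ c).1 (π (e i)) = ∑ k, A.1 k i • π (e k) := by
    intro A
    have hA : A.1.det ≠ 0 := ((Matrix.isUnit_iff_isUnit_det _).mp A.isUnit).ne_zero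
    obtain ⟨g, hg⟩ := H44.exists_blockOrth A.1 hA
    obtain ⟨c, hc, hcg⟩ := B.C.P.lift g (H44.blockOrth_dickson gen8 hg)
    refine ⟨c, hc, fun i => ?_⟩
    simp only [hcg, hg, B.std.1, Matrix.fromBlocks_mulVec]
    funext j
    rcases j with j | j <;>
      simp [eI, Matrix.mulVec, dotProduct, Pi.single_apply, Finset.sum_ite_eq, Finset.sum_apply]
  choose c hc hce using hL
  have heF : ∀ {y}, y ∈ Chart.Cen z e → ∀ i, (ρ y).1 (π (e i)) = π (e i) := fun hy => B.C.fix_e hy
  let φ : GL (Fin 4) (ZMod 2) × (Fin 4 → ZMod 2) × Chart.Cen z e →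
      ↥(Subgroup.normalizer (Chart.Cen z e : Set G) ⊓ Subgroup.centralizer ({z} : Set G)) :=
    fun x => ⟨c x.1 * Chart.bv f x.2.1 * x.2.2.1, by
      have hb : Commute (Chart.bv f x.2.1) z := B.C.P.comm _ (Chart.bv_mem B.C.hf _)
      have hy := (Chart.mem_Cen.mp x.2.2.2).1
      refine ⟨mul_mem (mul_mem ?_ ?_) ?_, Subgroup.mem_centralizer_singleton_iff.mpr
        (((hc x.1).mul_left hb).mul_left hy).eq⟩
      · exact B.normalises (hc x.1) fun i => ⟨fun k => x.1.1 k i, hce x.1 i⟩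
      · exact B.normalises hb fun i => ⟨Pi.single i 1, by
          rw [B.C.P.ρ_mem (Chart.bv_mem B.C.hf _), orth_one_apply]
          simp [Pi.single_apply, Finset.sum_ite_eq']⟩
      · exact Subgroup.le_normalizer x.2.2.2⟩
  have hφ : Function.Injective φ := by
    rintro ⟨A, x, ⟨y, hy⟩⟩ ⟨A', x', ⟨y', hy'⟩⟩ h
    have h' : c A * Chart.bv f x * y = c A' * Chart.bv f x' * y' := congrArg Subtype.val h
    have hb : ∀ v, Commute (Chart.bv f v) z := fun v => B.C.P.comm _ (Chart.bv_mem B.C.hf v)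
    have hρ : ∀ (A : GL (Fin 4) (ZMod 2)) v {y}, y ∈ Chart.Cen z e → ∀ i,
        (ρ (c A * Chart.bv f v * y)).1 (π (e i)) = (ρ (c A)).1 (π (e i)) := by
      intro A v y hy i
      rw [B.C.P.ρ_mul ((hc A).mul_left (hb v)) (Chart.mem_Cen.mp hy).1,
        B.C.P.ρ_mul (hc A) (hb v), B.C.P.ρ_mem (Chart.bv_mem B.C.hf v), mul_one, orth_mul_apply,
        heF hy]
    have hAA : A = A' := by
      apply Units.ext
      ext k i
      have e1 := congrArg (fun g => B8 ((ρ g).1 (π (e i))) (π (f k))) h'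
      simp only [hρ _ _ hy, hρ _ _ hy', hce] at e1
      simpa [B.C.ef, Finset.sum_ite_eq'] using e1
    subst hAA
    rw [mul_assoc, mul_assoc] at h'
    have h2 := mul_left_cancel h'
    have hxx : x = x' := by
      funext i
      have hm : (Chart.bv f x')⁻¹ * Chart.bv f x ∈ Chart.Cen z e := by
        rw [show (Chart.bv f x')⁻¹ * Chart.bv f x = y' * y⁻¹ by
          rw [inv_mul_eq_iff_eq_mul, ← mul_assoc, ← h2, mul_inv_cancel_right]]
        exact mul_mem hy' (inv_mem hy)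
      have hF := mul_mem (inv_mem (Chart.bv_mem B.C.hf x')) (Chart.bv_mem B.C.hf x)
      have e1 := (B.C.P.commute_iff hF (B.C.he i)).mp ((Chart.mem_Cen.mp hm).2 i)
      rw [B.C.P.map_mul _ (inv_mem (Chart.bv_mem B.C.hf x')) _ (Chart.bv_mem B.C.hf x),
        B.C.P.πinv (Chart.bv_mem B.C.hf x'), B.C.π_bv B.C.hf, B.C.π_bv B.C.hf] at e1
      simp [B.C.fe, Finset.sum_ite_eq] at e1
      exact (show ∀ a b : ZMod 2, a + b = 0 → b = a by decide) _ _ e1
    subst hxx
    exact Prod.ext rfl (Prod.ext rfl (Subtype.ext (mul_left_cancel h2)))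
  refine le_trans (le_of_eq ?_) (Nat.card_le_card_of_injective φ hφ)
  rw [Nat.card_prod, Nat.card_prod, B.card_Cen, Matrix.card_GL_field]
  simp [Fin.prod_univ_four]

end Basis

end H19.C1M
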