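import Cfsg.Agent.H19.Co1M24.Finite
import Cfsg.Agent.H90.Orbits
import Cfsg.Agent.H94.GolayFacts

/-!
The code of length 24 modulo the all-ones word, in the coordinates of information words.
-/

set_option autoImplicit false

namespace H19.C1M

open Cfsg
open H90 (encode wordOf popc setOf')

/-- The word with information bits `n`. -/
def cw (n : ℕ) : GolayPt → ZMod 2 := wordOf (encode n)

/-- Equality modulo the all-ones word. -/
def Eq1 (u v : GolayPt → ZMod 2) : Prop := v = u ∨ v = u + 1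

/-- A permuted word. -/
def permW (σ : Equiv.Perm GolayPt) (w : GolayPt → ZMod 2) : GolayPt → ZMod 2 := fun p => w (σ.symm p)

theorem one_add_one' : (1 : GolayPt → ZMod 2) + 1 = 0 := by
  funext p; exact ZModModule.add_self (1 : ZMod 2)

theorem Eq1.refl (u : GolayPt → ZMod 2) : Eq1 u u := Or.inl rfl

theorem Eq1.symm {u v : GolayPt → ZMod 2} (h : Eq1 u v) : Eq1 v u := by
  rcases h with h | h
  · exact Or.inl h.symm
  · exact Or.inr (by rw [h, add_assoc, one_add_one', add_zero])

theorem Eq1.trans {u v w : GolayPt → ZMod 2} (h : Eq1 u v) (h' : Eq1 v w) : Eq1 u w := by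
  rcases h with rfl | rfl <;> rcases h' with rfl | rfl
  exacts [Or.inl rfl, Or.inr rfl, Or.inr rfl, Or.inl (by rw [add_assoc, one_add_one', add_zero])]

theorem Eq1.perm {u v : GolayPt → ZMod 2} (h : Eq1 u v) (σ : Equiv.Perm GolayPt) :
    Eq1 (permW σ u) (permW σ v) := by
  rcases h with rfl | rfl
  exacts [Or.inl rfl, Or.inr rfl]

theorem permW_mul (σ τ : Equiv.Perm GolayPt) (w : GolayPt → ZMod 2) :
    permW (σ * τ) w = permW σ (permW τ w) := rfl

theorem permW_one (w : GolayPt → ZMod 2) : permW 1 w = w := rfl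

theorem support₂_permW (σ : Equiv.Perm GolayPt) (w : GolayPt → ZMod 2) :
    support₂ (permW σ w) = (support₂ w).image σ := by
  have hm : ∀ {u : GolayPt → ZMod 2} {x}, x ∈ support₂ u ↔ u x ≠ 0 := fun {u x} => by simp [support₂]
  ext p
  rw [hm, Finset.mem_image]
  constructor
  · exact fun h => ⟨σ.symm p, hm.mpr h, σ.apply_symm_apply p⟩
  · rintro ⟨q, h, rfl⟩
    show w (σ.symm (σ q)) ≠ 0
    rw [σ.symm_apply_apply]
    exact hm.mp h

theorem cw_xor (a b : ℕ) : cw (a ^^^ b) = cw a + cw b := by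
  rw [cw, H90.encode_xor, H90.wordOf_xor]; rfl

theorem cw_zero : cw 0 = 0 := by
  rw [cw, show encode 0 = 0 by decide +kernel, H90.wordOf_zero]

theorem cw_top : cw 4095 = 1 := (funext H90.one_eq).symm

theorem cw_mem (n : ℕ) : cw n ∈ golayCode := H90.wordOf_encode_mem n

theorem cw_injOn {a b : ℕ} (ha : a < 4096) (hb : b < 4096) (h : cw a = cw b) : a = b :=
  H90.encode_injOn ha hb (H90.wordOf_injOn (H90.encode_lt ha) (H90.encode_lt hb) h)

theorem cw_flip (a : ℕ) : cw (a ^^^ 4095) = cw a + 1 := by rw [cw_xor, cw_top]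

theorem flip_big : ∀ b : Fin 2048, 2048 ≤ b.val ^^^ 4095 := by decide +kernel

theorem flip_small (b : Fin 4096) : b.val < 2048 ∨ b.val ^^^ 4095 < 2048 := by
  have h : (List.range 4096).all (fun n => Nat.blt n 2048 || Nat.blt (n ^^^ 4095) 2048) = true := by
    decide +kernel
  have := List.all_eq_true.mp h b.val (List.mem_range.mpr b.2)
  rw [Bool.or_eq_true] at this
  exact this.imp Nat.le_of_ble_eq_true Nat.le_of_ble_eq_true

theorem eq_of_Eq1 {a b : ℕ} (ha : a < 2048) (hb : b < 2048) (h : Eq1 (cw a) (cw b)) : a = b := by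
  rcases h with h | h
  · exact cw_injOn (lt_trans ha (by norm_num)) (lt_trans hb (by norm_num)) h.symm
  · rw [← cw_flip] at h
    have := cw_injOn (lt_trans hb (by norm_num))
      (Nat.xor_lt_two_pow (n := 12) (lt_trans ha (by norm_num)) (by norm_num)) h
    exact absurd (this ▸ flip_big ⟨a, ha⟩) (by omega)

theorem exists_class {w : GolayPt → ZMod 2} (hw : w ∈ golayCode) : ∃ a < 2048, Eq1 (cw a) w := by
  obtain ⟨n, hn, rfl⟩ := H90.mem_golayCode_iff.mp hw
  rcases flip_small ⟨n, hn⟩ with h | h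
  · exact ⟨n, h, Eq1.refl _⟩
  · exact ⟨_, h, Or.inr (by rw [cw_flip, add_assoc, one_add_one', add_zero]; rfl)⟩

theorem octc_spec {a : ℕ} (ha : a < 2048) (h0 : a ≠ 0) :
    (octc a = true → ∃ w ∈ golayCode, Eq1 (cw a) w ∧ support₂ w ∈ octads) ∧
      (octc a = false → support₂ (cw a) ∈ dodecads) := by
  have hc : cw a ∈ golayCode := cw_mem a
  have hn : hammingNorm (cw a) = popc (encode a) := H90.hammingNorm_wordOf _
  have hne : cw a ≠ 0 := fun e => h0 (cw_injOn (lt_trans ha (by norm_num)) (by norm_num)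
    (e.trans cw_zero.symm))
  have h24 : hammingNorm (cw a) ≠ 24 := fun e => by
    have h1 := H94.golay_full.norm_add_one (cw a)
    rw [e] at h1
    have h2 : hammingNorm (cw a + 1) = 0 := by
      change hammingNorm (cw a + fun _ => (1 : ZMod 2)) = 0
      omega
    have h3 : Eq1 (cw a) (cw 0) := Or.inr (by rw [cw_zero]; exact (hammingNorm_eq_zero.mp h2).symm)
    exact h0 (eq_of_Eq1 ha (by norm_num) h3)
  have hmem : ∀ {w}, w ∈ golayCode → ∀ k, hammingNorm w = k →
      support₂ w ∈ wordsOfWeight (golayCode : Set (GolayPt → ZMod 2)) k := fun {w} hw k hk =>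
    ⟨⟨w, hw, rfl⟩, by rw [← H90.hammingNorm_eq_card_support₂, hk]⟩
  rcases H90.weight_cases _ hc with h | h | h | h | h
  · exact absurd (hammingNorm_eq_zero.mp h) hne
  · exact ⟨fun _ => ⟨_, hc, Eq1.refl _, hmem hc 8 h⟩,
      fun ho => by simp [octc, ← hn, h] at ho⟩
  · exact ⟨fun ho => by simp [octc, ← hn, h] at ho, fun _ => hmem hc 12 h⟩
  · refine ⟨fun _ => ⟨cw a + 1, Submodule.add_mem _ hc (Submodule.subset_span (Or.inr rfl)),
      Or.inr rfl, hmem (Submodule.add_mem _ hc (Submodule.subset_span (Or.inr rfl))) 8 ?_⟩,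
      fun ho => by simp [octc, ← hn, h] at ho⟩
    have h1 := H94.golay_full.norm_add_one (cw a)
    change hammingNorm (cw a + fun _ => (1 : ZMod 2)) = 8
    omega
  · exact absurd h h24

theorem exists_move_class {a b : ℕ} (ha : a < 2048) (hb : b < 2048) (ha0 : a ≠ 0) (hb0 : b ≠ 0)
    (h : octc a = octc b) : ∃ σ ∈ M24, Eq1 (permW σ (cw a)) (cw b) := by
  cases ho : octc a
  · rw [ho] at h
    obtain ⟨σ, hσ, e⟩ := H90.exists_M24_dodecad ((octc_spec ha ha0).2 ho) ((octc_spec hb hb0).2 h.symm)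
    exact ⟨σ, hσ, Or.inl (H90.support₂_injective (by rw [support₂_permW, e]))⟩
  · rw [ho] at h
    obtain ⟨u, -, hu, huo⟩ := (octc_spec ha ha0).1 ho
    obtain ⟨v, -, hv, hvo⟩ := (octc_spec hb hb0).1 h.symm
    obtain ⟨σ, hσ, e⟩ := H90.exists_M24_octad huo hvo
    have e' : v = permW σ u := H90.support₂_injective (by rw [support₂_permW, e])
    exact ⟨σ, hσ, ((hu.perm σ).trans (Or.inl e')).trans hv.symm⟩

/-- Information words of octads separating the points. -/
def sepList : List ℕ := [1, 150, 3944, 8, 228, 3859, 260, 720, 3115, 1024, 2192]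

theorem sepList_ok : (∀ n ∈ sepList, popc (encode n) = 8 ∧ n < 4096) ∧ ∀ p q : GolayPt, p ≠ q →
    ∃ n ∈ sepList, p ∈ setOf' (encode n) ∧ q ∉ setOf' (encode n) := by
  decide +kernel

theorem eq_one_of_classes {σ : Equiv.Perm GolayPt} (h : ∀ a < 2048, Eq1 (permW σ (cw a)) (cw a)) :
    σ = 1 := by
  refine Equiv.ext fun p => ?_
  by_contra hne
  obtain ⟨n, hn, hp, hq⟩ := sepList_ok.2 p (σ p) (Ne.symm hne)
  obtain ⟨h8, hlt⟩ := sepList_ok.1 n hn
  obtain ⟨a, ha, hae⟩ := exists_class (cw_mem n)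
  have e1 : Eq1 (permW σ (cw n)) (cw n) := ((hae.perm σ).symm.trans (h a ha)).trans hae
  have e2 : cw n = permW σ (cw n) := by
    rcases e1 with e1 | e1
    · exact e1
    · exfalso
      have hn8 : hammingNorm (cw n) = 8 := (H90.hammingNorm_wordOf _).trans h8
      have hp8 : hammingNorm (permW σ (cw n)) = 8 := by
        rw [← hn8, H90.hammingNorm_eq_card_support₂, H90.hammingNorm_eq_card_support₂,
          support₂_permW, Finset.card_image_of_injective _ σ.injective]
      have h1 := H94.golay_full.norm_add_one (permW σ (cw n))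
      change hammingNorm (permW σ (cw n) + 1) + _ = 24 at h1
      rw [← e1, hn8, hp8] at h1
      omega
  refine hq ?_
  rw [← H90.support₂_wordOf, ← cw, e2, support₂_permW]
  exact Finset.mem_image.mpr ⟨p, by rwa [cw, H90.support₂_wordOf], rfl⟩

end H19.C1M
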