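import Cfsg.Agent.H19.Co1M24.Coords
import Cfsg.Agent.H19.Co1M24.Levi
import Cfsg.Agent.H19.Co1M24.Word
import Cfsg.Agent.H90.CentralizerStructure
import Cfsg.Agent.H92.MaximalOctad

/-!
The normaliser of the abelian centraliser maps onto the automorphism group of the code.
-/

set_option autoImplicit false
set_option linter.unusedSectionVars false

namespace H19.C1M

open Cfsg
open H43 H79.Co1T
open H69 (LXFam)
open H69.LXFam (Sing)
open H90 (xorSel)
open scoped Pointwise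

variable {G : Type*} [Group G] [Finite G]
variable {F : G → Subgroup G} {z : G} {π : G → V8} {ρ : G → orthGroup q8} {e f : Fin 4 → G}
variable {a : Fin 6 → G} {ψ : List ℕ}

theorem octad_rep_unique {u v : GolayPt → ZMod 2} (h : Eq1 u v) (hu : support₂ u ∈ octads)
    (hv : support₂ v ∈ octads) : u = v := by
  rcases h with h | h
  · exact h.symm
  · exfalso
    have h1 := H94.golay_full.norm_add_one u
    change hammingNorm (u + 1) + hammingNorm u = 24 at h1
    rw [← h, H90.hammingNorm_eq_card_support₂, H90.hammingNorm_eq_card_support₂, hu.2, hv.2] at h1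
    omega

/-- Code coordinates on the abelian centraliser, with an element moving the central involution. -/
structure Co (F : G → Subgroup G) (z : G) (π : G → V8) (ρ : G → orthGroup q8)
    (e f : Fin 4 → G) (a : Fin 6 → G) (ψ : List ℕ) : Prop where
  B : Basis F z π ρ e f a
  lt : ∀ n < 2048, xorSel ψ n < 2048
  inj : ∀ n < 2048, xorSel ψ n = 0 → n = 0
  sing : ∀ n < 2048, n ≠ 0 → (Sing z (sel (base z e a) n) ↔ octc (xorSel ψ n) = true)
  move : ∃ g ∈ Subgroup.normalizer (Chart.Cen z e : Set G), g * z * g⁻¹ ≠ z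

theorem exists_co (W : World F z) :
    ∃ (π : G → V8) (ρ : G → orthGroup q8) (e f : Fin 4 → G) (a : Fin 6 → G) (ψ : List ℕ),
      Co F z π ρ e f a ψ := by
  obtain ⟨π, ρ, e, f, a, l, π', ρ', f', S⟩ := exists_second W
  obtain ⟨ψ, h1, h2⟩ := S.exists_coords
  refine ⟨π, ρ, e, f, a, ψ, S.B, fun n hn => (h1 n hn).1, fun n hn => (h1 n hn).2, h2,
    f' 0, mem_normalizer_of_conj_mem fun y hy => ?_, ?_⟩
  · rw [← S.cen] at hy ⊢
    exact S.C.conj_mem_Cen hy (S.C.hf 0)
  · have h := S.C.conj_fe 0 0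
    rw [if_pos rfl] at h
    change f' 0 * z * (f' 0)⁻¹ = e 0 * z at h
    rw [h]
    intro h0
    have h3 : e 0 = 1 := mul_eq_right.mp h0
    have := S.B.C.ef 0 0
    simp [h3, S.B.C.P.one] at this

/-- An element of the normaliser acts on the classes as a permutation of the points. -/
def Rel (z : G) (e : Fin 4 → G) (a : Fin 6 → G) (ψ : List ℕ) (g : G) (σ : Equiv.Perm GolayPt) :
    Prop :=
  ∀ n < 2048, ∀ m < 2048, g * sel (base z e a) n * g⁻¹ = sel (base z e a) m →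
    Eq1 (permW σ (cw (xorSel ψ n))) (cw (xorSel ψ m))

namespace Co

theorem surj (K : Co F z π ρ e f a ψ) {k : ℕ} (hk : k < 2048) :
    ∃ n < 2048, xorSel ψ n = k := by
  have hi : Function.Injective (fun n : Fin 2048 => (⟨xorSel ψ n, K.lt n n.2⟩ : Fin 2048)) := by
    intro m n h
    have h' : xorSel ψ m.val = xorSel ψ n.val := congrArg Fin.val h
    exact Fin.ext (Nat.xor_eq_zero_iff.mp (K.inj _ (Nat.xor_lt_two_pow (n := 11) m.2 n.2)
      (by rw [H90.xorSel_xor, h', Nat.xor_self])))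
  obtain ⟨n, hn⟩ := Finite.injective_iff_surjective.mp hi ⟨k, hk⟩
  exact ⟨n, n.2, congrArg Fin.val hn⟩

theorem class_conj (K : Co F z π ρ e f a ψ) {g : G} {n m : ℕ} (hn : n < 2048) (hm : m < 2048)
    (h : g * sel (base z e a) n * g⁻¹ = sel (base z e a) m) :
    ∃ σ ∈ M24, Eq1 (permW σ (cw (xorSel ψ n))) (cw (xorSel ψ m)) := by
  by_cases hn0 : n = 0
  · subst hn0
    rw [sel_zero, mul_one, mul_inv_cancel] at h
    rw [K.B.el_eq_one hm h.symm]
    exact ⟨1, one_mem _, Eq1.refl _⟩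
  have hm0 : m ≠ 0 := fun e0 => hn0 (K.B.el_eq_one hn (by
    rw [e0, sel_zero] at h; exact conj_eq_one_iff.mp h))
  refine exists_move_class (K.lt n hn) (K.lt m hm) (fun e0 => hn0 (K.inj n hn e0))
    (fun e0 => hm0 (K.inj m hm e0)) ?_
  have hs : Sing z (sel (base z e a) n) ↔ Sing z (sel (base z e a) m) := by
    rw [← h]
    refine ⟨fun hs => World.sing_conj hs g, fun hs => ?_⟩
    simpa [mul_assoc] using World.sing_conj hs g⁻¹
  rw [K.sing n hn hn0, K.sing m hm hm0] at hs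
  exact Bool.eq_iff_iff.mpr hs

theorem conj_el (K : Co F z π ρ e f a ψ) {g : G}
    (hg : g ∈ Subgroup.normalizer (Chart.Cen z e : Set G)) (n : ℕ) :
    ∃ m < 2048, g * sel (base z e a) n * g⁻¹ = sel (base z e a) m :=
  K.B.el_surj ((Subgroup.mem_normalizer_iff.mp hg _).mp (K.B.el_mem n))

theorem exists_rel (K : Co F z π ρ e f a ψ) {g : G}
    (hg : g ∈ Subgroup.normalizer (Chart.Cen z e : Set G)) : ∃ σ ∈ M24, Rel z e a ψ g σ := by
  classical
  choose T hTlt hT using fun n => K.conj_el hg n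
  have Tadd : ∀ m n, m < 2048 → n < 2048 → T (m ^^^ n) = T m ^^^ T n := fun m n _ _ => by
    refine K.B.el_inj (hTlt _) (Nat.xor_lt_two_pow (n := 11) (hTlt _) (hTlt _)) ?_
    rw [← hT, K.B.el_xor, K.B.el_xor, ← hT, ← hT]; group
  let w : ℕ → ZMod 2 → GolayPt → ZMod 2 := fun n ε => cw (xorSel ψ n) + ε • 1
  have wmem : ∀ n ε, w n ε ∈ golayCode := fun n ε =>
    Submodule.add_mem _ (cw_mem _) (Submodule.smul_mem _ ε (Submodule.subset_span (Or.inr rfl)))
  let Φ : Fin 2048 × ZMod 2 → golayCode := fun x => ⟨w x.1 x.2, wmem _ _⟩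
  have hΦeq : ∀ n ε, Eq1 (cw (xorSel ψ n)) (w n ε) := fun n ε => by
    rcases z2c ε with rfl | rfl
    · exact Or.inl (by simp [w])
    · exact Or.inr (by simp [w])
  have hΦ : Function.Bijective Φ := by
    refine ⟨fun x y h => ?_, fun c => ?_⟩
    · have h' : w x.1 x.2 = w y.1 y.2 := congrArg Subtype.val h
      have e1 : Eq1 (cw (xorSel ψ x.1)) (cw (xorSel ψ y.1)) :=
        (h' ▸ hΦeq x.1 x.2).trans (hΦeq y.1 y.2).symm
      have e2 := eq_of_Eq1 (K.lt _ x.1.2) (K.lt _ y.1.2) e1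
      have e3 : x.1 = y.1 := Fin.ext (Nat.xor_eq_zero_iff.mp (K.inj _
        (Nat.xor_lt_two_pow (n := 11) x.1.2 y.1.2) (by rw [H90.xorSel_xor, e2, Nat.xor_self])))
      refine Prod.ext e3 ?_
      rw [show w x.1 x.2 = cw (xorSel ψ y.1) + x.2 • 1 by rw [e3]] at h'
      have h4 := congrFun (add_left_cancel h') none
      simpa using h4
    · obtain ⟨k, hk, hc⟩ := exists_class c.2
      obtain ⟨n, hn, rfl⟩ := K.surj hk
      rcases hc with hc | hc
      · exact ⟨(⟨n, hn⟩, 0), Subtype.ext (by show w n 0 = _; simp [w, hc])⟩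
      · exact ⟨(⟨n, hn⟩, 1), Subtype.ext (by show w n 1 = _; simp [w, hc])⟩
  let D := Equiv.ofBijective Φ hΦ
  let tw : Fin 2048 × ZMod 2 → Fin 2048 × ZMod 2 := fun x => (⟨T x.1, hTlt _⟩, x.2)
  let x₀ : golayCode → golayCode := fun c => Φ (tw (D.symm c))
  have hw : ∀ n m ε δ, w n ε + w m δ = w (n ^^^ m) (ε + δ) := fun n m ε δ => by
    show cw _ + ε • 1 + (cw _ + δ • 1) = cw _ + (ε + δ) • 1
    rw [H90.xorSel_xor, cw_xor, add_smul]; abel
  have hsum : ∀ u v : Fin 2048 × ZMod 2,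
      Φ u + Φ v = Φ (⟨u.1 ^^^ v.1, Nat.xor_lt_two_pow (n := 11) u.1.2 v.1.2⟩, u.2 + v.2) :=
    fun u v => Subtype.ext (hw _ _ _ _)
  have hadd : ∀ c d, x₀ (c + d) = x₀ c + x₀ d := by
    intro c d
    have e1 : D.symm (c + d) = (⟨(D.symm c).1 ^^^ (D.symm d).1,
        Nat.xor_lt_two_pow (n := 11) (D.symm c).1.2 (D.symm d).1.2⟩, (D.symm c).2 + (D.symm d).2) := by
      rw [Equiv.symm_apply_eq]
      conv_lhs => rw [← D.apply_symm_apply c, ← D.apply_symm_apply d]
      exact hsum _ _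
    show Φ (tw (D.symm (c + d))) = Φ (tw (D.symm c)) + Φ (tw (D.symm d))
    rw [e1, hsum]
    simp only [tw]
    congr 2
    exact Fin.ext (Tadd _ _ (D.symm c).1.2 (D.symm d).1.2)
  have hinj : Function.Injective tw := by
    intro x y h
    simp only [tw, Prod.ext_iff, Fin.ext_iff] at h
    refine Prod.ext (Fin.ext (K.B.el_inj x.1.2 y.1.2 ?_)) h.2
    exact mul_left_cancel (mul_right_cancel ((hT x.1).trans (h.1 ▸ (hT y.1).symm)))
  have hbij : Function.Bijective x₀ :=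
    hΦ.comp ((Finite.injective_iff_bijective.mp hinj).comp D.symm.bijective)
  let xl : golayCode →ₗ[ZMod 2] golayCode := (AddMonoidHom.mk' x₀ hadd).toZModLinearMap 2
  let xe : golayCode ≃ₗ[ZMod 2] golayCode := LinearEquiv.ofBijective xl hbij
  have hxe : ∀ c, xe c = x₀ c := fun c => rfl
  let X : Subgroup (golayCode ≃ₗ[ZMod 2] golayCode) :=
    { carrier := {x | (∀ c : golayCode, (c : GolayPt → ZMod 2) = 1 → x c = c) ∧
        ∀ c : golayCode, ∃ σ ∈ M24, Eq1 (permW σ c) (x c : GolayPt → ZMod 2)}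
      one_mem' := ⟨fun _ _ => rfl, fun c => ⟨1, one_mem _, Eq1.refl _⟩⟩
      mul_mem' := by
        rintro x y ⟨hx1, hx⟩ ⟨hy1, hy⟩
        refine ⟨fun c hc => by rw [LinearEquiv.mul_apply, hy1 c hc, hx1 c hc], fun c => ?_⟩
        obtain ⟨σ, hσ, e1⟩ := hy c
        obtain ⟨τ, hτ, e2⟩ := hx (y c)
        exact ⟨τ * σ, mul_mem hτ hσ, (e1.perm τ).trans e2⟩
      inv_mem' := by
        rintro x ⟨hx1, hx⟩
        refine ⟨fun c hc => x.injective ((x.apply_symm_apply c).trans (hx1 c hc).symm), fun c => ?_⟩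
        obtain ⟨σ, hσ, e1⟩ := hx (x⁻¹ c)
        refine ⟨σ⁻¹, inv_mem hσ, ?_⟩
        rw [show x (x⁻¹ c) = c from x.apply_symm_apply c] at e1
        have := e1.perm σ⁻¹
        rw [← permW_mul, inv_mul_cancel, permW_one] at this
        exact this.symm }
  have hxeX : xe ∈ X := by
    refine ⟨fun c hc => ?_, fun c => ?_⟩
    · have h0 : D.symm c = (⟨0, by norm_num⟩, 1) := by
        rw [Equiv.symm_apply_eq]
        apply Subtype.ext
        show _ = w 0 1
        rw [hc]; simp [w, show xorSel ψ 0 = 0 from by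
          have := H90.xorSel_xor ψ 0 0
          simpa using this, cw_zero]
      rw [hxe]
      show Φ (tw (D.symm c)) = c
      have hT0 : T 0 = 0 := K.B.el_eq_one (hTlt 0) (by rw [← hT]; simp [sel_zero])
      conv_rhs => rw [← D.apply_symm_apply c, h0]
      rw [h0]
      exact congrArg Φ (Prod.ext (Fin.ext hT0) rfl)
    · obtain ⟨σ, hσ, e1⟩ := K.class_conj (D.symm c).1.2 (hTlt _) (hT (D.symm c).1)
      refine ⟨σ, hσ, ?_⟩
      rw [hxe]
      have e2 : Eq1 (cw (xorSel ψ (D.symm c).1)) (c : GolayPt → ZMod 2) := by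
        conv_rhs => rw [← D.apply_symm_apply c]
        exact hΦeq _ _
      exact ((e2.perm σ).symm.trans e1).trans (hΦeq _ _)
  obtain ⟨σ, hσ, hσc⟩ := H94.mathieu_rigidity H94.golay_full X (fun x hx c hc => hx.1 c hc)
    (fun x hx c => hx.2 c) xe hxeX
  refine ⟨σ, hσ, fun n hn m hm h => ?_⟩
  have hTm : T n = m := K.B.el_inj (hTlt n) hm ((hT n).symm.trans h)
  have e1 : x₀ (Φ (⟨n, hn⟩, 0)) = Φ (⟨m, hm⟩, 0) := by
    show Φ (tw (D.symm (D (⟨n, hn⟩, 0)))) = _
    rw [D.symm_apply_apply]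
    exact congrArg Φ (Prod.ext (Fin.ext hTm) rfl)
  have e2 : Eq1 (permW σ (w n 0)) (w m 0) := by
    have := hσc (Φ (⟨n, hn⟩, 0))
    rw [hxe, e1] at this
    exact this
  exact (((hΦeq n 0).perm σ).trans e2).trans (hΦeq m 0).symm

theorem rel_unique (K : Co F z π ρ e f a ψ) {g : G}
    (hg : g ∈ Subgroup.normalizer (Chart.Cen z e : Set G)) {σ τ : Equiv.Perm GolayPt}
    (h : Rel z e a ψ g σ) (h' : Rel z e a ψ g τ) : σ = τ := by
  refine (inv_mul_eq_one.mp ?_).symm
  refine eq_one_of_classes fun k hk => ?_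
  obtain ⟨n, hn, rfl⟩ := K.surj hk
  obtain ⟨m, hm, hgm⟩ := K.conj_el hg n
  have := ((h n hn m hm hgm).trans (h' n hn m hm hgm).symm).perm τ⁻¹
  rw [← permW_mul, ← permW_mul, inv_mul_cancel, permW_one] at this
  exact this

theorem rel_mul (K : Co F z π ρ e f a ψ) {g g' : G}
    (hg' : g' ∈ Subgroup.normalizer (Chart.Cen z e : Set G)) {σ τ : Equiv.Perm GolayPt}
    (h : Rel z e a ψ g σ) (h' : Rel z e a ψ g' τ) : Rel z e a ψ (g * g') (σ * τ) := by
  intro n hn m hm e0
  obtain ⟨k, hk, hgk⟩ := K.conj_el hg' n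
  have e1 : g * sel (base z e a) k * g⁻¹ = sel (base z e a) m := by rw [← hgk, ← e0]; group
  rw [permW_mul]
  exact ((h' n hn k hk hgk).perm σ).trans (h k hk m hm e1)

theorem exists_hom (K : Co F z π ρ e f a ψ) :
    ∃ θ : Subgroup.normalizer (Chart.Cen z e : Set G) →* M24, ∀ g, Rel z e a ψ g.1 (θ g).1 := by
  choose σ hσ hrel using fun g : Subgroup.normalizer (Chart.Cen z e : Set G) => K.exists_rel g.2
  refine ⟨MonoidHom.mk' (fun g => ⟨σ g, hσ g⟩) fun g h => Subtype.ext ?_, hrel⟩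
  exact K.rel_unique (g * h).2 (hrel _) (K.rel_mul h.2 (hrel g) (hrel h))

section
variable (θ : Subgroup.normalizer (Chart.Cen z e : Set G) →* M24)

theorem ker_eq (K : Co F z π ρ e f a ψ) (hθ : ∀ g, Rel z e a ψ g.1 (θ g).1) :
    θ.ker = (Chart.Cen z e).subgroupOf (Subgroup.normalizer (Chart.Cen z e : Set G)) := by
  ext g
  rw [MonoidHom.mem_ker, Subgroup.mem_subgroupOf]
  constructor
  · intro h
    have hfix : ∀ n, n < 2048 → Commute g.1 (sel (base z e a) n) := fun n hn => by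
      obtain ⟨m, hm, hgm⟩ := K.conj_el g.2 n
      have e1 := hθ g n hn m hm hgm
      rw [h] at e1
      have e2 := eq_of_Eq1 (K.lt n hn) (K.lt m hm) e1
      have e3 : n = m := Nat.xor_eq_zero_iff.mp (K.inj _ (Nat.xor_lt_two_pow (n := 11) hn hm)
        (by rw [H90.xorSel_xor, e2, Nat.xor_self]))
      exact mul_inv_eq_iff_eq_mul.mp (e3 ▸ hgm)
    refine Chart.mem_Cen.mpr ⟨?_, fun i => ?_⟩
    · have := hfix 1 (by norm_num)
      rwa [K.B.el_z] at this
    · have := hfix (2 ^ (i.val + 1)) (Nat.pow_lt_pow_right (by norm_num : 1 < 2) (show i.val + 1 < 11 by omega))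
      rwa [K.B.el_e] at this
  · intro h
    refine Subtype.ext (K.rel_unique g.2 (hθ g) (σ := (θ g).1) (τ := 1) fun n hn m hm e0 => ?_)
    rw [(K.B.good _ h _ (K.B.el_mem n)).eq, mul_inv_cancel_right] at e0
    rw [K.B.el_inj hn hm e0]
    exact Eq1.refl _

theorem exists_octad (K : Co F z π ρ e f a ψ) :
    ∃ u : GolayPt → ZMod 2, Eq1 (cw (xorSel ψ 1)) u ∧ support₂ u ∈ octads := by
  have hs : octc (xorSel ψ 1) = true := by
    have := K.sing 1 (by norm_num) one_ne_zero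
    rw [K.B.el_z] at this
    exact this.mp World.sing_self
  obtain ⟨u, -, h1, h2⟩ :=
    (octc_spec (K.lt 1 (by norm_num)) fun e0 => one_ne_zero (K.inj 1 (by norm_num) e0)).1 hs
  exact ⟨u, h1, h2⟩

theorem surjective (K : Co F z π ρ e f a ψ) (hθ : ∀ g, Rel z e a ψ g.1 (θ g).1) :
    Function.Surjective θ := by
  obtain ⟨u, hu, huo⟩ := K.exists_octad
  set CN := (Subgroup.centralizer ({z} : Set G)).subgroupOf (Subgroup.normalizer (Chart.Cen z e : Set G))
  have hfix : CN.map θ ≤ MulAction.stabilizer M24 (support₂ u) := by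
    rintro _ ⟨g, hg, rfl⟩
    have hgz : g.1 * z * g.1⁻¹ = z := by
      rw [show g.1 * z = z * g.1 from Subgroup.mem_centralizer_singleton_iff.mp hg, mul_inv_cancel_right]
    have e1 := hθ g 1 (by norm_num) 1 (by norm_num) (by rwa [K.B.el_z])
    have e2 : Eq1 (permW (θ g).1 u) u := ((hu.perm _).symm.trans e1).trans hu
    have e3 := octad_rep_unique e2
      (by rw [support₂_permW]; exact H90.image_mem_wordsOfWeight (θ g).2 huo) huo
    show (support₂ u).image (θ g).1 = support₂ u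
    rw [← support₂_permW, e3]
  have hker : θ.ker ≤ CN := by
    rw [K.ker_eq θ hθ]
    intro g hg
    exact Subgroup.mem_centralizer_singleton_iff.mpr (Chart.mem_Cen.mp hg).1.eq
  have hcardCN : Nat.card CN = Nat.card
      ↥(Subgroup.normalizer (Chart.Cen z e : Set G) ⊓ Subgroup.centralizer ({z} : Set G)) := by
    exact Nat.card_congr
      { toFun := fun g => ⟨g.1.1, g.1.2, g.2⟩
        invFun := fun g => ⟨⟨g.1, g.2.1⟩, g.2.2⟩ }
  have hcard : Nat.card (CN.map θ) * 2048 = Nat.card CN := by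
    have e1 := Subgroup.card_eq_card_quotient_mul_card_subgroup (θ.comp CN.subtype).ker
    rw [Nat.card_congr (QuotientGroup.quotientKerEquivRange _).toEquiv, MonoidHom.range_comp,
      Subgroup.range_subtype, show (θ.comp CN.subtype).ker = θ.ker.subgroupOf CN from rfl, Nat.card_congr (Subgroup.subgroupOfEquivOfLe hker).toEquiv,
      K.ker_eq θ hθ,
      Nat.card_congr (Subgroup.subgroupOfEquivOfLe Subgroup.le_normalizer).toEquiv,
      K.B.card_Cen] at e1
    exact e1.symm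
  have hge : Nat.card (MulAction.stabilizer M24 (support₂ u)) ≤ Nat.card (CN.map θ) := by
    rw [H90.natCard_stab_octad huo]
    have := K.B.card_lower
    omega
  have heq := Subgroup.eq_of_le_of_card_ge hfix hge
  have hle : MulAction.stabilizer M24 (support₂ u) ≤ θ.range := by
    rw [← heq]; exact Subgroup.map_le_range θ CN
  obtain ⟨g, hg, hgz⟩ := K.move
  have hlt : MulAction.stabilizer M24 (support₂ u) < θ.range := by
    refine lt_of_le_of_ne hle fun e0 => hgz ?_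
    have hmem : θ ⟨g, hg⟩ ∈ MulAction.stabilizer M24 (support₂ u) := by
      rw [e0]; exact ⟨_, rfl⟩
    obtain ⟨m, hm, hgm⟩ := K.conj_el hg 1
    have e1 := hθ ⟨g, hg⟩ 1 (by norm_num) m hm hgm
    have e2 : permW (θ ⟨g, hg⟩).1 u = u := H90.support₂_injective (by
      rw [support₂_permW]; exact hmem)
    have e3 : Eq1 (cw (xorSel ψ 1)) (cw (xorSel ψ m)) := by
      refine (hu.trans ?_).trans e1
      have := (hu.perm (θ ⟨g, hg⟩).1).symm
      rwa [e2] at this
    have e4 := eq_of_Eq1 (K.lt 1 (by norm_num)) (K.lt m hm) e3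
    have e5 : 1 = m := Nat.xor_eq_zero_iff.mp (K.inj _ (Nat.xor_lt_two_pow (n := 11) (by norm_num) hm)
      (by rw [H90.xorSel_xor, e4, Nat.xor_self]))
    rw [← K.B.el_z, hgm, ← e5]
  exact MonoidHom.range_eq_top.mp ((H92.isCoatom_octad huo).2 _ hlt)

theorem two_orbits (K : Co F z π ρ e f a ψ) (hθ : ∀ g, Rel z e a ψ g.1 (θ g).1) :
    ∃ a₀ ∈ Chart.Cen z e, ∃ b₀ ∈ Chart.Cen z e, a₀ ≠ 1 ∧ b₀ ≠ 1 ∧
      (∀ n ∈ Subgroup.normalizer (Chart.Cen z e : Set G), n * a₀ * n⁻¹ ≠ b₀) ∧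
      ∀ c ∈ Chart.Cen z e, c ≠ 1 → ∃ n ∈ Subgroup.normalizer (Chart.Cen z e : Set G),
        n * c * n⁻¹ = a₀ ∨ n * c * n⁻¹ = b₀ := by
  obtain ⟨w, hw, hwd⟩ : ∃ w ∈ golayCode, support₂ w ∈ dodecads := by
    obtain ⟨⟨w, hw, hd⟩, h12⟩ := H90.dodec0_mem
    exact ⟨w, hw, ⟨w, hw, rfl⟩, by rwa [hd]⟩
  obtain ⟨k, hk, hkw⟩ := exists_class hw
  obtain ⟨n₁, hn₁, rfl⟩ := K.surj hk
  have hn10 : n₁ ≠ 0 := by
    rintro rfl
    rw [show xorSel ψ 0 = 0 from by simpa using H90.xorSel_xor ψ 0 0, cw_zero] at hkw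
    have h12 := hwd.2
    rw [← H90.hammingNorm_eq_card_support₂] at h12
    rcases hkw with rfl | rfl
    · simp at h12
    · revert h12
      rw [zero_add, hammingNorm]
      simp [H90.card_golayPt]
  have ho : octc (xorSel ψ n₁) = false := by
    by_contra h
    obtain ⟨v, -, hv, hvo⟩ := (octc_spec hk fun e0 => hn10 (K.inj n₁ hn₁ e0)).1 (by simpa using h)
    have h12 := hwd.2
    have h8 := hvo.2
    rw [← H90.hammingNorm_eq_card_support₂] at h12 h8
    rcases hv.symm.trans hkw with rfl | rfl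
    · omega
    · have h1 := H94.golay_full.norm_add_one v
      change hammingNorm (v + 1) + hammingNorm v = 24 at h1
      omega
  have key : ∀ n m, n < 2048 → m < 2048 → n ≠ 0 → m ≠ 0 →
      octc (xorSel ψ n) = octc (xorSel ψ m) →
      ∃ g ∈ Subgroup.normalizer (Chart.Cen z e : Set G),
        g * sel (base z e a) n * g⁻¹ = sel (base z e a) m := by
    intro n m hn hm hn0 hm0 ho
    obtain ⟨σ, hσ, hσe⟩ := exists_move_class (K.lt n hn) (K.lt m hm) (fun e0 => hn0 (K.inj n hn e0))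
      (fun e0 => hm0 (K.inj m hm e0)) ho
    obtain ⟨g, hg⟩ := K.surjective θ hθ ⟨σ, hσ⟩
    obtain ⟨m', hm', hgm⟩ := K.conj_el g.2 n
    have e1 := hθ g n hn m' hm' hgm
    rw [hg] at e1
    have e4 := eq_of_Eq1 (K.lt m hm) (K.lt m' hm') (hσe.symm.trans e1)
    have e5 : m = m' := Nat.xor_eq_zero_iff.mp (K.inj _ (Nat.xor_lt_two_pow (n := 11) hm hm')
      (by rw [H90.xorSel_xor, e4, Nat.xor_self]))
    exact ⟨g, g.2, e5 ▸ hgm⟩
  have h1 : octc (xorSel ψ 1) = true := by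
    have := K.sing 1 (by norm_num) one_ne_zero
    rw [K.B.el_z] at this
    exact this.mp World.sing_self
  refine ⟨z, Chart.mem_Cen.mpr ⟨Commute.refl _, fun i => (K.B.C.P.comm _ (K.B.C.he i)).symm⟩,
    sel (base z e a) n₁, K.B.el_mem _, K.B.C.P.pne, fun e0 => hn10 (K.B.el_eq_one hn₁ e0),
    fun g _ e0 => ?_, fun c hc hc1 => ?_⟩
  · have hs : Sing z (sel (base z e a) n₁) := e0 ▸ World.sing_conj World.sing_self g
    rw [(K.sing n₁ hn₁ hn10), ho] at hs
    exact Bool.false_ne_true hs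
  · obtain ⟨m, hm, rfl⟩ := K.B.el_surj hc
    have hm0 : m ≠ 0 := fun e0 => hc1 (by rw [e0, sel_zero])
    cases hb : octc (xorSel ψ m)
    · obtain ⟨g, hg, e0⟩ := key m n₁ hm hn₁ hm0 hn10 (by rw [hb, ho])
      exact ⟨g, hg, Or.inr e0⟩
    · obtain ⟨g, hg, e0⟩ := key m 1 hm (by norm_num) hm0 one_ne_zero (by rw [hb, h1])
      exact ⟨g, hg, Or.inl (by rwa [K.B.el_z] at e0)⟩

end

end Co

end H19.C1M
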