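import Cfsg.Agent.H19.Co1M24.Second

/-!
Existence of the second chart and of the exact tables.
-/

set_option autoImplicit false
set_option linter.unusedSectionVars false

namespace H19.C1M

open H43 H79.Co1T
open H69 (LXFam)
open H69.LXFam (Sing)
open H69.Pair (half mem_half)

variable {G : Type*} [Group G] [Finite G]
variable {F : G → Subgroup G} {z p : G} {π : G → V8} {ρ : G → orthGroup q8} {e f : Fin 4 → G}

/-- The index of a high pair. -/
def qa : Fin 3 → Fin 6 := ![3, 4, 5]

theorem qa_val : ∀ q, (qa q).val + 5 = q.val + 8 := by decide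

theorem low_table : ∀ k : Fin 3, lowE k.succ =
    [1, 2] ++ List.ofFn (fun j : Fin 3 => (if j = k then 3 else 0) ^^^ 2 ^ (j.val + 2)) ++
      List.ofFn (fun j : Fin 3 => ((if j = k then 2 else 0) ^^^ bidx j) ^^^
        ((if j = k then 3 else 0) ^^^ 2 ^ (j.val + 2))) := by
  decide +kernel

theorem lowC_table : ∀ c, lowC c =
    [3, 2] ++ List.ofFn (fun j : Fin 3 =>
      ((if c j then 2 else 0) ^^^ bidx j) ^^^ 2 ^ (j.val + 2)) ++
      List.ofFn (fun j : Fin 3 => bidx j ^^^
        (((if c j then 2 else 0) ^^^ bidx j) ^^^ 2 ^ (j.val + 2))) := by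
  decide +kernel

theorem lowC_false : lowC (fun _ => false) = lowE 0 := by decide +kernel

theorem lowE_lt : ∀ (m : Fin 4) (n : Fin 256), H90.xorSel (lowE m) n.val < 256 := by decide +kernel

theorem TZ_high : ∀ (q : Fin 3), TZ 0 (2 ^ (q.val + 8)) = 2 ^ (q.val + 8) ∧ ∀ k m : Fin 3,
    ∃ r : Fin 256, TZ m.succ (2 ^ (q.val + 8)) = r.val ^^^ 2 ^ (q.val + 8) ∧
      H90.xorSel (lowE k.succ) r.val = (if qj q = m then 2 ^ ((ql q).val + 2) else 0) ^^^
        (if ql q = m then 2 ^ ((qj q).val + 2) else 0) ^^^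
        (if qj q = m ∧ ql q = k ∨ ql q = m ∧ qj q = k then 3 else 0) := by
  decide +kernel

theorem xE_parity : ∀ (l : Fin 3 → Fin 3 → Bool) (k q : Fin 3),
    xE l k.succ q % 2 = if l q k then 1 else 0 := by
  decide +kernel

theorem sum_bidx : ∀ j : Fin 3, (if (0 : Fin 3) = j then 36 else 0) ^^^
    (if (1 : Fin 3) = j then 72 else 0) ^^^ (if (2 : Fin 3) = j then 144 else 0) = bidx j := by
  decide +kernel

theorem bidx_lt : ∀ k, bidx k < 256 := by decide

theorem low_get : ∀ (m : Fin 4) (i : Fin 8),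
    H90.xorSel (lowE m) (2 ^ i.val) = (lowE m).getD i.val 0 := by
  decide +kernel

theorem low_eta : ∀ m : Fin 4, lowE m = [(lowE m).getD 0 0, (lowE m).getD 1 0, (lowE m).getD 2 0,
    (lowE m).getD 3 0, (lowE m).getD 4 0, (lowE m).getD 5 0, (lowE m).getD 6 0, (lowE m).getD 7 0] := by
  decide +kernel

namespace Basis

variable {a : Fin 6 → G}

theorem low_of (B : Basis F z π ρ e f a) (x : G) (iz iu : ℕ) (ie ib : Fin 3 → ℕ)
    (hz : x * z * x⁻¹ = sel (base z e a) iz) (hu : x * e 0 * x⁻¹ = sel (base z e a) iu)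
    (he : ∀ j, x * e j.succ * x⁻¹ = sel (base z e a) (ie j))
    (hb : ∀ j, x * sel (base z e a) (bidx j) * x⁻¹ = sel (base z e a) (ib j)) {n : ℕ}
    (hn : n < 256) :
    x * sel (base z e a) n * x⁻¹ = sel (base z e a)
      (H90.xorSel ([iz, iu] ++ List.ofFn ie ++ List.ofFn (fun j => ib j ^^^ ie j)) n) := by
  rw [B.el_low8 hn]
  refine conj_sel B.base_sq B.base_comm x _ _ ?_ n
  have ha : ∀ j : Fin 3, ∀ i : Fin 6, i.val = j.val →
      x * a i * x⁻¹ = sel (base z e a) (ib j ^^^ ie j) := by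
    intro j i hi
    have e1 : bidx j ^^^ 2 ^ (j.succ.val + 1) = 2 ^ (i.val + 5) := by
      rw [hi]
      exact (show ∀ j : Fin 3, bidx j ^^^ 2 ^ (j.succ.val + 1) = 2 ^ (j.val + 5) by decide) j
    rw [← B.el_a i, ← e1, B.el_xor, B.el_xor, B.el_e, ← hb, ← he]
    group
  simp only [List.ofFn_succ, List.ofFn_zero, List.cons_append, List.nil_append]
  exact .cons hz <| .cons hu <| .cons (he 0) <| .cons (he 1) <| .cons (he 2) <|
    .cons (ha 0 0 rfl) <| .cons (ha 1 1 rfl) <| .cons (ha 2 2 rfl) .nil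

theorem commute_el (B : Basis F z π ρ e f a) (m n : ℕ) :
    Commute (sel (base z e a) m) (sel (base z e a) n) :=
  B.good _ (B.el_mem m) _ (B.el_mem n)

theorem lift_f (B : Basis F z π ρ e f a) (k : Fin 3) {d : G} (hd : d ∈ half F (e 0) z)
    (hdβ : (B.C.frame 0).β d = π (f k.succ)) {m : Fin 4} (hm : m ≠ 0) : Commute (f m) d := by
  set Fr := B.C.frame 0
  have hfm : f m ∈ half F z (e 0) :=
    Fr.memA.mpr ⟨B.C.hf m, by rw [B.C.fe, if_neg (Ne.symm hm)]⟩
  have hα : Fr.α (f m) = π (f m) := InW.proj_eq ⟨by rw [B.C.fe, if_neg (Ne.symm hm)], B.C.ff _ _⟩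
  have h := Fr.comm_ab hfm hd
  rw [hα, hdβ, B.C.ff, Fr.ep_zero] at h
  exact mul_inv_eq_iff_eq_mul.mp (mul_inv_eq_one.mp h)

theorem lift_b (B : Basis F z π ρ e f a) (k j : Fin 3) {d : G} (hd : d ∈ half F (e 0) z)
    (hdβ : (B.C.frame 0).β d = π (f k.succ)) :
    d * sel (base z e a) (bidx j) * d⁻¹ = bp (e 0) (if j = k then 1 else 0) *
      sel (base z e a) (bidx j) := by
  have h := (B.C.frame 0).comm_bb hd (B.b_mem j).1
  rw [hdβ, (B.b_mem j).2, B.C.fe] at h
  rw [mul_inv_eq_iff_eq_mul.mp h]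
  simp [Fin.succ_inj]

theorem lift_low (B : Basis F z π ρ e f a) (k : Fin 3) {d : G} (hd : d ∈ half F (e 0) z)
    (hdβ : (B.C.frame 0).β d = π (f k.succ)) {n : ℕ} (hn : n < 256) :
    d * sel (base z e a) n * d⁻¹ = sel (base z e a) (H90.xorSel (lowE k.succ) n) := by
  set Fr := B.C.frame 0
  rw [low_table]
  refine B.low_of d 1 2 _ (fun j => (if j = k then 2 else 0) ^^^ bidx j) ?_ ?_ (fun j => ?_)
    (fun j => ?_) hn
  · rw [(Fr.bcomm hd).1.eq, mul_inv_cancel_right, B.el_z]
  · rw [(Fr.bcomm hd).2.eq, mul_inv_cancel_right, ← B.el_e 0]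
    rfl
  · have he : e j.succ ∈ half F z (e 0) := Fr.memA.mpr ⟨B.C.he _, B.C.ee _ _⟩
    have hα : Fr.α (e j.succ) = π (e j.succ) :=
      InW.proj_eq ⟨B.C.ee _ _, by rw [B.C.ef, if_neg (Fin.succ_ne_zero j)]⟩
    have h := Fr.comm_inv (Fr.comm_ab he hd)
    rw [hα, hdβ, B.C.ef, ← B.el_ep] at h
    rw [mul_inv_eq_iff_eq_mul.mp h, B.el_xor]
    congr 1
    · congr 1; simp [Fin.succ_inj]
    · rw [show j.val + 2 = j.succ.val + 1 by simp, B.el_e]
  · rw [B.lift_b k j hd hdβ, B.el_xor]
    congr 1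
    rw [show (if j = k then 2 else 0) = if (if j = k then (1 : ZMod 2) else 0) = 1 then 2 else 0 by
      split <;> simp, B.el_ite, ← B.el_e 0]
    rfl

theorem exists_chart₂ (B : Basis F z π ρ e f a) :
    ∃ (π' : G → V8) (ρ' : G → orthGroup q8) (g : G) (d : Fin 3 → G),
      Chart F z (e 0) π' ρ' (e2 z e a) (Fin.cons g d) ∧ ∀ k, d k ∈ half F (e 0) z ∧
        (B.C.frame 0).β (d k) = π (f k.succ) ∧ f 0 * d k * (f 0)⁻¹ = f k.succ * d k := by
  choose d hd hdβ hdd hdf using B.exists_lift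
  set Fr := B.C.frame 0
  obtain ⟨π', ρ', P⟩ := B.C.W.pt (e 0) Fr.su
  set b : Fin 3 → G := fun k => sel (base z e a) (bidx k) with hb
  have hdF : ∀ k, d k ∈ F (e 0) := fun k => (mem_half.mp (hd k)).1
  have hbF : ∀ k, b k ∈ F (e 0) := fun k => (mem_half.mp (B.b_mem k).1).1
  have hzF : z ∈ F (e 0) := Fr.pair.vu
  have q0 : ∀ {x}, x ∈ F (e 0) → x * x = 1 → q8 (π' x) = 0 := fun {x} hx h => by
    refine bp_inj P.pne ?_
    rw [bp_zero, ← h, P.sq x hx]; rfl
  have B0 : ∀ {x y}, x ∈ F (e 0) → y ∈ F (e 0) → Commute x y → B8 (π' x) (π' y) = 0 :=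
    fun hx hy h => (P.commute_iff hx hy).mp h
  have hdd' : ∀ i k, Commute (d i) (d k) := fun i k => by
    have h := Fr.comm_bb (hd i) (hd k)
    rw [hdβ, hdβ, B.C.ff, bp_zero] at h
    exact mul_inv_eq_iff_eq_mul.mp (mul_inv_eq_one.mp h)
  have Bbd : ∀ j k, B8 (π' (b j)) (π' (d k)) = if j = k then 1 else 0 := fun j k => by
    refine bp_inj P.pne (mul_right_cancel (b := b j) ?_)
    rw [polB_comm]
    exact (P.commutator (hdF k) (hbF j)).symm.trans (B.lift_b k j (hd k) (hdβ k))
  obtain ⟨hqz, hz0⟩ := P.sing_coord hzF B.C.P.pp B.C.P.pne Fr.ne.symm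
  obtain ⟨x, H⟩ := exists_hyp hqz hz0
  have Bzb : ∀ k, B8 (π' z) (π' (b k)) = 0 := fun k =>
    B0 hzF (hbF k) (Fr.bcomm (B.b_mem k).1).1.symm
  have Bzd : ∀ k, B8 (π' z) (π' (d k)) = 0 := fun k => B0 hzF (hdF k) (Fr.bcomm (hd k)).1.symm
  have Bbb : ∀ i k, B8 (π' (b i)) (π' (b k)) = 0 := fun i k =>
    B0 (hbF i) (hbF k) (B.commute_el _ _)
  have Bdd : ∀ i k, B8 (π' (d i)) (π' (d k)) = 0 := fun i k => B0 (hdF i) (hdF k) (hdd' i k)
  have Bc : ∀ u w : V8, B8 u w = B8 w u := fun u w => polB_comm u w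
  set v := x + ∑ k, B8 x (π' (d k)) • π' (b k) + ∑ k, B8 x (π' (b k)) • π' (d k) with hv
  have vb : ∀ j, B8 v (π' (b j)) = 0 := fun j => by
    simp [hv, Bbb, fun k => Bc (π' (d k)) (π' (b j)), Bbd, Finset.sum_ite_eq, ZModModule.add_self]
  have vd : ∀ j, B8 v (π' (d j)) = 0 := fun j => by
    simp [hv, Bdd, Bbd, Finset.sum_ite_eq', ZModModule.add_self]
  have vz : B8 (π' z) v = 1 := by
    simp [hv, Bzb, Bzd, show B8 (π' z) x = 1 from H.cx]
  set w := v + q8 v • π' z with hw
  have wz : B8 (π' z) w = 1 := by simp [hw, vz, B_self]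
  have wb : ∀ j, B8 w (π' (b j)) = 0 := fun j => by simp [hw, vb, Bzb]
  have wd : ∀ j, B8 w (π' (d j)) = 0 := fun j => by simp [hw, vd, Bzd]
  have wq : q8 w = 0 := by
    rw [hw, q_add, qmap_smul, hqz, map_smul, smul_eq_mul,
      show polB q8 v (π' z) = 1 from (polB_comm ..).trans vz]
    generalize q8 v = t
    revert t; decide
  obtain ⟨g, hg, hgw⟩ := P.surj w
  refine ⟨π', ρ', g, d, ⟨B.C.W, P, Fr.su, ?_, ?_, ?_, ?_, ?_, ?_, ?_⟩,
    fun k => ⟨hd k, hdβ k, hdf k⟩⟩
  · intro i; fin_cases i; exacts [hzF, hbF 0, hbF 1, hbF 2]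
  · intro i; fin_cases i; exacts [hg, hdF 0, hdF 1, hdF 2]
  · have hm : ∀ i, e2 z e a i ∈ F (e 0) ∧ ∃ n, e2 z e a i = sel (base z e a) n := by
      intro i; fin_cases i
      exacts [⟨hzF, 1, B.el_z.symm⟩, ⟨hbF 0, _, rfl⟩, ⟨hbF 1, _, rfl⟩, ⟨hbF 2, _, rfl⟩]
    intro i j
    obtain ⟨hi, m, hm'⟩ := hm i
    obtain ⟨hj, n, hn'⟩ := hm j
    exact B0 hi hj (by rw [hm', hn']; exact B.commute_el _ _)
  · intro i j
    induction i using Fin.cases with
    | zero => induction j using Fin.cases with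
      | zero => simp [hgw, B_self]
      | succ j => simp [hgw, wd]
    | succ i => induction j using Fin.cases with
      | zero => simp [hgw, Bc (π' (d i)) w, wd]
      | succ j => simp [Bdd]
  · intro i j
    induction i using Fin.cases with
    | zero => induction j using Fin.cases with
      | zero => simp [e2, hgw, wz]
      | succ j => simp [e2, Bzd, (Fin.succ_ne_zero j).symm]
    | succ i =>
      have hbi : e2 z e a i.succ = b i := by fin_cases i <;> rfl
      induction j using Fin.cases with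
      | zero => simp [hbi, hgw, Bc (π' (b i)) w, wb]
      | succ j => simp [hbi, Bbd, Fin.succ_inj]
  · intro i; fin_cases i
    exacts [hqz, q0 (hbF 0) (B.el_sq _), q0 (hbF 1) (B.el_sq _), q0 (hbF 2) (B.el_sq _)]
  · intro i; induction i using Fin.cases with
    | zero => simp [hgw, wq]
    | succ i => simp [q0 (hdF i) (hdd i)]

theorem cen_eq (B : Basis F z π ρ e f a) {π' : G → V8} {ρ' : G → orthGroup q8} {f' : Fin 4 → G}
    (C' : Chart F z (e 0) π' ρ' (e2 z e a) f') :
    Chart.Cen (e 0) (e2 z e a) = Chart.Cen z e := by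
  refine (Subgroup.eq_of_le_of_card_ge ?_ (C'.card_Cen_le.trans_eq B.card_Cen.symm)).symm
  intro y hy
  refine Chart.mem_Cen.mpr ⟨(Chart.mem_Cen.mp hy).2 0, fun i => ?_⟩
  fin_cases i
  exacts [(Chart.mem_Cen.mp hy).1, B.good _ hy _ (B.el_mem _), B.good _ hy _ (B.el_mem _),
    B.good _ hy _ (B.el_mem _)]

theorem row_index (B : Basis F z π ρ e f a) {π' : G → V8} {ρ' : G → orthGroup q8} {f' : Fin 4 → G}
    (C' : Chart F z (e 0) π' ρ' (e2 z e a) f') (m : Fin 4) (N : ℕ) :
    ∃ c : Bool, f' m * sel (base z e a) N * (f' m)⁻¹ = sel (base z e a)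
      (((if c then 2 else 0) ^^^ ridx (C'.M (sel (base z e a) N) m)) ^^^ N) := by
  have hy : sel (base z e a) N ∈ Chart.Cen (e 0) (e2 z e a) := by
    rw [B.cen_eq C']; exact B.el_mem N
  obtain ⟨c, hc⟩ := C'.exists_row hy m
  refine ⟨decide (c = 1), ?_⟩
  rw [hc, B.el_xor, B.el_xor, B.el_ridx, mul_assoc]
  congr 1
  rcases z2c c with rfl | rfl
  · simp [bp_zero, sel_zero]
  · simpa [bp_one] using (B.el_e 0).symm

theorem row_parity (B : Basis F z π ρ e f a) {π' : G → V8} {ρ' : G → orthGroup q8} {f' : Fin 4 → G}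
    (C' : Chart F z (e 0) π' ρ' (e2 z e a) f') (m : Fin 4) {N x : ℕ} (hN : N < 2048) (hx : x < 2048)
    (h : f' m * sel (base z e a) N * (f' m)⁻¹ = sel (base z e a) (x ^^^ N)) :
    (C'.M (sel (base z e a) N) m 0).val = x % 2 := by
  obtain ⟨c, hc⟩ := B.row_index C' m N
  obtain ⟨h1, h2⟩ := parity_row c (C'.M (sel (base z e a) N) m)
  have hcl : (if c then 2 else 0) < 2 ^ 11 := by split <;> norm_num
  have := B.el_inj (Nat.xor_lt_two_pow (n := 11) (Nat.xor_lt_two_pow hcl (lt_trans h2 (by norm_num))) hN)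
    (Nat.xor_lt_two_pow (n := 11) hx hN) (hc.symm.trans h)
  rw [← h1, Nat.xor_left_inj.mp this]

theorem mover_row (B : Basis F z π ρ e f a) {π' : G → V8} {ρ' : G → orthGroup q8} {f' : Fin 4 → G}
    (C' : Chart F z (e 0) π' ρ' (e2 z e a) f') (N : ℕ) (l : Fin 3 → Bool)
    (h : ∀ k : Fin 3, (C'.M (sel (base z e a) N) k.succ 0).val = if l k then 1 else 0) :
    ∃ c : Bool, f' 0 * sel (base z e a) N * (f' 0)⁻¹ = sel (base z e a) (((if c then 2 else 0) ^^^
      ((if l 0 then 36 else 0) ^^^ (if l 1 then 72 else 0) ^^^ (if l 2 then 144 else 0))) ^^^ N) := by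
  have hy : sel (base z e a) N ∈ Chart.Cen (e 0) (e2 z e a) := by
    rw [B.cen_eq C']; exact B.el_mem N
  obtain ⟨c, hc⟩ := B.row_index C' 0 N
  refine ⟨c, ?_⟩
  rw [hc, ← row_zero]
  congr 4
  funext i
  induction i using Fin.cases with
  | zero => simp [C'.M_diag hy]
  | succ k =>
    have e1 : C'.M (sel (base z e a) N) 0 k.succ = if l k then 1 else 0 := by
      rw [C'.M_symm hy]
      apply ZMod.val_injective
      rw [h k]; split <;> rfl
    rw [e1]; fin_cases k <;> rfl

end Basis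

theorem exists_second (W : World F z) :
    ∃ (π : G → V8) (ρ : G → orthGroup q8) (e f : Fin 4 → G) (a : Fin 6 → G)
      (l : Fin 3 → Fin 3 → Bool) (π' : G → V8) (ρ' : G → orthGroup q8) (f' : Fin 4 → G),
      Second F z π ρ e f a l π' ρ' f' := by
  obtain ⟨π, ρ, e, f, a, B⟩ := exists_basis W
  obtain ⟨π', ρ', g, d, C', hd⟩ := B.exists_chart₂
  have hcen := B.cen_eq C'
  have hlow : ∀ (k : Fin 3) {n : ℕ}, n < 256 →
      d k * (sel (base z e a)) n * (d k)⁻¹ = (sel (base z e a)) (H90.xorSel (lowE k.succ) n) :=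
    fun k _ hn => B.lift_low k (hd k).1 (hd k).2.1 hn
  -- the last three generators under the lifts
  have hhigh : ∀ q k : Fin 3, ∃ b : Bool, d k * (sel (base z e a)) (2 ^ (q.val + 8)) * (d k)⁻¹ = (sel (base z e a)) (((if qj q = k
      then bidx (ql q) else 0) ^^^ (if ql q = k then bidx (qj q) else 0) ^^^ (if b then 1 else 0)) ^^^
      2 ^ (q.val + 8)) := by
    intro q k
    have hmem : d k * (sel (base z e a)) (2 ^ (q.val + 8)) * (d k)⁻¹ ∈ Chart.Cen z e := by
      rw [← hcen]
      exact C'.conj_mem_Cen (by rw [hcen]; exact B.el_mem _) (mem_half.mp (hd k).1).1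
    obtain ⟨N, hN, hNe⟩ := B.el_surj hmem
    have hq8 : 2 ^ (q.val + 8) < 2 ^ 11 := Nat.pow_lt_pow_right (by norm_num) (by omega)
    obtain ⟨h0, hk⟩ := TZ_high q
    obtain ⟨b, hb⟩ := find_high k q ⟨N, hN⟩ (fun m => by
      obtain ⟨r, hr, hr'⟩ := hk k m
      show TZ m.succ N ^^^ N = _
      rw [← hr']
      refine B.el_eq hN (lt_trans (lowE_lt _ r) (by norm_num)) ?_
      have c := B.lift_f k (hd k).1 (hd k).2.1 (Fin.succ_ne_zero m)
      calc f m.succ * (sel (base z e a)) N * (f m.succ)⁻¹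
          = (f m.succ * d k) * (sel (base z e a)) (2 ^ (q.val + 8)) * (f m.succ * d k)⁻¹ := by rw [← hNe]; group
        _ = d k * (f m.succ * (sel (base z e a)) (2 ^ (q.val + 8)) * (f m.succ)⁻¹) * (d k)⁻¹ := by rw [c.eq]; group
        _ = d k * (sel (base z e a)) r.val * (d k)⁻¹ * (d k * (sel (base z e a)) (2 ^ (q.val + 8)) * (d k)⁻¹) := by
            rw [B.conj_f, hr, B.el_xor]; group
        _ = _ := by rw [hlow k r.2, hNe]) (by
      show TZ 0 N = TZ k.succ N
      refine B.el_inj (TZ_lt 0 ⟨N, hN⟩) (TZ_lt k.succ ⟨N, hN⟩) ?_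
      rw [← B.conj_f, ← B.conj_f]
      show f 0 * (sel (base z e a)) N * (f 0)⁻¹ = _
      calc f 0 * (sel (base z e a)) N * (f 0)⁻¹
          = (f 0 * d k * (f 0)⁻¹) * (f 0 * (sel (base z e a)) (2 ^ (q.val + 8)) * (f 0)⁻¹) *
            (f 0 * d k * (f 0)⁻¹)⁻¹ := by rw [← hNe]; group
        _ = f k.succ * (d k * (sel (base z e a)) (2 ^ (q.val + 8)) * (d k)⁻¹) * (f k.succ)⁻¹ := by
            rw [(hd k).2.2, B.conj_f, h0]; group
        _ = _ := by rw [hNe])
    refine ⟨b, ?_⟩
    rw [hNe, show N = _ from hb, Nat.xor_comm]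
  choose l hl using hhigh
  -- the mover on the first eight generators
  have hj : ∀ j : Fin 3, ∃ c : Bool, g * e j.succ * g⁻¹ =
      (sel (base z e a)) (((if c then 2 else 0) ^^^ bidx j) ^^^ 2 ^ (j.val + 2)) := by
    intro j
    have hk : ∀ k : Fin 3, (C'.M ((sel (base z e a)) (2 ^ (j.val + 2))) k.succ 0).val =
        if k = j then 1 else 0 := by
      intro k
      have hjl : 2 ^ (j.val + 2) < 256 :=
        Nat.pow_lt_pow_right (by norm_num : 1 < 2) (show j.val + 2 < 8 by omega)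
      have e1 : H90.xorSel (lowE k.succ) (2 ^ (j.val + 2)) =
          (if j = k then 3 else 0) ^^^ 2 ^ (j.val + 2) := by revert j k; decide +kernel
      rw [B.row_parity C' k.succ (x := if j = k then 3 else 0) (lt_trans hjl (by norm_num))
        (by split <;> norm_num) (by simp only [Fin.cons_succ]; rw [← e1]; exact hlow k hjl)]
      revert j k; decide
    obtain ⟨c, hc⟩ := B.mover_row C' (2 ^ (j.val + 2)) (fun k => decide (k = j))
      (fun k => by rw [hk]; simp)
    refine ⟨c, ?_⟩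
    rw [← B.el_e j.succ, show j.succ.val + 1 = j.val + 2 by simp, ← sum_bidx j]
    simpa using hc
  choose c hc using hj
  have hgz : g * z * g⁻¹ = (sel (base z e a)) 3 := by
    have := C'.conj_fe 0 0
    simp only [Fin.cons_zero, if_true, e2, Matrix.cons_val_zero] at this
    rw [this]
    show _ = sel (base z e a) (2 ^ ((0 : Fin 4).val + 1) ^^^ 1)
    rw [B.el_xor, B.el_e, B.el_z]
  have hgu : g * e 0 * g⁻¹ = (sel (base z e a)) 2 := by
    rw [(C'.P.comm g (C'.hf 0)).eq, mul_inv_cancel_right, ← B.el_e 0]; rfl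
  have hgb : ∀ j, g * (sel (base z e a)) (bidx j) * g⁻¹ = (sel (base z e a)) (bidx j) := by
    intro j
    have := C'.conj_fe 0 j.succ
    rw [if_neg (Fin.succ_ne_zero j), Fin.cons_zero,
      show e2 z e a j.succ = (sel (base z e a)) (bidx j) by fin_cases j <;> rfl] at this
    exact this
  have hgC : ∀ {n : ℕ}, n < 256 → g * (sel (base z e a)) n * g⁻¹ = (sel (base z e a)) (H90.xorSel (lowC c) n) := by
    intro n hn
    rw [lowC_table]
    exact B.low_of g 3 2 _ bidx hgz hgu hc hgb hn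
  -- the constants vanish
  have hc0 : ∀ k, c k = false := by
    let x : G := (if c 0 then f 1 else 1) * ((if c 1 then f 2 else 1) * (if c 2 then f 3 else 1))
    let s : G := f 0 * g
    have hs : ∀ {n}, n < 256 → s * (sel (base z e a)) n * s⁻¹ = (sel (base z e a)) (TZ 0 (H90.xorSel (lowC c) n)) := by
      intro n hn
      rw [show s * (sel (base z e a)) n * s⁻¹ = f 0 * (g * (sel (base z e a)) n * g⁻¹) * (f 0)⁻¹ by simp only [s]; group, hgC hn]
      exact B.conj_f 0 _
    have hs' : ∀ {n}, n < 256 → TZ 0 (H90.xorSel (lowC c) n) < 256 := fun {n} hn =>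
      TZ_lt' 0 ⟨_, lowC_lt c ⟨n, hn⟩⟩
    have hx : ∀ n, x * (sel (base z e a)) n * x⁻¹ = (sel (base z e a)) (Xc c n) := by
      intro n
      have hite : ∀ (b : Bool) (m : Fin 4) i, (if b then f m else 1) * (sel (base z e a)) i * (if b then f m else 1)⁻¹ =
          (sel (base z e a)) ((if b then TZ m else id) i) := by
        intro b m i; cases b
        · simp
        · exact B.conj_f m i
      rw [show x * (sel (base z e a)) n * x⁻¹ = (if c 0 then f 1 else 1) * ((if c 1 then f 2 else 1) *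
        ((if c 2 then f 3 else 1) * (sel (base z e a)) n * (if c 2 then f 3 else 1)⁻¹) * (if c 1 then f 2 else 1)⁻¹) *
        (if c 0 then f 1 else 1)⁻¹ by simp only [x]; group, hite, hite, hite]
      rfl
    have hx' : ∀ {n}, n < 256 → Xc c n < 256 := by
      intro n hn
      have h : ∀ (b : Bool) (m : Fin 4) i, i < 256 → (if b then TZ m else id) i < 256 := by
        intro b m i hi; cases b
        exacts [hi, TZ_lt' m ⟨i, hi⟩]
      exact h _ _ _ (h _ _ _ (h _ _ _ hn))
    have hh : ∀ {n}, n < 256 → s * (s * (s * x)) * (sel (base z e a)) n * (s * (s * (s * x)))⁻¹ = (sel (base z e a)) (Hc c n) := by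
      intro n hn
      rw [show s * (s * (s * x)) * (sel (base z e a)) n * (s * (s * (s * x)))⁻¹ =
        s * (s * (s * (x * (sel (base z e a)) n * x⁻¹) * s⁻¹) * s⁻¹) * s⁻¹ by group, hx, hs (hx' hn),
        hs (hs' (hx' hn)), hs (hs' (hs' (hx' hn)))]
      rfl
    set h := s * (s * (s * x))
    obtain ⟨f1, f2⟩ := Hc_fix c
    have hC : h ∈ Chart.Cen z e := by
      refine Chart.mem_Cen.mpr ⟨mul_inv_eq_iff_eq_mul.mp ?_, fun j => mul_inv_eq_iff_eq_mul.mp ?_⟩
      · have := hh (n := 1) (by norm_num)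
        rw [f1] at this
        rwa [B.el_z] at this
      · have := hh (n := 2 ^ (j.val + 1))
          (Nat.pow_lt_pow_right (by norm_num : 1 < 2) (show j.val + 1 < 8 by omega))
        rw [f2] at this
        rwa [B.el_e] at this
    refine Hc_zero c fun k => ?_
    have hb : Hc c (bidx k) < 256 := hs' (hs' (hs' (hx' (bidx_lt k))))
    refine B.el_inj (lt_trans hb (by norm_num)) (lt_trans (bidx_lt k) (by norm_num)) ?_
    show (sel (base z e a)) _ = (sel (base z e a)) _
    rw [← hh (bidx_lt k), (B.good h hC _ (B.el_mem _)).eq, mul_inv_cancel_right]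
  have hg0 : ∀ {n : ℕ}, n < 256 → g * (sel (base z e a)) n * g⁻¹ = (sel (base z e a)) (H90.xorSel (lowE 0) n) := by
    intro n hn
    rw [hgC hn, show c = fun _ => false from funext hc0, lowC_false]
  -- the mover on the last three generators
  have hgq : ∀ q : Fin 3, ∃ ν : Bool, g * (sel (base z e a)) (2 ^ (q.val + 8)) * g⁻¹ =
      (sel (base z e a)) (((if ν then 2 else 0) ^^^ xE l 0 q) ^^^ 2 ^ (q.val + 8)) := by
    intro q
    refine B.mover_row C' (2 ^ (q.val + 8)) (l q) fun k => ?_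
    rw [B.row_parity C' k.succ (x := xE l k.succ q)
      (Nat.pow_lt_pow_right (by norm_num : 1 < 2) (show q.val + 8 < 11 by omega))
      (lt_trans (xE_lt _ _ _) (by norm_num)) (by simpa [xE] using hl q k)]
    exact xE_parity l k q
  choose ν hν using hgq
  -- normalisation
  let eq : Fin 6 → Bool := ![false, false, false, ν 0, ν 1, ν 2]
  let a' : Fin 6 → G := fun n => a n * (sel (base z e a)) (if eq n then 1 else 0)
  have hz : ∀ n, (sel (base z e a)) (if eq n then 1 else 0) ∈ F z := fun n => by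
    cases eq n
    · simp [sel_zero]
    · simpa [B.el_z] using B.C.P.mem
  have B' : Basis F z π ρ e f a' :=
    ⟨B.C, B.std, B.good, fun n => mul_mem (B.ha n) (B.el_mem _), fun n => by
      have hc := (B.good _ (B.el_mem (if eq n then 1 else 0)) _ (B.ha n)).eq
      calc a' n * a' n = a n * (sel (base z e a) (if eq n then 1 else 0) * a n) *
            sel (base z e a) (if eq n then 1 else 0) := by simp only [a']; group
        _ = (a n * a n) * (sel (base z e a) (if eq n then 1 else 0) *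
            sel (base z e a) (if eq n then 1 else 0)) := by rw [hc]; group
        _ = 1 := by rw [B.asq, B.el_sq, one_mul],
      fun n i k => by rw [B.C.M_mul (B.ha n) (B.el_mem _), B.C.M_mem (hz n), add_zero, B.aM],
      fun n m => by
        have hzc : ∀ y, Commute (f m) y → f m * y * (f m)⁻¹ = y := fun y hy => by
          rw [hy.eq, mul_inv_cancel_right]
        have hb : Chart.bv e (Chart.pairM (pj n) (pl n) m) ∈ Chart.Cen z e :=
          Chart.bv_mem (fun i => B.C.ebase_mem_Cen _ (by fin_cases i <;> simp [Chart.ebase])) _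
        rw [show f m * a' n * (f m)⁻¹ = f m * a n * (f m)⁻¹ *
          (f m * (sel (base z e a)) (if eq n then 1 else 0) * (f m)⁻¹) by simp only [a']; group, B.aconj,
          hzc _ (by cases eq n
                    · simp [sel_zero]
                    · simpa [B.el_z] using B.C.P.comm _ (B.C.hf m)),
          mul_assoc, (B.good _ hb _ (B.el_mem _)).eq, ← mul_assoc]⟩
  have hsame : ∀ {n}, n < 256 → (sel (base z e a')) n = (sel (base z e a)) n := by
    intro n hn
    rw [B'.el_low8 hn, B.el_low8 hn]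
    simp [a', eq, sel_zero]
  have hq : ∀ q : Fin 3, (sel (base z e a')) (2 ^ (q.val + 8)) = (sel (base z e a)) ((if ν q then 1 else 0) ^^^ 2 ^ (q.val + 8)) := by
    intro q
    rw [← qa_val, B'.el_a, B.el_xor, B.el_a, (B.good _ (B.el_mem _) _ (B.ha _)).eq]
    simp only [a']
    congr 2
    fin_cases q <;> rfl
  refine ⟨π, ρ, e, f, a', l, π', ρ', Fin.cons g d, B', ?_, ?_, fun m n => ?_⟩
  · rwa [show e2 z e a' = e2 z e a by
      simp only [e2]
      rw [hsame (by norm_num), hsame (by norm_num), hsame (by norm_num)]]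
  · rwa [show e2 z e a' = e2 z e a by
      simp only [e2]
      rw [hsame (by norm_num), hsame (by norm_num), hsame (by norm_num)]]
  · refine conj_sel B'.base_sq B'.base_comm _ _ _ ?_ n
    have hlow' : ∀ {i : ℕ}, i < 256 → (Fin.cons g d : Fin 4 → G) m * (sel (base z e a')) i *
        ((Fin.cons g d : Fin 4 → G) m)⁻¹ = (sel (base z e a')) (H90.xorSel (lowE m) i) := by
      intro i hi
      rw [hsame hi, hsame (lowE_lt m ⟨i, hi⟩)]
      induction m using Fin.cases with
      | zero => exact hg0 hi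
      | succ k => exact hlow k hi
    have key : ∀ (i : Fin 8), (Fin.cons g d : Fin 4 → G) m * (base z e a')[i.val]'(by simp [base]; omega)
        * ((Fin.cons g d : Fin 4 → G) m)⁻¹ = (sel (base z e a')) ((lowE m).getD i.val 0) := by
      intro i
      rw [← sel_single _ i.val (by simp [base]; omega)]
      refine (hlow' (Nat.pow_lt_pow_right (by norm_num : 1 < 2) (show i.val < 8 from i.2))).trans ?_
      rw [low_get]
    have khigh : ∀ q : Fin 3, (Fin.cons g d : Fin 4 → G) m * a' (qa q) *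
        ((Fin.cons g d : Fin 4 → G) m)⁻¹ = (sel (base z e a')) (2 ^ (q.val + 8) ^^^ xE l m q) := by
      intro q
      rw [← B'.el_a (qa q), qa_val, B'.el_xor, hsame (xE_lt l m q), hq, ← B.el_xor]
      induction m using Fin.cases with
      | zero =>
        rw [Fin.cons_zero, B.el_xor, show ∀ x y : G, g * (x * y) * g⁻¹ = (g * x * g⁻¹) * (g * y * g⁻¹)
          from fun x y => by group]
        rw [show g * sel (base z e a) (2 ^ (q.val + 8)) * g⁻¹ = _ from hν q]
        rw [show g * sel (base z e a) (if ν q then 1 else 0) * g⁻¹ =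
          (sel (base z e a)) ((if ν q then 1 else 0) ^^^ (if ν q then 2 else 0)) by
            cases ν q
            · simp [sel_zero]
            · simpa [B.el_z] using hgz, ← B.el_xor]
        congr 1
        apply Nat.eq_of_testBit_eq
        intro i
        simp only [Nat.testBit_xor]
        cases Nat.testBit (xE l 0 q) i <;> cases Nat.testBit (2 ^ (q.val + 8)) i <;>
          cases Nat.testBit (if ν q then 1 else 0) i <;> cases Nat.testBit (if ν q then 2 else 0) i <;>
          rfl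
      | succ k =>
        rw [Fin.cons_succ, B.el_xor, show ∀ x y : G, d k * (x * y) * (d k)⁻¹ =
          (d k * x * (d k)⁻¹) * (d k * y * (d k)⁻¹) from fun x y => by group]
        rw [show d k * sel (base z e a) (2 ^ (q.val + 8)) * (d k)⁻¹ =
          (sel (base z e a)) (xE l k.succ q ^^^ 2 ^ (q.val + 8)) by simpa [xE] using hl q k]
        rw [show d k * sel (base z e a) (if ν q then 1 else 0) * (d k)⁻¹ = (sel (base z e a)) (if ν q then 1 else 0) by
          cases ν q
          · simp [sel_zero]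
          · simpa [B.el_z] using
              mul_inv_eq_iff_eq_mul.mpr ((B.C.frame 0).bcomm (hd k).1).1.eq, ← B.el_xor]
        congr 1
        ac_rfl
    rw [imgE, low_eta m]
    simp only [List.cons_append, List.nil_append]
    refine .cons ?_ <| .cons ?_ <| .cons ?_ <| .cons ?_ <| .cons ?_ <| .cons ?_ <| .cons ?_ <|
      .cons ?_ <| .cons ?_ <| .cons ?_ <| .cons ?_ .nil
    all_goals first
      | exact khigh 0
      | exact khigh 1
      | exact khigh 2
      | exact key 0
      | exact key 1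
      | exact key 2
      | exact key 3
      | exact key 4
      | exact key 5
      | exact key 6
      | exact key 7

end H19.C1M
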