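import Cfsg.Agent.H19.Co1M24.Trans
import Cfsg.Agent.H19.Co1M24.Hom
import Cfsg.Agent.H2.Gaschutz

/-!
The normaliser of the abelian centraliser splits.
-/

set_option autoImplicit false
set_option linter.unusedSectionVars false

namespace H19.C1M

open Cfsg
open H43 H79.Co1T
open H69 (LXFam)
open H90 (xorSel)

/-- The transvections of the upper triangular group. -/
def sixW : List (List (Fin 4 × Fin 4)) := [[(0, 1)], [(2, 3)], [(1, 2)], [(1, 3)], [(0, 2)], [(0, 3)]]

/-- The word of a product. -/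
def wordSel : List (List (Fin 4 × Fin 4)) → ℕ → List (Fin 4 × Fin 4)
  | [], _ => []
  | w :: ws, n => (if n % 2 = 1 then w else []) ++ wordSel ws (n / 2)

theorem six_inj : ∀ n m : Fin 64,
    (∀ k : Fin 4, actW (wordSel sixW n.val) (2 ^ k.val) = actW (wordSel sixW m.val) (2 ^ k.val)) →
      n = m := by
  decide +kernel

theorem comb_e : ∀ (v : Fin 16) (k : Fin 4),
    combT zTab v.val (2 ^ (k.val + 1)) = 2 * 2 ^ k.val ^^^ (v.val / 2 ^ k.val % 2) := by
  decide +kernel

theorem sum_split : ∀ (n : Fin 4) (m : Fin 16), n.val + 2 ^ 2 * m.val < 64 := by decide +kernel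

variable {G : Type*} [Group G] [Finite G]

theorem sel_append : ∀ (gs hs : List G) {m : ℕ}, m < 2 ^ gs.length → ∀ k,
    sel (gs ++ hs) (m + 2 ^ gs.length * k) = sel gs m * sel hs k
  | [], hs, m, h, k => by
    simp only [List.length_nil, pow_zero, Nat.lt_one_iff] at h
    simp [h, sel_nil]
  | g :: gs, hs, m, h, k => by
    rw [List.length_cons, pow_succ] at h
    rw [List.cons_append, sel_cons, sel_cons, List.length_cons, pow_succ, mul_assoc,
      show 2 * k = k * 2 by ring, ← mul_assoc,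
      show (m + 2 ^ gs.length * k * 2) % 2 = m % 2 by rw [Nat.add_mul_mod_self_right],
      show (m + 2 ^ gs.length * k * 2) / 2 = m / 2 + 2 ^ gs.length * k by
        rw [Nat.add_mul_div_right _ _ (by norm_num : 0 < 2)],
      sel_append gs hs (by omega) k, mul_assoc]

variable {F : G → Subgroup G} {z : G} {π : G → V8} {ρ : G → orthGroup q8} {e f : Fin 4 → G}
variable {a : Fin 6 → G} {ψ : List ℕ}

theorem acts_sel : ∀ {gs : List G} {ws : List (List (Fin 4 × Fin 4))},
    List.Forall₂ (Acts z e f) gs ws → ∀ n, Acts z e f (sel gs n) (wordSel ws n)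
  | [], [], _, n => Acts.one
  | g :: gs, w :: ws, h, n => by
    obtain ⟨h1, h2⟩ := List.forall₂_cons.mp h
    rw [sel_cons, wordSel]
    refine Acts.mul ?_ (acts_sel h2 _)
    split
    exacts [h1, Acts.one]

namespace Basis

theorem el_two (B : Basis F z π ρ e f a) {y : ℕ} (hy : y < 16) :
    sel (base z e a) (2 * y) = sel (four e) y := by
  have h1 : sel [e 0, e 1, e 2, e 3, a 0, a 1, a 2, a 3, a 4, a 5] y = sel (four e) y :=
    sel_append_lt (four e) [a 0, a 1, a 2, a 3, a 4, a 5] y (by simpa [four] using hy)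
  rw [base, sel_cons, show 2 * y / 2 = y by omega, h1, if_neg (by omega), one_mul]

theorem el_bit (B : Basis F z π ρ e f a) {y c : ℕ} (hy : y < 16) (hc : c < 2) :
    sel (base z e a) (2 * y ^^^ c) = sel (four e) y * sel (base z e a) c := by
  rw [B.el_xor, B.el_two hy]

theorem acts_normal (B : Basis F z π ρ e f a) {s : G} {w : List (Fin 4 × Fin 4)}
    (h : Acts z e f s w) : s ∈ Subgroup.normalizer (Chart.Cen z e : Set G) := by
  refine B.normalises h.1 fun i => ?_
  have hi : 2 ^ i.val < 16 := Nat.pow_lt_pow_right (by norm_num : 1 < 2) (show i.val < 4 from i.2)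
  obtain ⟨h2, hc⟩ := B.C.four_ok.1
  refine ⟨xv (actW w (2 ^ i.val)), ?_⟩
  rw [← B.C.π_bv B.C.he, ← B.C.P.act s h.1 _ (B.C.he i)]
  congr 1
  rw [← sel_four e i, h.2.1 _ hi]
  have hy := actW_lt w hi
  generalize actW w (2 ^ i.val) = y at hy ⊢
  show sel [e 0, e 1, e 2, e 3] y = _
  simp only [sel_cons, sel_nil, mul_one, Chart.bv, xv, Matrix.cons_val_zero, Matrix.cons_val_one,
    Matrix.cons_val, show y / 2 / 2 = y / 4 by omega, show y / 4 / 2 = y / 8 by omega]
  simp only [apply_ite (bp (e 0)), apply_ite (bp (e 1)), apply_ite (bp (e 2)), apply_ite (bp (e 3)),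
    bp_one, bp_zero, mul_assoc]

theorem exists_six (B : Basis F z π ρ e f a) :
    ∃ t u x y x' y' : G, List.Forall₂ (Acts z e f) [t, u, x, y, x', y'] sixW ∧
      ((∀ g ∈ [t, u], g * g = 1) ∧ ∀ g ∈ [t, u], ∀ h ∈ [t, u], Commute g h) ∧
      ((∀ g ∈ [x, y, x', y'], g * g = 1) ∧
        ∀ g ∈ [x, y, x', y'], ∀ h ∈ [x, y, x', y'], Commute g h) ∧
      List.Forall₂ (fun g m => t * g * t⁻¹ = sel [x, y, x', y'] m) [x, y, x', y'] [5, 10, 4, 8] ∧
      List.Forall₂ (fun g m => u * g * u⁻¹ = sel [x, y, x', y'] m) [x, y, x', y'] [3, 2, 12, 8] := by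
  obtain ⟨t, tt, ta, te, tf⟩ := B.exists_trans (i := 0) (j := 1) (by decide)
  obtain ⟨u, uu, ua, ue, uf⟩ := B.exists_trans (i := 2) (j := 3) (by decide)
  obtain ⟨x, xx, xa, xe, xf⟩ := B.exists_trans (i := 1) (j := 2) (by decide)
  obtain ⟨s13, s13s, s13a, s13e, s13f⟩ := B.exists_trans (i := 1) (j := 3) (by decide)
  obtain ⟨s02, s02s, s02a, s02e, s02f⟩ := B.exists_trans (i := 0) (j := 2) (by decide)
  obtain ⟨s03, s03s, s03a, s03e, s03f⟩ := B.exists_trans (i := 0) (j := 3) (by decide)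
  set y := u * x * u * x with hy
  set x' := t * x * t * x with hx'
  set y' := u * x' * u * x' with hy'
  have ya : Acts z e f y [(1, 3)] :=
    (((ua.mul xa).mul ua).mul xa).congr (by decide +kernel)
  have x'a : Acts z e f x' [(0, 2)] :=
    (((ta.mul xa).mul ta).mul xa).congr (by decide +kernel)
  have y'a : Acts z e f y' [(0, 3)] :=
    (((ua.mul x'a).mul ua).mul x'a).congr (by decide +kernel)
  have cs : ∀ {g s s' : G}, (s' = s ∨ s' = s * z) → Commute g s → Commute g z → Commute g s' := by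
    rintro g s s' (rfl | rfl) h hz
    exacts [h, h.mul_right hz]
  have sq : ∀ {s s' : G}, (s' = s ∨ s' = s * z) → s * s = 1 → Commute s z → s' * s' = 1 := by
    rintro s s' (rfl | rfl) h hz
    · exact h
    · rw [show s * z * (s * z) = s * (z * s) * z by group, ← hz.eq,
        show s * (s * z) * z = s * s * (z * z) by group, h, B.C.P.pp, one_mul]
  have ey := B.eq_of_acts ya s13a
  have ex' := B.eq_of_acts x'a s02a
  have ey' := B.eq_of_acts y'a s03a
  have ctu : Commute t u :=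
    B.trans_commute (c := 1) (d := 3) (by decide) (by decide) (by decide) (by decide) (by decide)
      ⟨ta.1, te, tf⟩ ⟨ua.1, ue, uf⟩
  have c1 : Commute x s13 :=
    B.trans_commute (c := 2) (d := 3) (by decide) (by decide) (by decide) (by decide) (by decide)
      ⟨xa.1, xe, xf⟩ ⟨s13a.1, s13e, s13f⟩
  have c2 : Commute x s02 :=
    B.trans_commute (c := 2) (d := 3) (by decide) (by decide) (by decide) (by decide) (by decide)
      ⟨xa.1, xe, xf⟩ ⟨s02a.1, s02e, s02f⟩
  have c3 : Commute x s03 :=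
    B.trans_commute (c := 2) (d := 3) (by decide) (by decide) (by decide) (by decide) (by decide)
      ⟨xa.1, xe, xf⟩ ⟨s03a.1, s03e, s03f⟩
  have c4 : Commute s13 s02 :=
    B.trans_commute (c := 2) (d := 3) (by decide) (by decide) (by decide) (by decide) (by decide)
      ⟨s13a.1, s13e, s13f⟩ ⟨s02a.1, s02e, s02f⟩
  have c5 : Commute s13 s03 :=
    B.trans_commute (c := 2) (d := 3) (by decide) (by decide) (by decide) (by decide) (by decide)
      ⟨s13a.1, s13e, s13f⟩ ⟨s03a.1, s03e, s03f⟩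
  have c6 : Commute s02 s03 :=
    B.trans_commute (c := 2) (d := 3) (by decide) (by decide) (by decide) (by decide) (by decide)
      ⟨s02a.1, s02e, s02f⟩ ⟨s03a.1, s03e, s03f⟩
  have cxy : Commute x y := cs ey c1 xa.1
  have cxx' : Commute x x' := cs ex' c2 xa.1
  have cxy' : Commute x y' := cs ey' c3 xa.1
  have cyx' : Commute y x' := cs ex' (cs ey c4.symm s02a.1).symm ya.1
  have cyy' : Commute y y' := cs ey' (cs ey c5.symm s03a.1).symm ya.1
  have cx'y' : Commute x' y' := cs ey' (cs ex' c6.symm s03a.1).symm x'a.1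
  have tx' : Commute t x' := cs ex' (B.trans_commute (c := 1) (d := 2) (by decide) (by decide)
    (by decide) (by decide) (by decide) ⟨ta.1, te, tf⟩ ⟨s02a.1, s02e, s02f⟩) ta.1
  have ty' : Commute t y' := cs ey' (B.trans_commute (c := 1) (d := 3) (by decide) (by decide)
    (by decide) (by decide) (by decide) ⟨ta.1, te, tf⟩ ⟨s03a.1, s03e, s03f⟩) ta.1
  have uy : Commute u y := cs ey (B.trans_commute (c := 3) (d := 0) (by decide) (by decide)
    (by decide) (by decide) (by decide) ⟨ua.1, ue, uf⟩ ⟨s13a.1, s13e, s13f⟩) ua.1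
  have uy' : Commute u y' := cs ey' (B.trans_commute (c := 3) (d := 1) (by decide) (by decide)
    (by decide) (by decide) (by decide) ⟨ua.1, ue, uf⟩ ⟨s03a.1, s03e, s03f⟩) ua.1
  have ti : t⁻¹ = t := inv_eq_of_mul_eq_one_right tt
  have ui : u⁻¹ = u := inv_eq_of_mul_eq_one_right uu
  have xi : x⁻¹ = x := inv_eq_of_mul_eq_one_right xx
  have x'i : x'⁻¹ = x' := inv_eq_of_mul_eq_one_right (sq ex' s02s s02a.1)
  have tx : t * x * t⁻¹ = x * x' := by
    rw [cxx'.eq, hx', ti, mul_assoc (t * x * t), xx, mul_one]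
  have ux : u * x * u⁻¹ = x * y := by
    rw [cxy.eq, hy, ui, mul_assoc (u * x * u), xx, mul_one]
  have ux' : u * x' * u⁻¹ = x' * y' := by
    rw [cx'y'.eq, hy', ui, mul_assoc (u * x' * u), sq ex' s02s s02a.1, mul_one]
  have ty : t * y * t⁻¹ = y * y' := by
    have e1 : y = u * x * u⁻¹ * x⁻¹ := by rw [ui, xi]
    have e2 : y' = u * x' * u⁻¹ * x'⁻¹ := by rw [hy', ui, x'i]
    calc t * y * t⁻¹ = (t * u) * x * (t * u)⁻¹ * (t * x * t⁻¹)⁻¹ := by rw [e1]; group
      _ = (u * t) * x * (u * t)⁻¹ * (x * x')⁻¹ := by rw [ctu.eq, tx]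
      _ = u * (t * x * t⁻¹) * u⁻¹ * (x * x')⁻¹ := by group
      _ = (u * x * u⁻¹) * (u * x' * u⁻¹) * (x * x')⁻¹ := by rw [tx]; group
      _ = (x * y) * (x' * y') * (x * x')⁻¹ := by rw [ux, ux']
      _ = (y * x) * (y' * x') * (x * x')⁻¹ := by rw [cxy.eq, cx'y'.eq]
      _ = y * (x * y') * x⁻¹ := by
          rw [cxx'.eq, show (y * x) * (y' * x') * (x' * x)⁻¹ =
            y * (x * y') * (x' * x⁻¹ * x'⁻¹) by group, ← cxx'.inv_left.eq]
          group
      _ = y * y' := by rw [cxy'.eq]; group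
  refine ⟨t, u, x, y, x', y', ?_, ⟨?_, ?_⟩, ⟨?_, ?_⟩, ?_, ?_⟩
  · exact .cons ta <| .cons ua <| .cons xa <| .cons ya <| .cons x'a <| .cons y'a .nil
  · simp [tt, uu]
  · simp [ctu, ctu.symm]
  · simp [xx, sq ey s13s s13a.1, sq ex' s02s s02a.1, sq ey' s03s s03a.1]
  · simp [cxy, cxy.symm, cxx', cxx'.symm, cxy', cxy'.symm, cyx', cyx'.symm, cyy', cyy'.symm, cx'y',
      cx'y'.symm]
  · refine .cons ?_ <| .cons ?_ <| .cons ?_ <| .cons ?_ .nil <;> simp [sel_cons, sel_nil]
    exacts [by rw [tx], by rw [ty], mul_inv_eq_iff_eq_mul.mpr tx'.eq, mul_inv_eq_iff_eq_mul.mpr ty'.eq]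
  · refine .cons ?_ <| .cons ?_ <| .cons ?_ <| .cons ?_ .nil <;> simp [sel_cons, sel_nil]
    exacts [by rw [ux], mul_inv_eq_iff_eq_mul.mpr uy.eq, by rw [ux'], mul_inv_eq_iff_eq_mul.mpr uy'.eq]

theorem exists_T (B : Basis F z π ρ e f a) :
    ∃ T : Subgroup G, T ≤ Subgroup.normalizer (Chart.Cen z e : Set G) ∧
      Nat.card T = 1024 ∧ T ⊓ Chart.Cen z e = ⊥ := by
  obtain ⟨t, u, x, y, x', y', hsix, ⟨hP2, hPc⟩, ⟨hR2, hRc⟩, ht, hu⟩ := B.exists_six
  obtain ⟨-, hF2, hFc⟩ := B.C.four_ok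
  set Pg := selGroup [t, u] hP2 hPc
  set Rg := selGroup [x, y, x', y'] hR2 hRc
  set Fg := selGroup (four f) hF2 hFc
  have hnorm : ∀ g ∈ [t, u, x, y, x', y'], ∃ w, Acts z e f g w := by
    cases hsix with
    | cons h1 h =>
      cases h with
      | cons h2 h => cases h with
        | cons h3 h => cases h with
          | cons h4 h => cases h with
            | cons h5 h => cases h with
              | cons h6 h =>
                intro g hg
                simp only [List.mem_cons, List.not_mem_nil, or_false] at hg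
                rcases hg with rfl | rfl | rfl | rfl | rfl | rfl
                exacts [⟨_, h1⟩, ⟨_, h2⟩, ⟨_, h3⟩, ⟨_, h4⟩, ⟨_, h5⟩, ⟨_, h6⟩]
  have hPR : Pg ≤ Subgroup.normalizer (Rg : Set G) := by
    rintro _ ⟨n, rfl⟩
    refine sel_mem (fun g hg => mem_normalizer_of_conj_mem ?_) n
    rintro _ ⟨m, rfl⟩
    simp only [List.mem_cons, List.not_mem_nil, or_false] at hg
    rcases hg with rfl | rfl
    · exact ⟨_, (conj_sel hR2 hRc g _ _ ht m).symm⟩
    · exact ⟨_, (conj_sel hR2 hRc g _ _ hu m).symm⟩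
  have hgF : ∀ g ∈ [t, u, x, y, x', y'], g ∈ Subgroup.normalizer (Fg : Set G) := by
    intro g hg
    obtain ⟨w, hw⟩ := hnorm g hg
    refine mem_normalizer_of_conj_mem ?_
    rintro _ ⟨m, rfl⟩
    refine ⟨actW (opW w) (m % 16), ?_⟩
    rw [sel_mod (four f) m]
    exact (hw.2.2 _ (Nat.mod_lt _ (by norm_num))).symm
  have hPRF : Pg ⊔ Rg ≤ Subgroup.normalizer (Fg : Set G) := by
    refine sup_le ?_ ?_ <;> rintro _ ⟨n, rfl⟩ <;> refine sel_mem (fun g hg => hgF g ?_) n <;>
      simp only [List.mem_cons, List.not_mem_nil, or_false] at hg ⊢ <;> tauto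
  have hmem : ∀ g ∈ Pg ⊔ Rg ⊔ Fg, ∃ (n : Fin 64) (v : Fin 16),
      g = sel [t, u, x, y, x', y'] n.val * sel (four f) v.val := by
    intro g hg
    rw [← SetLike.mem_coe, Subgroup.coe_mul_of_left_le_normalizer_right _ _ hPRF,
      Subgroup.coe_mul_of_left_le_normalizer_right _ _ hPR] at hg
    obtain ⟨_, ⟨_, ⟨n, rfl⟩, _, ⟨m, rfl⟩, rfl⟩, _, ⟨v, rfl⟩, rfl⟩ := hg
    refine ⟨⟨n % 4 + 2 ^ 2 * (m % 16),
      sum_split ⟨n % 4, Nat.mod_lt _ (by norm_num)⟩ ⟨m % 16, Nat.mod_lt _ (by norm_num)⟩⟩,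
      ⟨v % 16, Nat.mod_lt _ (by norm_num)⟩, ?_⟩
    show sel [t, u] n * sel [x, y, x', y'] m * sel (four f) v = _
    rw [show sel [t, u, x, y, x', y'] (n % 4 + 2 ^ 2 * (m % 16)) =
      sel [t, u] (n % 4) * sel [x, y, x', y'] (m % 16) from
      sel_append [t, u] [x, y, x', y'] (Nat.mod_lt _ (by norm_num)) _,
      sel_mod [t, u] n, sel_mod [x, y, x', y'] m, sel_mod (four f) v]
    rfl
  have hfv : ∀ v, sel (four f) v = Chart.bv f (xv v) := by
    intro v
    show sel [f 0, f 1, f 2, f 3] v = _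
    simp only [sel_cons, sel_nil, mul_one, Chart.bv, xv, Matrix.cons_val_zero, Matrix.cons_val_one,
      Matrix.cons_val, Nat.div_div_eq_div_mul, Nat.reduceMul]
    simp only [apply_ite (bp (f 0)), apply_ite (bp (f 1)), apply_ite (bp (f 2)), apply_ite (bp (f 3)),
      bp_one, bp_zero, mul_assoc]
  -- the images of the first part
  have himg : ∀ (n : Fin 64) (v : Fin 16) (k : Fin 4),
      sel [t, u, x, y, x', y'] n.val * sel (four f) v.val * e k *
        (sel [t, u, x, y, x', y'] n.val * sel (four f) v.val)⁻¹ =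
      sel (base z e a) (2 * actW (wordSel sixW n.val) (2 ^ k.val) ^^^ (v.val / 2 ^ k.val % 2)) := by
    intro n v k
    have hk : 2 ^ k.val < 16 := Nat.pow_lt_pow_right (by norm_num : 1 < 2) (show k.val < 4 from k.2)
    have hb : v.val / 2 ^ k.val % 2 < 2 := Nat.mod_lt _ (by norm_num)
    have ha := acts_sel hsix n.val
    rw [show ∀ p q r : G, p * q * r * (p * q)⁻¹ = p * (q * r * q⁻¹) * p⁻¹ from fun _ _ _ => by group,
      hfv, ← B.el_e k, combT_sound B (f' := f) zTab
        (fun m i => by rw [B.conj_f, applyT, zTab_get]; rfl), comb_e, B.el_bit hk hb,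
      B.el_bit (actW_lt _ hk) hb, show ∀ p q r : G, p * (q * r) * p⁻¹ = p * q * p⁻¹ * (p * r * p⁻¹)
        from fun _ _ _ => by group, ha.2.1 _ hk]
    congr 1
    rcases Nat.mod_two_eq_zero_or_one (v.val / 2 ^ k.val) with h0 | h0 <;> rw [h0]
    · simp [sel_zero]
    · rw [B.el_z, ha.1.eq, mul_inv_cancel_right]
  have hinj : ∀ n m : Fin 64, ∀ v w : Fin 16,
      (∀ k : Fin 4, (sel [t, u, x, y, x', y'] n.val * sel (four f) v.val) * e k *
        (sel [t, u, x, y, x', y'] n.val * sel (four f) v.val)⁻¹ =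
        (sel [t, u, x, y, x', y'] m.val * sel (four f) w.val) * e k *
        (sel [t, u, x, y, x', y'] m.val * sel (four f) w.val)⁻¹) → n = m ∧ v = w := by
    intro n m v w h
    have hlt : ∀ (n : Fin 64) (v : Fin 16) (k : Fin 4),
        2 * actW (wordSel sixW n.val) (2 ^ k.val) ^^^ (v.val / 2 ^ k.val % 2) < 2048 := fun n v k =>
      Nat.xor_lt_two_pow (n := 11)
        (by have := actW_lt (wordSel sixW n.val)
              (Nat.pow_lt_pow_right (by norm_num : 1 < 2) (show k.val < 4 from k.2))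
            omega)
        (lt_trans (Nat.mod_lt _ (by norm_num)) (by norm_num))
    have key : ∀ k : Fin 4, actW (wordSel sixW n.val) (2 ^ k.val) = actW (wordSel sixW m.val) (2 ^ k.val) ∧
        v.val / 2 ^ k.val % 2 = w.val / 2 ^ k.val % 2 := by
      intro k
      have e0 := h k
      rw [himg, himg] at e0
      have e1 := B.el_inj (hlt n v k) (hlt m w k) e0
      have e2 := congrArg (· % 2) e1
      have e3 := congrArg (· / 2) e1
      simp only [Nat.xor_div_two, Nat.mul_div_cancel_left _ (by norm_num : 0 < 2),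
        Nat.div_eq_of_lt (Nat.mod_lt _ (by norm_num : 2 > 0)), Nat.xor_zero] at e3
      refine ⟨e3, ?_⟩
      rcases Nat.mod_two_eq_zero_or_one (v.val / 2 ^ k.val) with h0 | h0 <;>
        rcases Nat.mod_two_eq_zero_or_one (w.val / 2 ^ k.val) with h1 | h1 <;>
          rw [h0, h1] at e1 ⊢
      all_goals
        exfalso
        have := congrArg (fun i => Nat.testBit i 0) e1
        simp [Nat.testBit_xor] at this
    refine ⟨six_inj n m fun k => (key k).1, ?_⟩
    have := fun k => (key k).2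
    revert this
    revert v w
    intro v w _ _ hh
    exact (show ∀ v w : Fin 16, (∀ k : Fin 4, v.val / 2 ^ k.val % 2 = w.val / 2 ^ k.val % 2) → v = w
      by decide +kernel) v w hh
  refine ⟨Pg ⊔ Rg ⊔ Fg, sup_le (sup_le ?_ ?_) ?_, ?_, ?_⟩
  · rintro _ ⟨n, rfl⟩
    exact sel_mem (fun g hg => (hnorm g (by
      simp only [List.mem_cons, List.not_mem_nil, or_false] at hg ⊢; tauto)).elim
        fun w hw => B.acts_normal hw) n
  · rintro _ ⟨n, rfl⟩
    exact sel_mem (fun g hg => (hnorm g (by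
      simp only [List.mem_cons, List.not_mem_nil, or_false] at hg ⊢; tauto)).elim
        fun w hw => B.acts_normal hw) n
  · rintro _ ⟨n, rfl⟩
    refine sel_mem (fun g hg => ?_) n
    have hgF : g ∈ F z := by
      simp only [four, List.mem_cons, List.not_mem_nil, or_false] at hg
      rcases hg with rfl | rfl | rfl | rfl <;> exact B.C.hf _
    exact B.normalises (B.C.P.comm _ hgF) fun i => ⟨Pi.single i 1, by
      rw [B.C.P.ρ_mem hgF, orth_one_apply]
      simp [Pi.single_apply, Finset.sum_ite_eq']⟩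
  · let φ : Fin 64 × Fin 16 → ↥(Pg ⊔ Rg ⊔ Fg) := fun p =>
      ⟨sel [t, u, x, y, x', y'] p.1.val * sel (four f) p.2.val, mul_mem
        (sel_mem (fun g hg => by
          simp only [List.mem_cons, List.not_mem_nil, or_false] at hg
          rcases hg with h | h | h | h | h | h <;> rw [h]
          exacts [Subgroup.mem_sup_left (Subgroup.mem_sup_left ⟨1, by simp [sel_cons, sel_nil]⟩),
            Subgroup.mem_sup_left (Subgroup.mem_sup_left ⟨2, by simp [sel_cons, sel_nil]⟩),
            Subgroup.mem_sup_left (Subgroup.mem_sup_right ⟨1, by simp [sel_cons, sel_nil]⟩),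
            Subgroup.mem_sup_left (Subgroup.mem_sup_right ⟨2, by simp [sel_cons, sel_nil]⟩),
            Subgroup.mem_sup_left (Subgroup.mem_sup_right ⟨4, by simp [sel_cons, sel_nil]⟩),
            Subgroup.mem_sup_left (Subgroup.mem_sup_right ⟨8, by simp [sel_cons, sel_nil]⟩)]) _)
        (Subgroup.mem_sup_right ⟨_, rfl⟩)⟩
    have hbij : Function.Bijective φ := by
      refine ⟨fun p q h => ?_, fun g => ?_⟩
      · have h' : sel [t, u, x, y, x', y'] p.1.val * sel (four f) p.2.val =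
            sel [t, u, x, y, x', y'] q.1.val * sel (four f) q.2.val := congrArg Subtype.val h
        obtain ⟨h1, h2⟩ := hinj p.1 q.1 p.2 q.2 fun k => by rw [h']
        exact Prod.ext h1 h2
      · obtain ⟨n, v, hnv⟩ := hmem g g.2
        exact ⟨(n, v), Subtype.ext hnv.symm⟩
    rw [← Nat.card_congr (Equiv.ofBijective φ hbij)]
    simp
  · rw [eq_bot_iff]
    rintro g ⟨hgT, hgA⟩
    obtain ⟨n, v, rfl⟩ := hmem g hgT
    obtain ⟨h1, h2⟩ := hinj n 0 v 0 fun k => by
      rw [((Chart.mem_Cen.mp hgA).2 k).eq, mul_inv_cancel_right]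
      simp [sel_zero]
    subst h1 h2
    simp [sel_zero]

end Basis

theorem Co.split (K : Co F z π ρ e f a ψ)
    [((Chart.Cen z e).subgroupOf (Subgroup.normalizer (Chart.Cen z e : Set G))).Normal] :
    ∃ H : Subgroup ↥(Subgroup.normalizer (Chart.Cen z e : Set G)),
      ((Chart.Cen z e).subgroupOf (Subgroup.normalizer (Chart.Cen z e : Set G))).IsComplement' H := by
  obtain ⟨T, hTN, hTc, hTA⟩ := K.B.exists_T
  set N := Subgroup.normalizer (Chart.Cen z e : Set G)
  set A' := (Chart.Cen z e).subgroupOf N with hA'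
  haveI : IsMulCommutative A' :=
    ⟨⟨fun x y => Subtype.ext (Subtype.ext (K.B.good _ x.2 _ y.2))⟩⟩
  have hA'c : Nat.card A' = 2048 := by
    rw [Nat.card_congr (Subgroup.subgroupOfEquivOfLe Subgroup.le_normalizer).toEquiv, K.B.card_Cen]
  have hT'c : Nat.card (T.subgroupOf N) = 1024 := by
    rw [Nat.card_congr (Subgroup.subgroupOfEquivOfLe hTN).toEquiv, hTc]
  have hdis : T.subgroupOf N ⊓ A' = ⊥ := by
    rw [eq_bot_iff]
    rintro g ⟨h1, h2⟩
    have : (g : G) ∈ T ⊓ Chart.Cen z e := ⟨h1, h2⟩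
    rw [hTA, Subgroup.mem_bot] at this
    exact Subgroup.mem_bot.mpr (Subtype.ext this)
  set U := A' ⊔ T.subgroupOf N
  have hU : Nat.card U = 2048 * 1024 := by
    let φ : A' × T.subgroupOf N → U := fun p =>
      ⟨p.1.1 * p.2.1, mul_mem (Subgroup.mem_sup_left p.1.2) (Subgroup.mem_sup_right p.2.2)⟩
    have hφ : Function.Bijective φ := by
      refine ⟨fun p q h => ?_, fun g => ?_⟩
      · have h' : p.1.1 * p.2.1 = q.1.1 * q.2.1 := congrArg Subtype.val h
        have h1 : q.1.1⁻¹ * p.1.1 = q.2.1 * p.2.1⁻¹ := by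
          rw [inv_mul_eq_iff_eq_mul, ← mul_assoc, ← h', mul_inv_cancel_right]
        have hm1 : q.1.1⁻¹ * p.1.1 ∈ T.subgroupOf N := h1 ▸ mul_mem q.2.2 (inv_mem p.2.2)
        have hm2 : q.1.1⁻¹ * p.1.1 ∈ A' := mul_mem (inv_mem q.1.2) p.1.2
        have h2 : q.1.1⁻¹ * p.1.1 ∈ T.subgroupOf N ⊓ A' := Subgroup.mem_inf.mpr ⟨hm1, hm2⟩
        rw [hdis, Subgroup.mem_bot] at h2
        have h3 : p.1 = q.1 := Subtype.ext (inv_mul_eq_one.mp h2).symm
        refine Prod.ext h3 (Subtype.ext ?_)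
        rw [h3] at h'
        exact mul_left_cancel h'
      · have hg : g.1 ∈ ((A' ⊔ T.subgroupOf N : Subgroup N) : Set N) := g.2
        rw [Subgroup.normal_mul] at hg
        obtain ⟨x, hx, y, hy, hxy⟩ := hg
        exact ⟨(⟨x, hx⟩, ⟨y, hy⟩), Subtype.ext hxy⟩
    rw [← Nat.card_congr (Equiv.ofBijective φ hφ), Nat.card_prod, hA'c, hT'c]
  obtain ⟨θ, hθ⟩ := K.exists_hom
  have hN : Nat.card N = 2048 * 244823040 := by
    have h1 := Subgroup.card_eq_card_quotient_mul_card_subgroup θ.ker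
    rw [Nat.card_congr (QuotientGroup.quotientKerEquivOfSurjective θ (K.surjective θ hθ)).toEquiv,
      H90.natCard_M24, K.ker_eq θ hθ, hA'c] at h1
    rw [h1, mul_comm]
  have hidx : U.index = 239085 := by
    have := U.card_mul_index
    rw [hU, hN] at this
    omega
  refine H2.gaschutz_exists (K := A') (U := U) le_sup_left ?_ (T.subgroupOf N) le_sup_right hdis rfl
  rw [hA'c, hidx]
  norm_num

end H19.C1M
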