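import Cfsg.Agent.H19.Co1M24.Basis

/-!
Exact lifts of transvections to the stabiliser of the two totally singular parts.
-/

set_option autoImplicit false
set_option linter.unusedSectionVars false

namespace H19.C1M

open H43 H79.Co1T
open H69 (LXFam)
open H69.LXFam (Sing)
open H69.Pair (half mem_half)
open H90 (xorSel)

/-- A transvection on masks. -/
def trn (i j : Fin 4) : List ℕ := List.ofFn fun k : Fin 4 => 2 ^ k.val ^^^ (if k = j then 2 ^ i.val else 0)

/-- A word in transvections on masks. -/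
def actW : List (Fin 4 × Fin 4) → ℕ → ℕ
  | [], x => x
  | q :: qs, x => xorSel (trn q.1 q.2) (actW qs x)

/-- The opposite word. -/
def opW (w : List (Fin 4 × Fin 4)) : List (Fin 4 × Fin 4) := w.map fun q => (q.2, q.1)

theorem trn_lt : ∀ (i j : Fin 4) (x : Fin 16), xorSel (trn i j) x.val < 16 := by decide +kernel

theorem actW_lt : ∀ (w : List (Fin 4 × Fin 4)) {x : ℕ}, x < 16 → actW w x < 16
  | [], _, h => h
  | q :: qs, _, h => trn_lt q.1 q.2 ⟨_, actW_lt qs h⟩

theorem actW_append : ∀ (v w : List (Fin 4 × Fin 4)) (x : ℕ), actW (v ++ w) x = actW v (actW w x)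
  | [], _, _ => rfl
  | q :: qs, w, x => by
    show xorSel _ _ = _
    rw [show actW (List.append qs w) x = actW qs (actW w x) from actW_append qs w x]
    rfl

variable {G : Type*} [Group G] [Finite G]

theorem flip_table : ∀ c d k : Fin 4, c ≠ d →
    (((eI k ∘ both (Equiv.swap c d)) ∘ flip1 c) ∘ both (Equiv.swap c d)) ∘ flip1 c =
      if k = c ∨ k = d then fI k else eI k := by
  decide +kernel

/-- The range of `sel` for commuting involutions. -/
def selGroup (gs : List G) (h2 : ∀ g ∈ gs, g * g = 1) (hc : ∀ g ∈ gs, ∀ h ∈ gs, Commute g h) :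
    Subgroup G where
  carrier := Set.range (sel gs)
  one_mem' := ⟨0, sel_zero gs⟩
  mul_mem' := by
    rintro _ _ ⟨m, rfl⟩ ⟨n, rfl⟩
    exact ⟨m ^^^ n, sel_xor h2 hc m n⟩
  inv_mem' := by
    rintro _ ⟨n, rfl⟩
    exact ⟨n, (inv_eq_of_mul_eq_one_right (by rw [← sel_xor h2 hc, Nat.xor_self, sel_zero])).symm⟩

theorem sel_mod : ∀ (gs : List G) (n : ℕ), sel gs n = sel gs (n % 2 ^ gs.length)
  | [], n => rfl
  | g :: gs, n => by
    rw [sel_cons, sel_cons, sel_mod gs (n / 2), sel_mod gs (n % 2 ^ (g :: gs).length / 2),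
      List.length_cons, pow_succ, mul_comm (2 ^ gs.length) 2]
    have h1 : n % (2 * 2 ^ gs.length) % 2 = n % 2 := Nat.mod_mul_right_mod n 2 _
    have h2 : n % (2 * 2 ^ gs.length) / 2 = n / 2 % 2 ^ gs.length := Nat.mod_mul_right_div_self n 2 _
    rw [h1, h2, Nat.mod_mod]

variable {F : G → Subgroup G} {z : G} {π : G → V8} {ρ : G → orthGroup q8} {e f : Fin 4 → G}
variable {a : Fin 6 → G}

/-- The product of members of a basis with a given mask. -/
def four (g : Fin 4 → G) : List G := [g 0, g 1, g 2, g 3]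

/-- Exact action as a word in transvections on both totally singular parts. -/
def Acts (z : G) (e f : Fin 4 → G) (s : G) (w : List (Fin 4 × Fin 4)) : Prop :=
  Commute s z ∧ (∀ x < 16, s * sel (four e) x * s⁻¹ = sel (four e) (actW w x)) ∧
    ∀ x < 16, s * sel (four f) x * s⁻¹ = sel (four f) (actW (opW w) x)

theorem Acts.mul {s s' : G} {v w : List (Fin 4 × Fin 4)} (h : Acts z e f s v) (h' : Acts z e f s' w) :
    Acts z e f (s * s') (v ++ w) := by
  refine ⟨h.1.mul_left h'.1, fun x hx => ?_, fun x hx => ?_⟩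
  · rw [show s * s' * sel (four e) x * (s * s')⁻¹ = s * (s' * sel (four e) x * s'⁻¹) * s⁻¹ by group,
      h'.2.1 x hx, h.2.1 _ (actW_lt w hx), actW_append]
  · rw [show s * s' * sel (four f) x * (s * s')⁻¹ = s * (s' * sel (four f) x * s'⁻¹) * s⁻¹ by group,
      h'.2.2 x hx, h.2.2 _ (actW_lt _ hx), opW, opW, opW, List.map_append, actW_append]

theorem Acts.one : Acts z e f (1 : G) [] :=
  ⟨Commute.one_left z, fun x _ => by simp [actW], fun x _ => by simp [actW, opW]⟩

theorem Acts.congr {s : G} {v w : List (Fin 4 × Fin 4)} (h : Acts z e f s v)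
    (hvw : ∀ x : Fin 16, actW v x.val = actW w x.val ∧ actW (opW v) x.val = actW (opW w) x.val) :
    Acts z e f s w :=
  ⟨h.1, fun x hx => by rw [h.2.1 x hx, (hvw ⟨x, hx⟩).1], fun x hx => by
    rw [h.2.2 x hx, (hvw ⟨x, hx⟩).2]⟩

theorem sel_four (g : Fin 4 → G) (k : Fin 4) : sel (four g) (2 ^ k.val) = g k := by
  rw [sel_single _ _ (by simp [four])]
  fin_cases k <;> rfl

namespace Chart

theorem four_ok {p : G} (C : Chart F z p π ρ e f) :
    ((∀ g ∈ four e, g * g = 1) ∧ ∀ g ∈ four e, ∀ h ∈ four e, Commute g h) ∧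
      ((∀ g ∈ four f, g * g = 1) ∧ ∀ g ∈ four f, ∀ h ∈ four f, Commute g h) := by
  refine ⟨⟨fun g hg => ?_, fun g hg h hh => ?_⟩, ⟨fun g hg => ?_, fun g hg h hh => ?_⟩⟩
  all_goals simp only [four, List.mem_cons, List.not_mem_nil, or_false] at hg
  · rcases hg with rfl | rfl | rfl | rfl <;> exact C.e_sq _
  · simp only [four, List.mem_cons, List.not_mem_nil, or_false] at hh
    rcases hg with rfl | rfl | rfl | rfl <;> rcases hh with rfl | rfl | rfl | rfl <;> exact C.e_comm _ _
  · rcases hg with rfl | rfl | rfl | rfl <;> exact C.f_sq _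
  · simp only [four, List.mem_cons, List.not_mem_nil, or_false] at hh
    rcases hg with rfl | rfl | rfl | rfl <;> rcases hh with rfl | rfl | rfl | rfl <;> exact C.f_comm _ _

/-- An element centralising both parts is central in the attached subgroup. -/
theorem eq_of_fix {p : G} (C : Chart F z p π ρ e f) {x : G} (hp : Commute x p)
    (he : ∀ k, Commute x (e k)) (hf : ∀ k, Commute x (f k)) : x = 1 ∨ x = p := by
  have hρ : ρ x = 1 := C.ext_orth
    (fun i => by rw [← C.P.act x hp _ (C.he i), (he i).eq, mul_inv_cancel_right, orth_one_apply])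
    (fun i => by rw [← C.P.act x hp _ (C.hf i), (hf i).eq, mul_inv_cancel_right, orth_one_apply])
  have hx := C.P.faithful x hp hρ
  exact C.P.ker x hx (C.sep (fun i => (C.P.commute_iff hx (C.he i)).mp (he i))
    (fun i => (C.P.commute_iff hx (C.hf i)).mp (hf i)))

end Chart

namespace Basis

theorem eq_of_acts (B : Basis F z π ρ e f a) {s s' : G} {w : List (Fin 4 × Fin 4)}
    (h : Acts z e f s w) (h' : Acts z e f s' w) : s = s' ∨ s = s' * z := by
  have key : ∀ (g : Fin 4 → G) (v : ℕ → ℕ), (∀ x < 16, s * sel (four g) x * s⁻¹ = sel (four g) (v x)) →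
      (∀ x < 16, s' * sel (four g) x * s'⁻¹ = sel (four g) (v x)) → ∀ k, Commute (s'⁻¹ * s) (g k) := by
    intro g v h1 h2 k
    have hk : 2 ^ k.val < 16 := Nat.pow_lt_pow_right (by norm_num : 1 < 2) (show k.val < 4 from k.2)
    have e0 := (h1 _ hk).trans (h2 _ hk).symm
    rw [sel_four] at e0
    show s'⁻¹ * s * g k = g k * (s'⁻¹ * s)
    calc s'⁻¹ * s * g k = s'⁻¹ * (s * g k * s⁻¹) * s := by group
      _ = _ := by rw [e0]; group
  rcases B.C.eq_of_fix (h'.1.inv_left.mul_left h.1) (key e _ h.2.1 h'.2.1) (key f _ h.2.2 h'.2.2)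
    with e0 | e0
  · exact Or.inl (inv_mul_eq_one.mp e0).symm
  · exact Or.inr (inv_mul_eq_iff_eq_mul.mp e0)

theorem exists_trans (B : Basis F z π ρ e f a) {i j : Fin 4} (hij : i ≠ j) :
    ∃ s, s * s = 1 ∧ Acts z e f s [(i, j)] ∧ (∀ k, k ≠ j → Commute s (e k)) ∧
      ∀ k, k ≠ i → Commute s (f k) := by
  set Fr := B.C.frame i
  have hw : InW (π (e i)) (π (f i)) (π (f j)) := ⟨by rw [B.C.fe, if_neg hij], B.C.ff _ _⟩
  obtain ⟨b, hb, hbβ⟩ := Fr.β_surj hw
  obtain ⟨hbz, hbi⟩ := Fr.bcomm hb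
  have hbb : b * b = 1 := by rw [Fr.sq_b hb, hbβ, B.C.qf, bp_zero]
  obtain ⟨x, hx, -, hmx⟩ := Fr.mover_conj (B.C.hf i) rfl hb
  have hπx : π (f j) = π x := by
    rw [show x = f i * (b * (f i)⁻¹ * b⁻¹) by rw [eq_mul_inv_of_mul_eq hmx.symm]; group,
      B.C.P.map_mul _ (B.C.hf i) _ (B.C.P.norm b hbz _ (inv_mem (B.C.hf i))),
      B.C.P.act b hbz _ (inv_mem (B.C.hf i)), B.C.P.πinv (B.C.hf i), Fr.β_spec hb, hbβ,
      Fr.H.eichler_x hw, B.C.qf, zero_smul, add_zero, ← add_assoc, vadd_self, zero_add]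
  have hbf : ∀ k, k ≠ i → Commute b (f k) := by
    intro k hk
    have ha : f k ∈ half F z (e i) := Fr.memA.mpr ⟨B.C.hf k, by rw [B.C.fe, if_neg (Ne.symm hk)]⟩
    have hα : Fr.α (f k) = π (f k) := InW.proj_eq ⟨by rw [B.C.fe, if_neg (Ne.symm hk)], B.C.ff _ _⟩
    have h := Fr.comm_ab ha hb
    rw [hα, hbβ, B.C.ff, Fr.ep_zero] at h
    exact (mul_inv_eq_iff_eq_mul.mp (mul_inv_eq_one.mp h)).symm
  have hbe : ∀ k, k ≠ i → b * e k * b⁻¹ = (if k = j then z * e i else 1) * e k := by
    intro k hk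
    have ha : e k ∈ half F z (e i) := Fr.memA.mpr ⟨B.C.he k, B.C.ee _ _⟩
    have hα : Fr.α (e k) = π (e k) := InW.proj_eq ⟨B.C.ee _ _, by rw [B.C.ef, if_neg hk]⟩
    have h := Fr.comm_inv (Fr.comm_ab ha hb)
    rw [hα, hbβ, B.C.ef] at h
    rw [mul_inv_eq_iff_eq_mul.mp h]
    split <;> simp [Frame.ep, bp_zero, bp_one]
  -- choose the lift exact on the second part
  obtain ⟨d, hdd, hdz, hdi, hdfi, hdf, hde⟩ : ∃ d, d * d = 1 ∧ Commute d z ∧ Commute d (e i) ∧
      f i * d * (f i)⁻¹ = f j * d ∧ (∀ k, k ≠ i → Commute d (f k)) ∧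
      ∀ k, k ≠ i → d * e k * d⁻¹ = (if k = j then z * e i else 1) * e k := by
    rcases B.C.P.eq_cases (B.C.hf j) (mem_half.mp hx).1 hπx with h | h
    · exact ⟨b, hbb, hbz, hbi, by rw [hmx, h], hbf, hbe⟩
    · refine ⟨b * e i, ?_, hbz.mul_left (B.C.P.comm _ (B.C.he i)), hbi.mul_left (Commute.refl _), ?_,
        fun k hk => (hbf k hk).mul_left ((B.C.P.commute_iff (B.C.he i) (B.C.hf k)).mpr (by
          rw [B.C.ef, if_neg (Ne.symm hk)])), fun k hk => ?_⟩
      · rw [show b * e i * (b * e i) = b * (e i * b) * e i by group, ← hbi.eq,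
          show b * (b * e i) * e i = b * b * (e i * e i) by group, hbb, B.C.e_sq, one_mul]
      · rw [show f i * (b * e i) * (f i)⁻¹ = f i * b * (f i)⁻¹ * (f i * e i * (f i)⁻¹) by group, hmx, h,
          B.C.conj_fe, if_pos rfl, show f j * z * b * (z * e i) = f j * (z * b) * z * e i by group,
          ← hbz.eq, show f j * (b * z) * z * e i = f j * b * (z * z) * e i by group, B.C.P.pp, mul_one,
          mul_assoc]
      · rw [show b * e i * e k * (b * e i)⁻¹ = b * (e i * e k * (e i)⁻¹) * b⁻¹ by group,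
          (B.C.e_comm i k).eq, mul_inv_cancel_right, hbe k hk]
  have hjj : Commute d (f j) := hdf j (Ne.symm hij)
  have hdinv : d⁻¹ = d := inv_eq_of_mul_eq_one_right hdd
  set s := d * f j with hs
  have hsz : Commute s z := hdz.mul_left (B.C.P.comm _ (B.C.hf j))
  have hse : ∀ k, s * e k * s⁻¹ = if k = j then e i * e k else e k := by
    intro k
    rw [hs, show d * f j * e k * (d * f j)⁻¹ = d * (f j * e k * (f j)⁻¹) * d⁻¹ by group, B.C.conj_fe]
    by_cases hkj : k = j
    · subst hkj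
      rw [if_pos rfl, if_pos rfl,
        show d * (z * e k) * d⁻¹ = d * z * d⁻¹ * (d * e k * d⁻¹) by group,
        hdz.eq, mul_inv_cancel_right, hde k (Ne.symm hij), if_pos rfl, ← mul_assoc, ← mul_assoc,
        B.C.P.pp, one_mul]
    · rw [if_neg hkj, if_neg hkj]
      by_cases hki : k = i
      · rw [hki, hdi.eq, mul_inv_cancel_right]
      · rw [hde k hki, if_neg hkj, one_mul]
  have hsf : ∀ k, s * f k * s⁻¹ = if k = i then f j * f k else f k := by
    intro k
    rw [hs, show d * f j * f k * (d * f j)⁻¹ = d * (f j * f k * (f j)⁻¹) * d⁻¹ by group,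
      (B.C.f_comm j k).eq, mul_inv_cancel_right]
    by_cases hki : k = i
    · subst hki
      rw [if_pos rfl]
      have h1 : f k * d = f j * d * f k := mul_inv_eq_iff_eq_mul.mp hdfi
      rw [show d * f k * d⁻¹ = d * (f k * d) by rw [hdinv, mul_assoc], h1,
        show d * (f j * d * f k) = d * f j * d * f k by group, hjj.eq,
        show f j * d * d * f k = f j * (d * d) * f k by group, hdd, mul_one, (B.C.f_comm j k).eq]
    · rw [if_neg hki, (hdf k hki).eq, mul_inv_cancel_right]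
  refine ⟨s, ?_, ⟨hsz, ?_, ?_⟩, fun k hk => ?_, fun k hk => ?_⟩
  · rw [hs, show d * f j * (d * f j) = d * (f j * d) * f j by group, ← hjj.eq,
      show d * (d * f j) * f j = d * d * (f j * f j) by group, hdd, B.C.f_sq, one_mul]
  · intro x _
    obtain ⟨⟨h2, hc⟩, -⟩ := B.C.four_ok
    refine conj_sel h2 hc s (four e) _ ?_ x
    have hk : ∀ k : Fin 4, s * e k * s⁻¹ =
        sel (four e) (2 ^ k.val ^^^ (if k = j then 2 ^ i.val else 0)) := by
      intro k
      rw [hse, sel_xor h2 hc, sel_four]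
      split
      · rw [sel_four, (B.C.e_comm i k).eq]
      · rw [sel_zero, mul_one]
    simp only [trn, List.ofFn_succ, List.ofFn_zero]
    exact .cons (hk 0) <| .cons (hk 1) <| .cons (hk 2) <| .cons (hk 3) .nil
  · intro x _
    obtain ⟨-, h2, hc⟩ := B.C.four_ok
    refine conj_sel h2 hc s (four f) _ ?_ x
    have hk : ∀ k : Fin 4, s * f k * s⁻¹ =
        sel (four f) (2 ^ k.val ^^^ (if k = i then 2 ^ j.val else 0)) := by
      intro k
      rw [hsf, sel_xor h2 hc, sel_four]
      split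
      · rw [sel_four, (B.C.f_comm j k).eq]
      · rw [sel_zero, mul_one]
    simp only [trn, List.ofFn_succ, List.ofFn_zero]
    exact .cons (hk 0) <| .cons (hk 1) <| .cons (hk 2) <| .cons (hk 3) .nil
  · exact mul_inv_eq_iff_eq_mul.mp (by rw [hse, if_neg hk])
  · exact mul_inv_eq_iff_eq_mul.mp (by rw [hsf, if_neg hk])

theorem exists_flipped (B : Basis F z π ρ e f a) {c d : Fin 4} (hcd : c ≠ d) :
    ∀ x y : G, Commute x z → Commute y z → (∀ k, Commute x (if k = c ∨ k = d then f k else e k)) →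
      (∀ k, Commute y (if k = c ∨ k = d then f k else e k)) → Commute x y := by
  intro x y hxz hyz hx hy
  let fl := permOrth (flip1 c) (qs_flip1 c)
  let sw := permOrth (both (Equiv.swap c d)) (qs_both _)
  obtain ⟨t, ht, htg⟩ := B.C.P.lift (fl * sw * fl * sw) (dick_pair fl sw)
  have hg : ∀ k, (fl * sw * fl * sw).1 (π (e k)) = π (if k = c ∨ k = d then f k else e k) := by
    intro k
    rw [apply_ite π, B.std.2, B.std.1]
    simp only [orth_mul_apply, fl, sw, permOrth_apply]
    exact flip_table c d k hcd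
  have hback : ∀ {w}, Commute w z → (∀ k, Commute w (if k = c ∨ k = d then f k else e k)) →
      t⁻¹ * w * t ∈ Chart.Cen z e := by
    intro w hwz hw
    refine Chart.mem_Cen.mpr ⟨(ht.inv_left.mul_left hwz).mul_left ht, fun k => ?_⟩
    have hF : (if k = c ∨ k = d then f k else e k) ∈ F z := by
      split
      exacts [B.C.hf k, B.C.he k]
    have hwt : Commute w (t * e k * t⁻¹) := by
      rcases B.C.P.eq_cases hF (B.C.P.norm t ht _ (B.C.he k))
        (by rw [B.C.P.act t ht _ (B.C.he k), htg, hg]) with e0 | e0 <;> rw [e0]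
      · exact hw k
      · exact (hw k).mul_right hwz
    show t⁻¹ * w * t * e k = e k * (t⁻¹ * w * t)
    calc t⁻¹ * w * t * e k = t⁻¹ * (w * (t * e k * t⁻¹)) * t := by group
      _ = _ := by rw [hwt.eq]; group
  have h := B.good _ (hback hxz hx) _ (hback hyz hy)
  show x * y = y * x
  calc x * y = t * (t⁻¹ * x * t * (t⁻¹ * y * t)) * t⁻¹ := by group
    _ = _ := by rw [h.eq]; group

theorem trans_commute (B : Basis F z π ρ e f a) {c d i j k l : Fin 4} (hcd : c ≠ d)
    (hi : i ≠ c ∧ i ≠ d) (hj : j = c ∨ j = d) (hk : k ≠ c ∧ k ≠ d) (hl : l = c ∨ l = d) {s t : G}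
    (hs : Commute s z ∧ (∀ q, q ≠ j → Commute s (e q)) ∧ ∀ q, q ≠ i → Commute s (f q))
    (ht : Commute t z ∧ (∀ q, q ≠ l → Commute t (e q)) ∧ ∀ q, q ≠ k → Commute t (f q)) :
    Commute s t := by
  refine B.exists_flipped hcd s t hs.1 ht.1 (fun q => ?_) (fun q => ?_) <;> split
  · rename_i hq
    exact hs.2.2 q fun e0 => by subst e0; exact hq.elim hi.1 hi.2
  · rename_i hq
    exact hs.2.1 q fun e0 => by subst e0; exact hq hj
  · rename_i hq
    exact ht.2.2 q fun e0 => by subst e0; exact hq.elim hk.1 hk.2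
  · rename_i hq
    exact ht.2.1 q fun e0 => by subst e0; exact hq hl

end Basis

end H19.C1M
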