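import Cfsg.Agent.H19.Co1M24.Unip

/-!
Changing coordinates of charts by coordinate permutations, and transporting by lifts.
-/

set_option autoImplicit false
set_option linter.unusedSectionVars false

namespace H19.C1M

open H43 H79.Co1T
open H69 (LXFam)
open H69.LXFam (Sing)
open H69.Pair (half mem_half)

theorem gen8 : ReflGenerates (ZMod 2) V8 := Or.inr (by simp)

/-- The even isometries. -/
theorem dick_mul (g h : orthGroup q8) : dickson (g * h) = dickson g * dickson h :=
  H44.dickson_mul nd8 gen8 g h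

theorem dick_sq (g : orthGroup q8) : dickson (g * g) = 1 := by
  rw [dick_mul]; exact H44.mulTwo_mul_self _

theorem dick_pair (g h : orthGroup q8) : dickson (g * h * g * h) = 1 := by
  rw [dick_mul, dick_mul, dick_mul]
  exact (show ∀ a b : Multiplicative (ZMod 2), a * b * a * b = 1 by decide) _ _

theorem dick_conj (g h : orthGroup q8) : dickson (g * h * g⁻¹) = dickson h := by
  have e := dick_mul g g⁻¹
  rw [mul_inv_cancel, dickson_one] at e
  rw [dick_mul, dick_mul, mul_comm (dickson g), mul_assoc, ← e, mul_one]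

/-- A permutation of the coordinates preserving the form. -/
noncomputable def permOrth (τ : Equiv.Perm (Fin 4 ⊕ Fin 4)) (h : ∀ v : V8, qs (v ∘ τ) = qs v) :
    orthGroup q8 :=
  ofIsometry nd8 (LinearMap.funLeft (ZMod 2) (ZMod 2) τ) fun x => by rw [q8_eq, q8_eq]; exact h x

theorem permOrth_apply (τ : Equiv.Perm (Fin 4 ⊕ Fin 4)) (h : ∀ v : V8, qs (v ∘ τ) = qs v) (v : V8) :
    (permOrth τ h).1 v = v ∘ τ := rfl

/-- The permutation of the coordinates attached to a permutation of the indices. -/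
def both (σ : Equiv.Perm (Fin 4)) : Equiv.Perm (Fin 4 ⊕ Fin 4) := Equiv.sumCongr σ σ

theorem qs_both (σ : Equiv.Perm (Fin 4)) (v : V8) : qs (v ∘ both σ) = qs v := by
  simp only [qs, both, Function.comp_apply, Equiv.sumCongr_apply, Sum.map_inl, Sum.map_inr]
  exact Equiv.sum_comp σ (fun i => v (.inl i) * v (.inr i))

/-- Exchange of the two coordinates with index `i`. -/
def flip1 (i : Fin 4) : Equiv.Perm (Fin 4 ⊕ Fin 4) := Equiv.swap (.inl i) (.inr i)

theorem qs_flip1 : ∀ (i : Fin 4) (v : V8), qs (v ∘ flip1 i) = qs v := by decide +kernel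

variable {G : Type*} [Group G] [Finite G]
variable {F : G → Subgroup G} {z p : G} {π : G → V8} {ρ : G → orthGroup q8} {e f : Fin 4 → G}

/-- New coordinates by an isometry. -/
theorem pt_twist {Fp : Subgroup G} (P : Pt Fp p π ρ) (h : orthGroup q8) :
    Pt Fp p (fun a => h.1 (π a)) (fun c => h * ρ c * h⁻¹) where
  map_mul a ha b hb := by simp only [P.map_mul a ha b hb, map_add]
  ker a ha e0 := P.ker a ha ((LinearEquiv.map_eq_zero_iff h.1).mp e0)
  surj v := by
    obtain ⟨a, ha, e0⟩ := P.surj ((h⁻¹).1 v)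
    exact ⟨a, ha, by simp only [e0, orth_apply_inv_self]⟩
  sq a ha := by rw [orth_qmap]; exact P.sq a ha
  comm := P.comm
  norm := P.norm
  act c hc a ha := by
    simp only [orth_mul_apply, orth_inv_apply_self, P.act c hc a ha]
  faithful c hc e0 := P.faithful c hc (by
    have := congrArg (fun g => h⁻¹ * g * h) e0
    simpa [mul_assoc] using this)
  even c hc := by rw [dick_conj]; exact P.even c hc
  lift g hg := by
    obtain ⟨c, hc, e0⟩ := P.lift (h⁻¹ * g * h⁻¹⁻¹) (by rw [dick_conj]; exact hg)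
    exact ⟨c, hc, by rw [e0]; group⟩
  mem := P.mem
  πp := by simp only [P.πp, map_zero]
  pp := P.pp
  pne := P.pne

/-- The standard position of a chart. -/
def Std (π : G → V8) (e f : Fin 4 → G) : Prop :=
  (∀ i, π (e i) = eI i) ∧ ∀ i, π (f i) = fI i

/-- A standard chart at the central involution. -/
theorem exists_chart (W : World F z) :
    ∃ (π : G → V8) (ρ : G → orthGroup q8) (e f : Fin 4 → G), Chart F z z π ρ e f ∧ Std π e f := by
  obtain ⟨π, ρ, P⟩ := W.pt z World.sing_self
  choose e he he' using fun i => P.surj (eI i)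
  choose f hf hf' using fun i => P.surj (fI i)
  refine ⟨π, ρ, e, f, ⟨W, P, World.sing_self, he, hf, ?_, ?_, ?_, ?_, ?_⟩, he', hf'⟩ <;>
    (simp only [he', hf', B8_eq, q8_eq]; decide)

namespace Chart

/-- Re-indexing. -/
theorem reindex (C : Chart F z p π ρ e f) (σ : Equiv.Perm (Fin 4)) :
    Chart F z p π ρ (e ∘ σ) (f ∘ σ) where
  W := C.W
  P := C.P
  sp := C.sp
  he _ := C.he _
  hf _ := C.hf _
  ee _ _ := C.ee _ _
  ff _ _ := C.ff _ _
  ef i j := by rw [Function.comp_apply, Function.comp_apply, C.ef]; simp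
  qe _ := C.qe _
  qf _ := C.qf _

theorem Cen_reindex (σ : Equiv.Perm (Fin 4)) : Cen p (e ∘ σ) = Cen p e := by
  rw [Cen, Cen, Set.range_comp, σ.surjective.range_eq, Set.image_univ]

/-- Exchange of the `i`-th pair. -/
theorem flipPair (C : Chart F z p π ρ e f) (i : Fin 4) :
    Chart F z p π ρ (Function.update e i (f i)) (Function.update f i (e i)) where
  W := C.W
  P := C.P
  sp := C.sp
  he j := by rw [Function.update_apply]; split; exacts [C.hf _, C.he _]
  hf j := by rw [Function.update_apply]; split; exacts [C.he _, C.hf _]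
  qe j := by rw [Function.update_apply]; split; exacts [C.qf _, C.qe _]
  qf j := by rw [Function.update_apply]; split; exacts [C.qe _, C.qf _]
  ee j k := by
    simp only [Function.update_apply]
    split <;> split
    · exact C.ff _ _
    · rw [C.fe, if_neg ‹_›]
    · rw [C.ef, if_neg ‹_›]
    · exact C.ee _ _
  ff j k := by
    simp only [Function.update_apply]
    split <;> split
    · exact C.ee _ _
    · rw [C.ef, if_neg (Ne.symm ‹_›)]
    · rw [C.fe, if_neg (Ne.symm ‹_›)]
    · exact C.ff _ _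
  ef j k := by
    simp only [Function.update_apply]
    split <;> split <;> subst_vars
    · rw [C.fe]
    · rw [C.ff, if_neg (Ne.symm ‹_›)]
    · rw [C.ee, if_neg ‹_›]
    · exact C.ef _ _

/-- A lift carries one centraliser to the other. -/
theorem conj_Cen {e' f' : Fin 4 → G} (C : Chart F z p π ρ e f) (C' : Chart F z p π ρ e' f') {c : G}
    (hc : Commute c p) (h1 : ∀ i, (ρ c).1 (π (e i)) = π (e' i)) {y : G} (hy : y ∈ Cen p e) :
    c * y * c⁻¹ ∈ Cen p e' := by
  obtain ⟨hyp, hye⟩ := mem_Cen.mp hy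
  refine mem_Cen.mpr ⟨(hc.mul_left hyp).mul_left hc.inv_left, fun i => ?_⟩
  have hm := C.P.norm c hc _ (C.he i)
  have hcomm : Commute (c * y * c⁻¹) (c * e i * c⁻¹) := by
    show _ = _
    calc c * y * c⁻¹ * (c * e i * c⁻¹) = c * (y * e i) * c⁻¹ := by group
      _ = c * (e i * y) * c⁻¹ := by rw [(hye i).eq]
      _ = _ := by group
  rcases C.P.eq_cases hm (C'.he i) (by rw [C.P.act c hc _ (C.he i), h1]) with e0 | e0
  · rwa [e0]
  · rw [e0]
    exact hcomm.mul_right ((hc.mul_left hyp).mul_left hc.inv_left)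

theorem M_transport {e' f' : Fin 4 → G} (C : Chart F z p π ρ e f) (C' : Chart F z p π ρ e' f')
    {c : G} (hc : Commute c p) (h2 : ∀ i, (ρ c).1 (π (f i)) = π (f' i)) {y : G} (hy : Commute y p)
    (i j : Fin 4) : C'.M (c * y * c⁻¹) i j = C.M y i j := by
  rw [M, C.P.ρ_mul (hc.mul_left hy) hc.inv_left, C.P.ρ_mul hc hy, C.P.ρ_inv hc, orth_mul_apply,
    orth_mul_apply, ← h2 i, ← h2 j, orth_inv_apply_self, B8, orth_polB_map]
  rfl

/-- Commutation is carried along. -/
theorem commute_transport {e' f' : Fin 4 → G} (C : Chart F z p π ρ e f)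
    (C' : Chart F z p π ρ e' f') {g : orthGroup q8} (hg : dickson g = 1)
    (h1 : ∀ i, g.1 (π (e i)) = π (e' i)) (h2 : ∀ i, g.1 (π (f i)) = π (f' i))
    {x y x' y' : G} (hx : x ∈ Cen p e) (hy : y ∈ Cen p e) (hx' : x' ∈ Cen p e') (hy' : y' ∈ Cen p e')
    (ex : ∀ i j, C.M x i j = C'.M x' i j) (ey : ∀ i j, C.M y i j = C'.M y' i j) (h : Commute x y) :
    Commute x' y' := by
  obtain ⟨c, hc, rfl⟩ := C.P.lift g hg
  refine C'.commute_congr₂ (C.conj_Cen C' hc h1 hx) hx' (C.conj_Cen C' hc h1 hy) hy'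
    (fun i j => by rw [C.M_transport C' hc h2 (mem_Cen.mp hx).1]; exact ex i j)
    (fun i j => by rw [C.M_transport C' hc h2 (mem_Cen.mp hy).1]; exact ey i j) ?_
  show _ = _
  calc c * x * c⁻¹ * (c * y * c⁻¹) = c * (x * y) * c⁻¹ := by group
    _ = c * (y * x) * c⁻¹ := by rw [h.eq]
    _ = _ := by group

end Chart

end H19.C1M
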