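import Cfsg.Agent.H19.Co1M24.Chart

/-!
The centraliser of the totally singular part of a chart acts by symmetric alternating matrices.
-/

set_option autoImplicit false
set_option linter.unusedSectionVars false

namespace H19.C1M

open H43 H79.Co1T
open H69 (LXFam)
open H69.LXFam (Sing)
open H69.Pair (half mem_half)

variable {G : Type*} [Group G] [Finite G]

namespace Chart

variable {F : G → Subgroup G} {z p : G} {π : G → V8} {ρ : G → orthGroup q8} {e f : Fin 4 → G}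

/-- The matrix of an element of the centraliser. -/
noncomputable def M (_ : Chart F z p π ρ e f) (y : G) (i j : Fin 4) : ZMod 2 :=
  B8 ((ρ y).1 (π (f i))) (π (f j))

theorem fix_e (C : Chart F z p π ρ e f) {y : G} (hy : y ∈ Cen p e) (i : Fin 4) :
    (ρ y).1 (π (e i)) = π (e i) := by
  obtain ⟨hp, he⟩ := mem_Cen.mp hy
  rw [← C.P.act y hp _ (C.he i), (he i).eq, mul_inv_cancel_right]

theorem q_comb (C : Chart F z p π ρ e f) (a : Fin 4 → ZMod 2) :
    q8 (∑ k, a k • π (e k)) = 0 := by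
  have h : ∀ i j : Fin 4, polB q8 (π (e i)) (π (e j)) = 0 := C.ee
  simp only [Fin.sum_univ_four, q_add, qmap_smul, map_add, map_smul, LinearMap.add_apply,
    LinearMap.smul_apply, C.qe, h, smul_zero, mul_zero, add_zero]

theorem image_f (C : Chart F z p π ρ e f) {y : G} (hy : y ∈ Cen p e) (i : Fin 4) :
    (ρ y).1 (π (f i)) = π (f i) + ∑ k, C.M y i k • π (e k) := by
  refine C.ext_vec (fun k => ?_) (fun k => ?_)
  · conv_lhs => rw [← C.fix_e hy k, B8, orth_polB_map]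
    simp [C.ee, C.fe]
  · simp [C.ef, C.ff, M, Finset.sum_ite_eq']

theorem M_symm (C : Chart F z p π ρ e f) {y : G} (hy : y ∈ Cen p e) (i j : Fin 4) :
    C.M y i j = C.M y j i := by
  have h : B8 ((ρ y).1 (π (f i))) ((ρ y).1 (π (f j))) = 0 := by
    rw [B8, orth_polB_map]; exact C.ff i j
  rw [C.image_f hy, C.image_f hy] at h
  simp [C.ee, C.ff, C.ef, C.fe, Finset.sum_ite_eq'] at h
  have key : ∀ a b : ZMod 2, a + b = 0 → a = b := by decide
  first
    | exact key _ _ h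
    | exact (key _ _ h).symm

theorem M_diag (C : Chart F z p π ρ e f) {y : G} (hy : y ∈ Cen p e) (i : Fin 4) : C.M y i i = 0 := by
  have h : q8 ((ρ y).1 (π (f i))) = 0 := by rw [orth_qmap, C.qf]
  rw [C.image_f hy, q_add, C.qf, C.q_comb] at h
  simpa [C.fe, Finset.sum_ite_eq'] using h

theorem M_mul (C : Chart F z p π ρ e f) {y y' : G} (hy : y ∈ Cen p e) (hy' : y' ∈ Cen p e)
    (i j : Fin 4) : C.M (y * y') i j = C.M y i j + C.M y' i j := by
  show B8 _ _ = _
  rw [C.P.ρ_mul (mem_Cen.mp hy).1 (mem_Cen.mp hy').1, orth_mul_apply, C.image_f hy' i, map_add,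
    map_sum, C.image_f hy]
  simp [C.fix_e hy, C.ee, C.ff, C.ef, Finset.sum_ite_eq']

theorem M_mem (C : Chart F z p π ρ e f) {y : G} (hy : y ∈ F p) (i j : Fin 4) : C.M y i j = 0 := by
  rw [M, C.P.ρ_mem hy, orth_one_apply]; exact C.ff i j

theorem M_inv (C : Chart F z p π ρ e f) {y : G} (hy : y ∈ Cen p e) (i j : Fin 4) :
    C.M y⁻¹ i j = C.M y i j := by
  have h := C.M_mul (inv_mem hy) hy i j
  rw [inv_mul_cancel, C.M_mem (one_mem _)] at h
  exact (show ∀ a b : ZMod 2, a + b = 0 → a = b by decide) _ _ h.symm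

theorem mem_of_M (C : Chart F z p π ρ e f) {y : G} (hy : y ∈ Cen p e)
    (h : ∀ i j, C.M y i j = 0) : y ∈ F p :=
  C.P.faithful y (mem_Cen.mp hy).1 (C.ext_orth
    (fun i => by rw [C.fix_e hy, orth_one_apply])
    (fun i => by rw [C.image_f hy, orth_one_apply]; simp [h]))

/-- Elements with the same matrix differ by the totally singular part. -/
theorem eq_mul_sel (C : Chart F z p π ρ e f) {y y' : G} (hy : y ∈ Cen p e) (hy' : y' ∈ Cen p e)
    (h : ∀ i j, C.M y i j = C.M y' i j) : ∃ n < 32, y' = y * sel (ebase p e) n := by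
  have hm := mul_mem (inv_mem hy) hy'
  obtain ⟨n, hn, e'⟩ := C.exists_sel (C.mem_of_M hm fun i j => by
    rw [C.M_mul (inv_mem hy) hy', C.M_inv hy, h, ZModModule.add_self]) hm
  exact ⟨n, hn, by rw [← e', mul_inv_cancel_left]⟩

theorem sel_central (C : Chart F z p π ρ e f) {y : G} (hy : y ∈ Cen p e) (n : ℕ) :
    Commute y (sel (ebase p e) n) := by
  obtain ⟨h1, h2⟩ := mem_Cen.mp hy
  exact commute_sel (fun g hg => by
    simp only [ebase, List.mem_cons, List.not_mem_nil, or_false] at hg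
    rcases hg with rfl | rfl | rfl | rfl | rfl
    exacts [h1, h2 _, h2 _, h2 _, h2 _]) n

theorem sel_mem_Cen (C : Chart F z p π ρ e f) (n : ℕ) : sel (ebase p e) n ∈ Cen p e :=
  sel_mem C.ebase_mem_Cen n

theorem commute_congr (C : Chart F z p π ρ e f) {x y y' : G} (hx : x ∈ Cen p e) (hy : y ∈ Cen p e)
    (hy' : y' ∈ Cen p e) (h : ∀ i j, C.M y i j = C.M y' i j) (hc : Commute x y) :
    Commute x y' := by
  obtain ⟨n, -, rfl⟩ := C.eq_mul_sel hy hy' h
  exact hc.mul_right (C.sel_central hx n)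

theorem commute_congr₂ (C : Chart F z p π ρ e f) {x x' y y' : G} (hx : x ∈ Cen p e)
    (hx' : x' ∈ Cen p e) (hy : y ∈ Cen p e) (hy' : y' ∈ Cen p e)
    (h : ∀ i j, C.M x i j = C.M x' i j) (h' : ∀ i j, C.M y i j = C.M y' i j) (hc : Commute x y) :
    Commute x' y' :=
  (C.commute_congr hy' hx hx' h (C.commute_congr hx hy hy' h' hc).symm).symm

/-- Conjugation by a lift in the attached subgroup preserves the centraliser. -/
theorem conj_mem_Cen (C : Chart F z p π ρ e f) {y a : G} (hy : y ∈ Cen p e) (ha : a ∈ F p) :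
    a * y * a⁻¹ ∈ Cen p e := by
  obtain ⟨h1, h2⟩ := mem_Cen.mp hy
  have hap := C.P.comm a ha
  refine mem_Cen.mpr ⟨(hap.mul_left h1).mul_left hap.inv_left, fun i => ?_⟩
  have hk : Commute y (a⁻¹ * e i * a) := by
    have e1 : a⁻¹ * e i * a = bp p (B8 (π a⁻¹) (π (e i))) * e i := by
      rw [← C.P.commutator (inv_mem ha) (C.he i)]; group
    rw [e1]
    exact (bp_comm h1 _).mul_right (h2 i)
  show a * y * a⁻¹ * e i = e i * (a * y * a⁻¹)
  calc a * y * a⁻¹ * e i = a * (y * (a⁻¹ * e i * a)) * a⁻¹ := by group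
    _ = _ := by rw [hk.eq]; group

theorem M_conj (C : Chart F z p π ρ e f) {y a : G} (hy : y ∈ Cen p e) (ha : a ∈ F p) (i j : Fin 4) :
    C.M (a * y * a⁻¹) i j = C.M y i j := by
  have hap := C.P.comm a ha
  have hyp := (mem_Cen.mp hy).1
  rw [M, C.P.ρ_mul (hap.mul_left hyp) hap.inv_left, C.P.ρ_mul hap hyp, C.P.ρ_mem ha,
    C.P.ρ_mem (inv_mem ha), one_mul, mul_one]
  rfl

/-- Commutators inside the centraliser lie in the centre. -/
theorem comm_cases (C : Chart F z p π ρ e f) {x y : G} (hx : x ∈ Cen p e) (hy : y ∈ Cen p e) :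
    x * y * x⁻¹ * y⁻¹ = 1 ∨ x * y * x⁻¹ * y⁻¹ = p := by
  set c := x * y * x⁻¹ * y⁻¹ with hc
  have hcm : c ∈ Cen p e := mul_mem (mul_mem (mul_mem hx hy) (inv_mem hx)) (inv_mem hy)
  have hcF : c ∈ F p := C.mem_of_M hcm fun i j => by
    rw [hc, C.M_mul (mul_mem (mul_mem hx hy) (inv_mem hx)) (inv_mem hy),
      C.M_mul (mul_mem hx hy) (inv_mem hx), C.M_mul hx hy, C.M_inv hx, C.M_inv hy]
    exact (show ∀ a b : ZMod 2, a + b + a + b = 0 by decide) _ _
  refine C.P.ker c hcF (C.sep (fun i => (C.P.commute_iff hcF (C.he i)).mp ((mem_Cen.mp hcm).2 i))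
    (fun j => (C.P.commute_iff hcF (C.hf j)).mp ?_))
  have hfx : ∀ {w}, w ∈ Cen p e → ∃ n, f j * w * (f j)⁻¹ = w * sel (ebase p e) n := fun hw => by
    obtain ⟨n, -, h⟩ := C.eq_mul_sel hw (C.conj_mem_Cen hw (C.hf j))
      fun a b => (C.M_conj hw (C.hf j) a b).symm
    exact ⟨n, h⟩
  obtain ⟨m, hm⟩ := hfx hx
  obtain ⟨n, hn⟩ := hfx hy
  refine (mul_inv_eq_iff_eq_mul.mp ?_).symm
  rw [hc, show f j * (x * y * x⁻¹ * y⁻¹) * (f j)⁻¹ = f j * x * (f j)⁻¹ * (f j * y * (f j)⁻¹) *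
      (f j * x * (f j)⁻¹)⁻¹ * (f j * y * (f j)⁻¹)⁻¹ by group, hm, hn]
  have c1 := C.sel_central hx n
  have c2 := C.sel_central hy m
  have c3 := C.sel_central (C.sel_mem_Cen m) n
  set s := sel (ebase p e) m
  set t := sel (ebase p e) n
  calc x * s * (y * t) * (x * s)⁻¹ * (y * t)⁻¹
      = x * (s * y) * t * s⁻¹ * x⁻¹ * t⁻¹ * y⁻¹ := by group
    _ = x * y * (s * t * s⁻¹) * x⁻¹ * t⁻¹ * y⁻¹ := by rw [← c2.eq]; group
    _ = x * y * (t * x⁻¹) * t⁻¹ * y⁻¹ := by rw [c3.eq, mul_inv_cancel_right]; group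
    _ = _ := by rw [← c1.inv_left.eq]; group

/-! ### The generators -/

theorem frame (C : Chart F z p π ρ e f) (j : Fin 4) : Frame F z p (e j) π ρ (π (f j)) := by
  have h0 : π (e j) ≠ 0 := fun h => by simpa [h] using C.ef j j
  exact ⟨C.W, C.P, C.sp, C.he j,
    C.W.sing_mem C.sp (C.he j) (C.e_sq j) (fun h => h0 (by rw [h, C.P.one])),
    fun h => h0 (by rw [h, C.P.πp]), C.qf j, by rw [C.ef]; simp⟩

/-- The matrix of a pair of indices. -/
def pairM (j l i k : Fin 4) : ZMod 2 :=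
  (if i = j ∧ k = l then 1 else 0) + (if i = l ∧ k = j then 1 else 0)

theorem half_mem_Cen (C : Chart F z p π ρ e f) {j : Fin 4} {b : G} (hb : b ∈ half F (e j) p)
    (hβ : ∀ m, m ≠ j → B8 (π (e m)) ((C.frame j).β b) = 0) : b ∈ Cen p e := by
  refine mem_Cen.mpr ⟨((C.frame j).bcomm hb).1, fun m => ?_⟩
  by_cases hm : m = j
  · subst hm; exact ((C.frame m).bcomm hb).2
  have ha : e m ∈ half F p (e j) :=
    (C.frame j).memA.mpr ⟨C.he m, C.ee m j⟩
  have h := (C.frame j).comm_ab ha hb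
  have hα : (C.frame j).α (e m) = π (e m) :=
    InW.proj_eq ⟨C.ee m j, by rw [C.ef, if_neg hm]⟩
  rw [hα, hβ m hm, (C.frame j).ep_zero] at h
  exact (mul_inv_eq_iff_eq_mul.mp (mul_inv_eq_one.mp h)).symm

theorem M_eichler (C : Chart F z p π ρ e f) {j l : Fin 4} {b : G}
    (hρ : ρ b = eichler q8 (π (e j)) (π (e l))) (i k : Fin 4) : C.M b i k = pairM j l i k := by
  rw [M, hρ, eichler2 (C.qe j) (C.ee j l), C.qe, zero_mul, zero_smul, add_zero]
  simp only [map_add, map_smul, LinearMap.add_apply, LinearMap.smul_apply, smul_eq_mul, pairM]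
  rw [C.ff, C.ef, C.ef, show polB q8 (π (f i)) (π (e j)) = if j = i then 1 else 0 from C.fe j i,
    show polB q8 (π (f i)) (π (e l)) = if l = i then 1 else 0 from C.fe l i]
  exact (show ∀ j l i k : Fin 4, ((0 : ZMod 2) + (if j = i then (1 : ZMod 2) else 0) *
      (if l = k then 1 else 0)) + (if l = i then (1 : ZMod 2) else 0) * (if j = k then 1 else 0) =
      (if i = j ∧ k = l then 1 else 0) + (if i = l ∧ k = j then 1 else 0) by decide) j l i k

theorem exists_gen (C : Chart F z p π ρ e f) {j l : Fin 4} (hjl : j ≠ l) :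
    ∃ b ∈ half F (e j) p, b ∈ Cen p e ∧ b * b = 1 ∧ (C.frame j).β b = π (e l) ∧
      ∀ i k, C.M b i k = pairM j l i k := by
  obtain ⟨b, hb, hρ, hβ⟩ := (C.frame j).exists_eichler (w := π (e l)) (C.ee j l)
  have hw : InW (π (e j)) (π (f j)) (π (e l)) := ⟨C.ee l j, by rw [C.ef, if_neg (Ne.symm hjl)]⟩
  rw [hw.proj_eq] at hβ
  exact ⟨b, hb, C.half_mem_Cen hb (fun m _ => by rw [hβ]; exact C.ee m l),
    by rw [(C.frame j).sq_b hb, hβ, C.qe, bp_zero], hβ, C.M_eichler hρ⟩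

theorem gen_commute (C : Chart F z p π ρ e f) {j : Fin 4} {b b' : G} (hb : b ∈ half F (e j) p)
    (hb' : b' ∈ half F (e j) p) (h : B8 ((C.frame j).β b) ((C.frame j).β b') = 0) : Commute b b' := by
  have := (C.frame j).comm_bb hb hb'
  rw [h, bp_zero] at this
  exact mul_inv_eq_iff_eq_mul.mp (mul_inv_eq_one.mp this)

end Chart

end H19.C1M
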